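import Mathlib

/-!
# The local configuration `3³ : A₄` / `3³ : S₄` in the centraliser of a non-central element of `J`

Interface for the weak-hypothesis form of the three-local characterization of McL.
-/

set_option autoImplicit false

namespace CfsgLib.McLWeak

open Subgroup

universe u

/-- `J` of order 27 with basis `f`, the four-group `a` (`a k` fixes `f k` and inverts the other two), an
element `r` permuting both cyclically, and the centralisers known in advance. -/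
structure Core (X : Type u) [Group X] where
  J : Subgroup X
  f : Fin 3 → X
  a : Fin 3 → X
  r : X
  card_J : Nat.card J = 27
  J_comm : ∀ x ∈ J, ∀ y ∈ J, x * y = y * x
  f_cube : ∀ k, f k ^ 3 = 1
  gen : closure (Set.range f) = J
  a_ne : ∀ k, a k ≠ 1
  a_sq : ∀ k, a k * a k = 1
  a_mul : a 0 * a 1 = a 2
  a_comm : a 0 * a 1 = a 1 * a 0
  a_fix : ∀ k, a k * f k * (a k)⁻¹ = f k
  a_inv : ∀ k i, i ≠ k → a k * f i * (a k)⁻¹ = (f i)⁻¹
  r_cube : r ^ 3 = 1
  r_f : ∀ k, r * f k * r⁻¹ = f (k + 1)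
  r_a : ∀ k, r * a k * r⁻¹ = a (k + 1)
  centJ : centralizer (J : Set X) = J
  centF : centralizer ({f 0} : Set X) ≤ normalizer (J : Set X)
  centS : centralizer ({f 0 * f 1 * f 2} : Set X) ≤ normalizer (J : Set X)
  perm : ∀ g ∈ normalizer (J : Set X),
    ∃ k, g * f 0 * g⁻¹ = f k ∨ g * f 0 * g⁻¹ = (f k)⁻¹

namespace Core

variable {X : Type u} [Group X] (c : Core X)

/-- The case `N(J) = 3³ : A₄`. -/
def IsSmall : Prop :=
  ∀ g ∈ normalizer (c.J : Set X), g * c.f 0 * g⁻¹ = c.f 0 → g ∈ c.J ∨ g * c.a 0 ∈ c.J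

/-- The case `N(J) = 3³ : S₄`. -/
def IsBig : Prop :=
  ∃ e ∈ normalizer (c.J : Set X), e * c.f 0 * e⁻¹ = c.f 0 ∧ e * e * c.a 0 ∈ c.J ∧
    ∀ g ∈ normalizer (c.J : Set X), g * c.f 0 * g⁻¹ = c.f 0 →
      g ∈ c.J ∨ g * c.a 0 ∈ c.J ∨ g * e ∈ c.J ∨ g * e * c.a 0 ∈ c.J

end Core

end CfsgLib.McLWeak
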