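import Cfsg.Agent.Lib.McLThreeLocal.CentY
import Cfsg.Agent.Lib.McLWeak.Defs

/-!
# From the frame to the configuration in `C(z w)/⟨z w⟩`

`GData` collects what is known about `y = z w` in the group; `exists_core` passes to the quotient.
-/

set_option autoImplicit false
set_option linter.style.haveILetI false
set_option linter.unusedSectionVars false

namespace CfsgLib.McLWeak

open Subgroup CfsgLib.McLThreeLocal

universe u

/-- The facts about `y = z w` used in the quotient. -/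
structure GData {G : Type u} [Group G] (f : FrameCore G) where
  r : G
  r_M : r ∈ f.M
  r_y : r * (f.z * f.w) = f.z * f.w * r
  r_cube : r ^ 3 = 1
  r_t : r * f.t * r⁻¹ = f.j
  r_j : r * f.j * r⁻¹ = f.t * f.j
  centS : ∀ g : G, g * (f.z * f.w) = f.z * f.w * g →
    (∃ i : ℕ, g * (f.z * (r * f.z * r⁻¹) * (r * r * f.z * (r * r)⁻¹)) * g⁻¹ =
      f.z * (r * f.z * r⁻¹) * (r * r * f.z * (r * r)⁻¹) * (f.z * f.w) ^ i) →
    g ∈ normalizer (f.J : Set G)
  perm : ∀ g ∈ normalizer (f.J : Set G), g * (f.z * f.w) = f.z * f.w * g →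
    ∃ k < 3, ∃ i : ℕ, g * f.z * g⁻¹ = r ^ k * f.z * (r ^ k)⁻¹ * (f.z * f.w) ^ i ∨
      g * f.z * g⁻¹ = r ^ k * f.z⁻¹ * (r ^ k)⁻¹ * (f.z * f.w) ^ i
  centZ : ∀ g : G, g * (f.z * f.w) = f.z * f.w * g →
    (∃ i : ℕ, g * f.z * g⁻¹ = f.z * (f.z * f.w) ^ i) →
    g ∈ normalizer (f.J : Set G) ∧ g * f.z = f.z * g ∧ g * f.w = f.w * g
  cases : (∀ g : G, g * f.z = f.z * g → g * f.w = f.w * g → g ∈ f.J ∨ g * f.t ∈ f.J) ∨
    ∃ e ∈ normalizer (f.J : Set G), e * f.z = f.z * e ∧ e * f.w = f.w * e ∧ e * f.t = f.t * e ∧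
      e * e * f.t ∈ f.J ∧ ∀ g : G, g * f.z = f.z * g → g * f.w = f.w * g →
        g ∈ f.J ∨ g * f.t ∈ f.J ∨ g * e ∈ f.J ∨ g * e * f.t ∈ f.J

namespace Bridge

variable {G : Type u} [Group G] (f : FrameCore G)

/-- `C(y)` for `y = z w`. -/
abbrev Yg : Subgroup G := centralizer ({f.z * f.w} : Set G)

/-- `⟨y⟩` inside `C(y)`. -/
def Ny : Subgroup (Yg f) := (zpowers (f.z * f.w)).subgroupOf (Yg f)

instance Ny_normal : (Ny f).Normal where
  conj_mem x hx g := by
    rw [Ny, mem_subgroupOf] at hx ⊢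
    obtain ⟨i, hi⟩ := mem_zpowers_iff.1 hx
    have hc : Commute (g : G) (x : G) := hi ▸
      (show Commute (g : G) (f.z * f.w) from mem_centralizer_singleton_iff.1 g.2).zpow_right i
    rw [coe_mul, coe_mul, InvMemClass.coe_inv, hc.eq, mul_inv_cancel_right]
    exact hx

/-- `C(y)/⟨y⟩`. -/
abbrev Quot : Type u := Yg f ⧸ Ny f

/-- The projection. -/
abbrev π : Yg f →* Quot f := QuotientGroup.mk' (Ny f)

/-- The image of `J`. -/
def Jb : Subgroup (Quot f) := (f.J.subgroupOf (Yg f)).map (π f)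

lemma hJY : f.J ≤ Yg f := fun a ha => mem_centralizer_singleton_iff.2
  (f.hJcomm a ha _ (mul_mem (CentY.z_mem_J f) f.w_mem_J))

lemma yJ : f.z * f.w ∈ f.J := mul_mem (CentY.z_mem_J f) f.w_mem_J

lemma zpow_le : zpowers (f.z * f.w) ≤ f.J := zpowers_le.2 (yJ f)

lemma comm_y (g : Yg f) : (g : G) * (f.z * f.w) = f.z * f.w * g :=
  mem_centralizer_singleton_iff.1 g.2

lemma π_eq_iff [Finite G] (a b : Yg f) :
    π f a = π f b ↔ ∃ i : ℕ, (b : G) = a * (f.z * f.w) ^ i := by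
  rw [QuotientGroup.mk'_apply, QuotientGroup.mk'_apply, QuotientGroup.eq, Ny, mem_subgroupOf]
  rw [← mem_powers_iff_mem_zpowers, Submonoid.mem_powers_iff]
  refine exists_congr fun i => ?_
  rw [coe_mul, InvMemClass.coe_inv, eq_inv_mul_iff_mul_eq, eq_comm]

lemma π_mem (a : Yg f) : π f a ∈ Jb f ↔ (a : G) ∈ f.J := by
  refine ⟨?_, fun h => mem_map_of_mem _ (show a ∈ f.J.subgroupOf (Yg f) from h)⟩
  rintro ⟨b, hb, hab⟩
  have h1 : b⁻¹ * a ∈ Ny f := QuotientGroup.eq.1 hab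
  have h2 : ((b⁻¹ * a : Yg f) : G) ∈ f.J := zpow_le f h1
  have h3 := mul_mem (show (b : G) ∈ f.J from hb) h2
  simpa using h3

lemma norm_iff (a : Yg f) :
    π f a ∈ normalizer (Jb f : Set (Quot f)) ↔ (a : G) ∈ normalizer (f.J : Set G) := by
  constructor
  · intro h
    rw [mem_normalizer_iff]
    intro x
    have key : ∀ b : Yg f, (b : G) ∈ f.J ↔ (a : G) * b * (a : G)⁻¹ ∈ f.J := fun b => by
      rw [← π_mem f b, (mem_normalizer_iff.1 h (π f b)), ← map_inv, ← map_mul, ← map_mul, π_mem]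
      rfl
    refine ⟨fun hx => (key ⟨x, hJY f hx⟩).1 hx, fun hx => ?_⟩
    have hY : x ∈ Yg f := by
      have := (Yg f).mul_mem ((Yg f).mul_mem ((Yg f).inv_mem a.2) (hJY f hx)) a.2
      simpa [mul_assoc] using this
    exact (key ⟨x, hY⟩).2 hx
  · intro h
    rw [mem_normalizer_iff]
    intro x
    obtain ⟨b, rfl⟩ := QuotientGroup.mk'_surjective (Ny f) x
    rw [← map_inv, ← map_mul, ← map_mul, π_mem, π_mem]
    exact mem_normalizer_iff.1 h b

lemma card_Jb [Finite G] : Nat.card (Jb f) = 27 := by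
  have h1 : Nat.card (f.J.subgroupOf (Yg f)) = 81 := by
    rw [Nat.card_congr (subgroupOfEquivOfLe (hJY f)).toEquiv, f.hJcard]
  have hN : Nat.card (Ny f) = 3 := by
    rw [Ny, Nat.card_congr (subgroupOfEquivOfLe (zpow_le f |>.trans (hJY f))).toEquiv,
      Nat.card_zpowers]
    exact orderOf_eq_prime (f.hJexp _ (yJ f)) (CentY.y_ne_one f (Or.inl rfl))
  have hle : Ny f ≤ f.J.subgroupOf (Yg f) := fun x hx => zpow_le f hx
  set φ := (π f).domRestrict (f.J.subgroupOf (Yg f))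
  have hr : φ.range = Jb f := MonoidHom.domRestrict_range _ _
  have hk : φ.ker = (Ny f).subgroupOf (f.J.subgroupOf (Yg f)) := by
    rw [MonoidHom.ker_domRestrict, QuotientGroup.ker_mk']
  have h2 := Subgroup.card_mul_index φ.ker
  rw [Subgroup.index_ker, hr, h1, hk, Nat.card_congr (subgroupOfEquivOfLe hle).toEquiv, hN] at h2
  omega

variable {f} (d : GData f)

lemma r_norm : d.r ∈ normalizer (f.J : Set G) := by
  haveI : (f.J.subgroupOf f.M).Normal := f.φM_ker ▸ inferInstance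
  exact le_normalizer_of_normal_subgroupOf f.hJM d.r_M

lemma t_Y : f.t ∈ Yg f :=
  mem_centralizer_singleton_iff.2 (CentY.y_t f (Or.inl rfl)).symm

lemma j_comm : f.j * (f.z * f.w) = f.z * f.w * f.j := by
  calc f.j * (f.z * f.w) = (f.j * f.z * f.j⁻¹) * (f.j * f.w * f.j⁻¹) * f.j := by group
    _ = f.z * f.w * f.j := by rw [f.j_z, f.j_w, CentY.zw]

lemma j_Y : f.j ∈ Yg f := mem_centralizer_singleton_iff.2 j_comm

lemma r_Y : d.r ∈ Yg f := mem_centralizer_singleton_iff.2 d.r_y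

/-- `t`, `j`, `r`, `z` in `C(y)`. -/
def tY : Yg f := ⟨f.t, t_Y⟩
/-- see `tY` -/
def jY : Yg f := ⟨f.j, j_Y⟩
/-- see `tY` -/
def rY : Yg f := ⟨d.r, r_Y d⟩
/-- see `tY` -/
def zY : Yg f := ⟨f.z, hJY f (CentY.z_mem_J f)⟩

/-- The basis. -/
def fb (k : Fin 3) : Quot f := π f (rY d ^ (k : ℕ) * zY * (rY d ^ (k : ℕ))⁻¹)

/-- The four-group. -/
def ab : Fin 3 → Quot f := ![π f tY, π f jY, π f (tY * jY)]

lemma fb_zero : fb d 0 = π f zY := by simp [fb]

lemma fb_succ (k : Fin 3) : π f (rY d) * fb d k * (π f (rY d))⁻¹ = fb d (k + 1) := by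
  have h3 : rY d ^ 3 = 1 := Subtype.ext (by rw [SubmonoidClass.coe_pow]; exact d.r_cube)
  simp only [fb, ← map_inv, ← map_mul]
  congr 1
  fin_cases k
  · simp
  · simp [pow_succ, mul_assoc]
  · show rY d * (rY d ^ 2 * zY * (rY d ^ 2)⁻¹) * (rY d)⁻¹ = rY d ^ 0 * zY * (rY d ^ 0)⁻¹
    rw [pow_zero, one_mul, inv_one, mul_one]
    calc rY d * (rY d ^ 2 * zY * (rY d ^ 2)⁻¹) * (rY d)⁻¹ = rY d ^ 3 * zY * (rY d ^ 3)⁻¹ := by group
      _ = zY := by rw [h3, one_mul, inv_one, mul_one]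

lemma ab_succ (k : Fin 3) : π f (rY d) * ab k * (π f (rY d))⁻¹ = ab (k + 1) := by
  have e1 : rY d * tY * (rY d)⁻¹ = jY := Subtype.ext d.r_t
  have e2 : rY d * jY * (rY d)⁻¹ = tY * jY := Subtype.ext d.r_j
  have e3 : rY d * (tY * jY) * (rY d)⁻¹ = tY := by
    rw [show rY d * (tY * jY) * (rY d)⁻¹ = (rY d * tY * (rY d)⁻¹) * (rY d * jY * (rY d)⁻¹) by group,
      e1, e2]
    refine Subtype.ext ?_
    show f.j * (f.t * f.j) = f.t
    rw [← mul_assoc, f.jt, mul_assoc, f.j_sq, mul_one]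
  fin_cases k
  · simpa [ab, ← map_inv, ← map_mul] using congrArg (π f) e1
  · simpa [ab, ← map_inv, ← map_mul] using congrArg (π f) e2
  · simpa [ab, ← map_inv, ← map_mul] using congrArg (π f) e3

lemma ab_facts : (π f tY * π f tY = 1 ∧ π f jY * π f jY = 1 ∧ Commute (π f tY) (π f jY)) ∧
    (π f tY * π f zY * (π f tY)⁻¹ = π f zY ∧
      π f jY * π f zY * (π f jY)⁻¹ = (π f zY)⁻¹ ∧
      π f (tY * jY) * π f zY * (π f (tY * jY))⁻¹ = (π f zY)⁻¹) := by
  have hjt : (jY : Yg f) * tY = tY * jY := Subtype.ext f.jt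
  have htt : (tY : Yg f) * tY = 1 := Subtype.ext (CentY.tt f)
  have hjj : (jY : Yg f) * jY = 1 := Subtype.ext f.j_sq
  have htz : (tY : Yg f) * zY * tY⁻¹ = zY := mul_inv_eq_iff_eq_mul.2 (Subtype.ext f.tz)
  have hjz : π f (jY * zY * jY⁻¹) = (π f zY)⁻¹ := by
    rw [← map_inv, QuotientGroup.mk'_apply, QuotientGroup.mk'_apply, QuotientGroup.eq, Ny,
      mem_subgroupOf]
    show (f.j * f.z * f.j⁻¹)⁻¹ * f.z⁻¹ ∈ zpowers (f.z * f.w)
    rw [f.j_z, ← mul_inv_rev]
    exact inv_mem (mem_zpowers _)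
  refine ⟨⟨?_, ?_, ?_⟩, ?_, ?_, ?_⟩
  · rw [← map_mul, htt, map_one]
  · rw [← map_mul, hjj, map_one]
  · show π f tY * π f jY = π f jY * π f tY
    rw [← map_mul, ← map_mul, hjt]
  · rw [← map_inv, ← map_mul, ← map_mul, htz]
  · rw [← map_inv, ← map_mul, ← map_mul, hjz]
  · rw [map_mul]
    calc π f tY * π f jY * π f zY * (π f tY * π f jY)⁻¹
        = π f tY * (π f jY * π f zY * (π f jY)⁻¹) * (π f tY)⁻¹ := by group
      _ = (π f tY * π f zY * (π f tY)⁻¹)⁻¹ := by
          rw [show π f jY * π f zY * (π f jY)⁻¹ = (π f zY)⁻¹ by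
            rw [← map_inv, ← map_mul, ← map_mul, hjz]]
          group
      _ = (π f zY)⁻¹ := by rw [← map_inv (π f) tY, ← map_mul, ← map_mul, htz]

lemma rel (k i : Fin 3) :
    ab k * fb d i * (ab k)⁻¹ = if i = k then fb d i else (fb d i)⁻¹ := by
  obtain ⟨-, h0, h1, h2⟩ := ab_facts (f := f)
  rw [← fb_zero d] at h0 h1 h2
  have step : ∀ k i : Fin 3, ∀ x : Quot f, ab k * fb d i * (ab k)⁻¹ = x →
      ab (k + 1) * fb d (i + 1) * (ab (k + 1))⁻¹ = π f (rY d) * x * (π f (rY d))⁻¹ := by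
    intro k i x h
    rw [← h, ← ab_succ d k, ← fb_succ d i]
    group
  have r0 : ab 0 * fb d 0 * (ab 0)⁻¹ = fb d 0 := h0
  have r1 : ab 1 * fb d 0 * (ab 1)⁻¹ = (fb d 0)⁻¹ := h1
  have r2 : ab 2 * fb d 0 * (ab 2)⁻¹ = (fb d 0)⁻¹ := h2
  have inv : ∀ i, π f (rY d) * (fb d i)⁻¹ * (π f (rY d))⁻¹ = (fb d (i + 1))⁻¹ := fun i => by
    rw [← fb_succ d i]; group
  have s0 := step _ _ _ r0
  have s1 := step _ _ _ r1
  have s2 := step _ _ _ r2
  rw [fb_succ] at s0
  rw [inv] at s1 s2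
  have t0 := step _ _ _ s0
  have t1 := step _ _ _ s1
  have t2 := step _ _ _ s2
  rw [fb_succ] at t0
  rw [inv] at t1 t2
  fin_cases k <;> fin_cases i
  · exact r0
  · exact s2
  · exact t1
  · exact r1
  · exact s0
  · exact t2
  · exact r2
  · exact s1
  · exact t0

variable [Finite G]

lemma fb_mem (k : Fin 3) : fb d k ∈ Jb f := by
  rw [fb, π_mem]
  exact (mem_normalizer_iff.1 (pow_mem (r_norm d) k) _).1 (CentY.z_mem_J f)

lemma fb_cube (k : Fin 3) : fb d k ^ 3 = 1 := by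
  rw [fb, ← map_pow, conj_pow,
    show (zY : Yg f) ^ 3 = 1 from Subtype.ext (by
      rw [SubmonoidClass.coe_pow]; exact f.hJexp _ (CentY.z_mem_J f)),
    mul_one, mul_inv_cancel, map_one]

lemma fb_ne (k : Fin 3) : fb d k ≠ 1 := by
  intro h
  rw [fb, map_mul, map_mul, map_inv, conj_eq_one_iff, ← map_one (π f), π_eq_iff] at h
  obtain ⟨i, hi⟩ := h
  change (1 : G) = f.z * (f.z * f.w) ^ i at hi
  have h1 := congrArg (fun x => f.j * x * f.j⁻¹) hi
  rw [show f.j * (f.z * (f.z * f.w) ^ i) * f.j⁻¹ =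
      f.j * f.z * f.j⁻¹ * (f.j * (f.z * f.w) * f.j⁻¹) ^ i by rw [conj_pow]; group,
    j_comm, mul_inv_cancel_right, f.j_z, mul_one, mul_inv_cancel] at h1
  exact CentY.w_ne_z f (mul_right_cancel (h1.symm.trans hi))

lemma J_comm : ∀ x ∈ Jb f, ∀ y ∈ Jb f, x * y = y * x := by
  rintro _ ⟨a, ha, rfl⟩ _ ⟨b, hb, rfl⟩
  rw [← map_mul, ← map_mul]
  exact congrArg (π f) (Subtype.ext (f.hJcomm _ ha _ hb))

lemma gen : closure (Set.range (fb d)) = Jb f := by
  have hle : closure (Set.range (fb d)) ≤ Jb f := by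
    rw [closure_le]; rintro _ ⟨k, rfl⟩; exact fb_mem d k
  refine eq_of_le_of_card_ge hle ?_
  rw [card_Jb]
  let φ : Fin 3 × Fin 3 × Fin 3 → closure (Set.range (fb d)) := fun p =>
    ⟨fb d 0 ^ (p.1 : ℕ) * fb d 1 ^ (p.2.1 : ℕ) * fb d 2 ^ (p.2.2 : ℕ),
      mul_mem (mul_mem (pow_mem (subset_closure (Set.mem_range_self 0)) _)
        (pow_mem (subset_closure (Set.mem_range_self 1)) _))
        (pow_mem (subset_closure (Set.mem_range_self 2)) _)⟩
  have hφ : Function.Injective φ := by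
    rintro ⟨i, j, l⟩ ⟨i', j', l'⟩ h
    have h := congrArg Subtype.val h
    simp only [φ] at h
    have hcJ := J_comm (f := f)
    have hm := fb_mem d
    have hcube := fb_cube d
    have hne := fb_ne d
    set A := fb d 0 with hA
    set B := fb d 1 with hB
    set C := fb d 2 with hC
    have hAB : Commute A B := hcJ _ (hm 0) _ (hm 1)
    have hAC : Commute A C := hcJ _ (hm 0) _ (hm 2)
    have hBC : Commute B C := hcJ _ (hm 1) _ (hm 2)
    have hd : ∀ (x : Quot f) (n m : Fin 3), x ^ 3 = 1 → x ≠ 1 → x ^ (n : ℕ) = x ^ (m : ℕ) → n = m := by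
      intro x n m hx hx1 e
      have ho : orderOf x = 3 := orderOf_eq_prime hx hx1
      rw [pow_inj_mod, ho, Nat.mod_eq_of_lt n.2, Nat.mod_eq_of_lt m.2] at e
      exact Fin.ext e
    have hsq : ∀ (x : Quot f) (n : ℕ), x ^ 3 = 1 → (x⁻¹) ^ n = x ^ (2 * n) := fun x n hx => by
      rw [inv_eq_of_mul_eq_one_right (show x * x ^ 2 = 1 by rw [← pow_succ', hx]), ← pow_mul]
    have conj : ∀ (k : Fin 3), ab k * (A ^ (i : ℕ) * B ^ (j : ℕ) * C ^ (l : ℕ)) * (ab k)⁻¹ =
        (ab k * A * (ab k)⁻¹) ^ (i : ℕ) * (ab k * B * (ab k)⁻¹) ^ (j : ℕ) *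
          (ab k * C * (ab k)⁻¹) ^ (l : ℕ) := fun k => by simp only [conj_pow]; group
    have conj' : ∀ (k : Fin 3), ab k * (A ^ (i' : ℕ) * B ^ (j' : ℕ) * C ^ (l' : ℕ)) * (ab k)⁻¹ =
        (ab k * A * (ab k)⁻¹) ^ (i' : ℕ) * (ab k * B * (ab k)⁻¹) ^ (j' : ℕ) *
          (ab k * C * (ab k)⁻¹) ^ (l' : ℕ) := fun k => by simp only [conj_pow]; group
    have key : ∀ (x u v : Quot f), Commute x u → Commute x v → Commute u v → ∀ (n n' m m' q q' : ℕ),
        x ^ n * u ^ m * v ^ q = x ^ n' * u ^ m' * v ^ q' →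
        x ^ n * u⁻¹ ^ m * v⁻¹ ^ q = x ^ n' * u⁻¹ ^ m' * v⁻¹ ^ q' → x ^ (2 * n) = x ^ (2 * n') := by
      intro x u v hxu hxv huv n n' m m' q q' h1 h2
      have e : ∀ n m q : ℕ, (x ^ n * u ^ m * v ^ q) * (x ^ n * u⁻¹ ^ m * v⁻¹ ^ q) = x ^ (2 * n) := by
        intro n m q
        have c1 : Commute (u ^ m * v ^ q) (x ^ n) :=
          ((hxu.symm.pow_pow m n).mul_left (hxv.symm.pow_pow q n))
        have c2 : Commute (v ^ q) (u⁻¹ ^ m) := (huv.symm.inv_right).pow_pow q m
        calc _ = x ^ n * ((u ^ m * v ^ q) * x ^ n) * u⁻¹ ^ m * v⁻¹ ^ q := by simp only [mul_assoc]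
          _ = x ^ n * x ^ n * (u ^ m * (v ^ q * u⁻¹ ^ m)) * v⁻¹ ^ q := by
              rw [c1.eq]; simp only [mul_assoc]
          _ = x ^ n * x ^ n * (u ^ m * u⁻¹ ^ m * (v ^ q * v⁻¹ ^ q)) := by
              rw [c2.eq]; simp only [mul_assoc]
          _ = _ := by simp [inv_pow, two_mul, pow_add]
      rw [← e n m q, ← e n' m' q', h1, h2]
    have r00 := rel d 0 0; have r01 := rel d 0 1; have r02 := rel d 0 2
    have r10 := rel d 1 0; have r11 := rel d 1 1; have r12 := rel d 1 2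
    simp only [← hA, ← hB, ← hC, Fin.reduceEq, if_true, if_false] at r00 r01 r02 r10 r11 r12
    have h0 := congrArg (fun x => ab 0 * x * (ab 0)⁻¹) h
    have h1 := congrArg (fun x => ab 1 * x * (ab 1)⁻¹) h
    simp only [conj, conj', r00, r01, r02, r10, r11, r12] at h0 h1
    have eA := key A B C hAB hAC hBC _ _ _ _ _ _ h h0
    have sw : ∀ (x y z : Quot f), Commute x y → x * y * z = y * x * z := fun x y z c => by rw [c.eq]
    rw [sw _ _ _ (hAB.pow_pow _ _), sw _ _ _ (hAB.pow_pow _ _)] at h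
    rw [sw _ _ _ (hAB.inv_left.pow_pow _ _), sw _ _ _ (hAB.inv_left.pow_pow _ _)] at h1
    have eB := key B A C hAB.symm hBC hAC _ _ _ _ _ _ h h1
    have half : ∀ (x : Quot f) (n : ℕ), x ^ 3 = 1 → (x ^ (2 * n)) ^ 2 = x ^ n := fun x n hx => by
      rw [← pow_mul, show 2 * n * 2 = 3 * n + n by ring, pow_add, pow_mul, hx, one_pow, one_mul]
    have hi : i = i' := hd A i i' (hcube 0) (hne 0) (by
      rw [← half A i (hcube 0), eA, half A i' (hcube 0)])
    have hj : j = j' := hd B j j' (hcube 1) (hne 1) (by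
      rw [← half B j (hcube 1), eB, half B j' (hcube 1)])
    subst hi hj
    have hl : l = l' := hd C l l' (hcube 2) (hne 2) (mul_left_cancel h)
    rw [hl]
  have := Nat.card_le_card_of_injective φ hφ
  simpa using this

include d in
lemma centJ : centralizer (Jb f : Set (Quot f)) = Jb f := by
  refine le_antisymm (fun x hx => ?_) (fun x hx => mem_centralizer_iff.2 fun y hy => J_comm y hy x hx)
  obtain ⟨g, rfl⟩ := QuotientGroup.mk'_surjective (Ny f) x
  rw [π_mem]
  have hc : ∀ k, π f g * fb d k = fb d k * π f g := fun k =>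
    (mem_centralizer_iff.1 hx _ (fb_mem d k)).symm
  have hz : π f (g * zY * g⁻¹) = π f zY := by
    rw [map_mul, map_mul, map_inv, ← fb_zero d, hc 0, mul_inv_cancel_right]
  obtain ⟨i, hi⟩ := (π_eq_iff f _ _).1 hz.symm
  obtain ⟨-, hgz, hgw⟩ := d.centZ g (comm_y f g) ⟨i, hi⟩
  have hJc : ∀ a : Yg f, (a : G) ∈ f.J → π f a * fb d 1 = fb d 1 * π f a := fun a ha =>
    J_comm _ ((π_mem f a).2 ha) _ (fb_mem d 1)
  have ht : π f tY * fb d 1 ≠ fb d 1 * π f tY := by
    intro hcon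
    have hr := rel d 0 1
    simp only [ab, Matrix.cons_val_zero, Fin.reduceEq, if_false] at hr
    rw [hcon, mul_inv_cancel_right] at hr
    apply fb_ne d 1
    have h2 : fb d 1 * fb d 1 = 1 := by nth_rewrite 2 [hr]; exact mul_inv_cancel _
    calc fb d 1 = fb d 1 ^ 3 * (fb d 1 * fb d 1)⁻¹ := by group
      _ = 1 := by rw [fb_cube, h2]; simp
  have hgt : (g : G) * f.t ∉ f.J := fun h => ht (by
    have hm := hJc (g * tY) h
    rw [map_mul, mul_assoc] at hm
    refine mul_left_cancel (a := π f g) (hm.trans ?_)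
    rw [← mul_assoc, ← hc 1, mul_assoc])
  rcases d.cases with hs | ⟨e, -, hez, hew, het, hee, hb⟩
  · exact (hs g hgz hgw).resolve_right hgt
  · have heY : e ∈ Yg f := mem_centralizer_singleton_iff.2
      ((show Commute e f.z from hez).mul_right hew).eq
    let eY : Yg f := ⟨e, heY⟩
    have hne : π f eY * fb d 1 ≠ fb d 1 * π f eY := fun hce => by
      have hm := hJc (eY * eY * tY) hee
      rw [map_mul, map_mul, mul_assoc] at hm
      refine ht (mul_left_cancel (a := π f eY * π f eY) (hm.trans ?_))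
      simp only [← mul_assoc]
      rw [← hce, mul_assoc (π f eY) (fb d 1), ← hce]
      simp only [mul_assoc]
    have hge : (g : G) * e ∉ f.J := fun h => hne (by
      have hm := hJc (g * eY) h
      rw [map_mul, mul_assoc] at hm
      refine mul_left_cancel (a := π f g) (hm.trans ?_)
      rw [← mul_assoc, ← hc 1, mul_assoc])
    have hget : (g : G) * e * f.t ∉ f.J := fun h => by
      have hm := hJc (g * eY * tY) h
      rw [map_mul, map_mul, mul_assoc (π f g), mul_assoc] at hm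
      have hm' : π f eY * π f tY * fb d 1 = fb d 1 * (π f eY * π f tY) := by
        refine mul_left_cancel (a := π f g) (hm.trans ?_)
        rw [← mul_assoc, ← hc 1, mul_assoc]
      have hcet : Commute (π f eY) (π f tY) := by
        show _ * _ = _ * _
        rw [← map_mul, ← map_mul]
        exact congrArg (π f) (Subtype.ext het)
      obtain ⟨⟨htt, -, -⟩, -⟩ := ab_facts (f := f)
      have hsq : π f eY * π f tY * (π f eY * π f tY) = π f eY * π f eY := by
        calc _ = π f eY * (π f tY * π f eY) * π f tY := by simp only [mul_assoc]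
          _ = π f eY * π f eY * (π f tY * π f tY) := by rw [← hcet.eq]; simp only [mul_assoc]
          _ = _ := by rw [htt, mul_one]
      have h2 : π f eY * π f eY * fb d 1 = fb d 1 * (π f eY * π f eY) := by
        rw [← hsq]
        exact ((show Commute (π f eY * π f tY) (fb d 1) from hm').mul_left hm').eq
      have hm2 := hJc (eY * eY * tY) hee
      rw [map_mul, map_mul, mul_assoc] at hm2
      refine ht (mul_left_cancel (a := π f eY * π f eY) (hm2.trans ?_))
      simp only [← mul_assoc]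
      rw [← mul_assoc] at h2
      rw [← h2]
    rcases hb g hgz hgw with h | h | h | h
    · exact h
    · exact absurd h hgt
    · exact absurd h hge
    · exact absurd h hget

lemma ab_sq (k : Fin 3) : ab (f := f) k * ab k = 1 := by
  obtain ⟨⟨h0, h1, hc⟩, -⟩ := ab_facts (f := f)
  fin_cases k
  · exact h0
  · exact h1
  · show π f (tY * jY) * π f (tY * jY) = 1
    rw [map_mul]
    calc π f tY * π f jY * (π f tY * π f jY)
        = π f tY * (π f jY * π f tY) * π f jY := by simp only [mul_assoc]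
      _ = (π f tY * π f tY) * (π f jY * π f jY) := by rw [← hc.eq]; simp only [mul_assoc]
      _ = 1 := by rw [h0, h1, one_mul]

/-- The configuration in the quotient. -/
def core : Core (Quot f) :=
  { J := Jb f
    f := fb d
    a := ab
    r := π f (rY d)
    card_J := card_Jb f
    J_comm := J_comm
    f_cube := fb_cube d
    gen := gen d
    a_ne := fun k hk => by
      have := rel d k (k + 1)
      rw [hk, one_mul, inv_one, mul_one, if_neg (by fin_cases k <;> decide)] at this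
      have h2 : fb d (k + 1) * fb d (k + 1) = 1 := by nth_rewrite 2 [this]; exact mul_inv_cancel _
      exact fb_ne d (k + 1) (by
        calc fb d (k + 1) = fb d (k + 1) ^ 3 * (fb d (k + 1) * fb d (k + 1))⁻¹ := by group
          _ = 1 := by rw [fb_cube, h2]; simp)
    a_sq := ab_sq
    a_mul := (map_mul (π f) tY jY).symm
    a_comm := (ab_facts (f := f)).1.2.2
    a_fix := fun k => by rw [rel, if_pos rfl]
    a_inv := fun k i hik => by rw [rel, if_neg hik]
    r_cube := by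
      rw [← map_pow, show rY d ^ 3 = 1 from Subtype.ext (by
        rw [SubmonoidClass.coe_pow]; exact d.r_cube), map_one]
    r_f := fb_succ d
    r_a := ab_succ d
    centJ := centJ d
    centF := fun x hx => by
      obtain ⟨g, rfl⟩ := QuotientGroup.mk'_surjective (Ny f) x
      rw [norm_iff]
      have hc := mem_centralizer_singleton_iff.1 hx
      have hz : π f (g * zY * g⁻¹) = π f zY := by
        rw [map_mul, map_mul, map_inv, ← fb_zero d, hc, mul_inv_cancel_right]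
      obtain ⟨i, hi⟩ := (π_eq_iff f _ _).1 hz.symm
      exact (d.centZ g (comm_y f g) ⟨i, hi⟩).1
    centS := fun x hx => by
      obtain ⟨g, rfl⟩ := QuotientGroup.mk'_surjective (Ny f) x
      rw [norm_iff]
      set s : Yg f := zY * (rY d * zY * (rY d)⁻¹) * (rY d * rY d * zY * (rY d * rY d)⁻¹) with hs
      have e : fb d 0 * fb d 1 * fb d 2 = π f s := by
        simp only [hs, fb, ← map_mul]
        congr 1
        simp [pow_two]
      have hc := mem_centralizer_singleton_iff.1 hx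
      rw [e] at hc
      have hz : π f (g * s * g⁻¹) = π f s := by
        rw [map_mul, map_mul, map_inv, hc, mul_inv_cancel_right]
      obtain ⟨i, hi⟩ := (π_eq_iff f _ _).1 hz.symm
      exact d.centS g (comm_y f g) ⟨i, hi⟩
    perm := fun x hx => by
      obtain ⟨g, rfl⟩ := QuotientGroup.mk'_surjective (Ny f) x
      rw [norm_iff] at hx
      obtain ⟨k, hk, i, h⟩ := d.perm g hx (comm_y f g)
      refine ⟨⟨k, hk⟩, ?_⟩
      rw [fb_zero, ← map_inv, ← map_mul, ← map_mul, fb, ← map_inv]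
      rcases h with h | h
      · exact Or.inl ((π_eq_iff f _ _).2 ⟨i, h⟩).symm
      · refine Or.inr ((π_eq_iff f _ _).2 ⟨i, ?_⟩).symm
        refine h.trans ?_
        show _ = ((rY d ^ k * zY * (rY d ^ k)⁻¹)⁻¹ : Yg f) * (f.z * f.w) ^ i
        simp [rY, zY, mul_assoc] }

/-- The kind of the quotient configuration. -/
lemma small_or_big : (core d).IsSmall ∨ (core d).IsBig := by
  have hfix : ∀ g : Yg f, π f g * fb d 0 * (π f g)⁻¹ = fb d 0 →
      (g : G) * f.z = f.z * g ∧ (g : G) * f.w = f.w * g := fun g hg => by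
    rw [fb_zero, ← map_inv, ← map_mul, ← map_mul] at hg
    obtain ⟨i, hi⟩ := (π_eq_iff f _ _).1 hg.symm
    exact (d.centZ g (comm_y f g) ⟨i, hi⟩).2
  rcases d.cases with hs | ⟨e, heN, hez, hew, het, hee, hb⟩
  · left
    intro x _ hx
    obtain ⟨g, rfl⟩ := QuotientGroup.mk'_surjective (Ny f) x
    obtain ⟨hgz, hgw⟩ := hfix g hx
    rcases hs g hgz hgw with h | h
    · exact Or.inl ((π_mem f g).2 h)
    · exact Or.inr (by
        show π f g * π f tY ∈ Jb f
        rw [← map_mul, π_mem]; exact h)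
  · right
    have heY : e ∈ Yg f := mem_centralizer_singleton_iff.2
      ((show Commute e f.z from hez).mul_right hew).eq
    refine ⟨π f ⟨e, heY⟩, (norm_iff f _).2 heN, ?_, ?_, ?_⟩
    · show π f ⟨e, heY⟩ * fb d 0 * _ = fb d 0
      rw [fb_zero, ← map_inv, ← map_mul, ← map_mul]
      congr 1
      exact mul_inv_eq_iff_eq_mul.2 (Subtype.ext hez)
    · show π f ⟨e, heY⟩ * π f ⟨e, heY⟩ * π f tY ∈ Jb f
      rw [← map_mul, ← map_mul, π_mem]; exact hee
    · intro x _ hx
      obtain ⟨g, rfl⟩ := QuotientGroup.mk'_surjective (Ny f) x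
      obtain ⟨hgz, hgw⟩ := hfix g hx
      show _ ∨ π f g * π f tY ∈ Jb f ∨ _ ∨ π f g * π f ⟨e, heY⟩ * π f tY ∈ Jb f
      rw [← map_mul, ← map_mul, ← map_mul]
      show π f g ∈ Jb f ∨ _ ∨ π f (g * ⟨e, heY⟩) ∈ Jb f ∨ _
      rw [π_mem, π_mem, π_mem, π_mem]
      exact hb g hgz hgw

include d in
/-- `C(y) ≤ N(J)` for both points, given the recognition in the quotient. -/
theorem centY (H : ∀ (c : Core (Quot f)), c.IsSmall ∨ c.IsBig →
    normalizer (c.J : Set (Quot f)) = ⊤) :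
    ∀ y : G, y = f.z * f.w ∨ y = f.z * f.w⁻¹ →
      centralizer ({y} : Set G) ≤ normalizer (f.J : Set G) := by
  have h1 : Yg f ≤ normalizer (f.J : Set G) := fun g hg => by
    have h := H (core d) (small_or_big d)
    exact (norm_iff f ⟨g, hg⟩).1 (h ▸ mem_top _)
  rintro y (rfl | rfl)
  · exact h1
  · intro g hg
    have hk : f.k * (f.z * f.w) * f.k⁻¹ = f.z * f.w⁻¹ := by
      rw [show f.k * (f.z * f.w) * f.k⁻¹ = f.k * f.z * f.k⁻¹ * (f.k * f.w * f.k⁻¹) by group, f.k_w,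
        f.K_z _ f.k_mem_K, mul_inv_cancel_right]
    have hc : f.k⁻¹ * g * f.k ∈ Yg f := by
      rw [mem_centralizer_singleton_iff]
      have hg' := mem_centralizer_singleton_iff.1 hg
      rw [← hk] at hg'
      calc f.k⁻¹ * g * f.k * (f.z * f.w)
          = f.k⁻¹ * (g * (f.k * (f.z * f.w) * f.k⁻¹)) * f.k := by group
        _ = f.k⁻¹ * (f.k * (f.z * f.w) * f.k⁻¹ * g) * f.k := by rw [hg']
        _ = _ := by group
    have := mul_mem (mul_mem f.k_normJ (h1 hc)) (inv_mem f.k_normJ)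
    simpa [mul_assoc] using this

end Bridge

end CfsgLib.McLWeak
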