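import Cfsg.Agent.Lib.McLThreeLocal.SLFive
import Cfsg.Agent.Lib.McLThreeLocal.FrameSix

/-!
Finite facts for the centraliser of `z` and `w`: elements of order three of `SL(2,5)` are conjugate, and the
elements of the fixed Sylow three-subgroup of `A₆` permute cyclically the involutions of a four-group.
-/

set_option autoImplicit false
set_option maxRecDepth 20000

namespace CfsgLib.McLWeak.CentZWFacts

open Equiv CfsgLib.McLThreeLocal Matrix MatrixGroups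

/-- Conjugators onto the elements of order three. -/
def conjs : List SLFive.T :=
  [(0, 2, 2, 3), (1, 1, 3, 4), (1, 2, 4, 4), (0, 1, 4, 1), (0, 2, 2, 1), (1, 1, 0, 1), (1, 2, 2, 0),
   (0, 1, 4, 2), (0, 2, 2, 4), (1, 1, 2, 3), (1, 2, 0, 1), (0, 1, 4, 3), (0, 2, 2, 2), (1, 1, 4, 0),
   (1, 2, 3, 2), (0, 1, 4, 4), (0, 2, 2, 0), (1, 1, 1, 2), (1, 2, 1, 3), (0, 1, 4, 0)]

theorem conjs_det : ∀ g ∈ conjs, g.1 * g.2.2.2 - g.2.1 * g.2.2.1 = 1 := by decide +kernel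

theorem conjs_spec : ∀ a b c d : ZMod 5, a * d - b * c = 1 → (a, b, c, d) ≠ ((1, 0, 0, 1) : SLFive.T) →
    SLFive.tmul (SLFive.tmul (a, b, c, d) (a, b, c, d)) (a, b, c, d) = (1, 0, 0, 1) →
    ∃ g ∈ conjs, SLFive.tmul g (0, 4, 1, 4) = SLFive.tmul (a, b, c, d) g := by
  decide +kernel

theorem exists_conj (σ : SL(2, ZMod 5)) (h1 : σ ≠ 1) (h3 : σ ^ 3 = 1) (τ : SL(2, ZMod 5))
    (hτ1 : τ ≠ 1) (hτ3 : τ ^ 3 = 1) : ∃ h : SL(2, ZMod 5), h * σ = τ * h := by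
  have key : ∀ x : SL(2, ZMod 5), x ≠ 1 → x ^ 3 = 1 →
      ∃ g : SL(2, ZMod 5), SLFive.tmul (SLFive.ent g) (0, 4, 1, 4) = SLFive.tmul (SLFive.ent x) (SLFive.ent g) := by
    intro x hx1 hx3
    obtain ⟨g, hg, hp⟩ := conjs_spec _ _ _ _ (SLFive.ent_det x)
      (fun hh => hx1 (SLFive.ent_injective (hh.trans SLFive.ent_one.symm)))
      (by rw [← SLFive.ent_one, ← hx3, pow_succ, pow_two, SLFive.ent_mul, SLFive.ent_mul])
    obtain ⟨G, rfl⟩ := SLFive.exists_of_ent g (conjs_det g hg)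
    exact ⟨G, hp⟩
  obtain ⟨τ₀, hτ₀⟩ := SLFive.exists_of_ent (0, 4, 1, 4) (by decide)
  obtain ⟨g, hg⟩ := key σ h1 h3
  obtain ⟨g', hg'⟩ := key τ hτ1 hτ3
  rw [← hτ₀, ← SLFive.ent_mul, ← SLFive.ent_mul] at hg hg'
  refine ⟨g' * g⁻¹, ?_⟩
  calc g' * g⁻¹ * σ = g' * g⁻¹ * (σ * g) * g⁻¹ := by group
    _ = g' * τ₀ * g⁻¹ := by rw [← SLFive.ent_injective hg]; group
    _ = τ * (g' * g⁻¹) := by rw [SLFive.ent_injective hg']; group

/-- The four-group permuted by an element of `P₀`. -/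
theorem four_group : ∀ s : Perm (Fin 6), FrameSix.InP0 s → Perm.sign s = 1 → s ≠ 1 →
    ∃ v : Perm (Fin 6), Perm.sign v = 1 ∧ v * v = 1 ∧ v ≠ 1 ∧
      v * (s * v * s⁻¹) = s * (s * v * s⁻¹) * s⁻¹ ∧
      (s * v * s⁻¹) * v = s * (s * v * s⁻¹) * s⁻¹ := by
  decide +kernel

end CfsgLib.McLWeak.CentZWFacts
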