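import Cfsg.Agent.Lib.McLThreeLocal.CentY
import Cfsg.Agent.Lib.McLThreeLocal.LocalZ
import Cfsg.Agent.Lib.McLThreeLocal.MinusOne
import Cfsg.Agent.Lib.McLThreeLocal.FrameTMem
import Cfsg.Agent.Lib.McLWeak.CentZWFacts

/-!
The elements fixing `z` and `w`: they normalise `J`; their number in the two cases, and in the big case the
element of order four modulo `J`.
-/

set_option autoImplicit false
set_option maxRecDepth 8000
set_option linter.unusedSectionVars false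
set_option linter.style.haveILetI false

namespace CfsgLib.McLWeak.CentZW

open Subgroup Equiv CfsgLib.McLThreeLocal CfsgLib.DivisionFinite MatrixGroups

universe u

variable {G : Type u} [Group G] [Finite G] (f : FrameCore G)

theorem zt : f.z * f.t = f.t * f.z := f.tz.symm

theorem wt : f.w * f.t = f.t * f.w := f.K_t _ f.w_mem_K

theorem wz : f.w * f.z = f.z * f.w := f.K_z _ f.w_mem_K

theorem w_cube : f.w ^ 3 = 1 := f.w_order ▸ pow_orderOf_eq_one f.w

theorem w_ne : f.w ≠ 1 := fun h => by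
  have := f.w_order
  rw [h, orderOf_one] at this
  omega

theorem w_notQ : f.w ∉ f.Q := fun h => w_ne f (f.toLocalZ.Q_inf_K h f.w_mem_K)

theorem w_mem_S : f.w ∈ (f.S : Subgroup G) := f.hJS f.w_mem_J

theorem Z_le_C : f.Z ≤ f.J ⊓ f.Q := le_inf f.Z_le_J f.Z_le_Q

theorem w_pow_cases {i : ℕ} : f.w ^ i = 1 ∨ ∃ m : ℕ, (f.w ^ i) ^ m = f.w := by
  by_cases h : 3 ∣ i
  · obtain ⟨d, rfl⟩ := h
    left
    rw [pow_mul, w_cube, one_pow]
  · right
    exact exists_pow_eq_self_of_coprime (by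
      rw [f.w_order, Nat.coprime_comm, Nat.Prime.coprime_iff_not_dvd Nat.prime_three]
      exact h)

theorem S_decomp {s : G} (hs : s ∈ (f.S : Subgroup G)) : ∃ a ∈ f.Q, ∃ i : ℕ, s = a * f.w ^ i := by
  let F : f.Q × Fin 3 → (f.S : Subgroup G) := fun p =>
    ⟨(p.1 : G) * f.w ^ (p.2 : ℕ), mul_mem (f.Q_le_S p.1.2) (pow_mem (w_mem_S f) _)⟩
  have hinj : Function.Injective F := by
    intro p q h
    have h' : (p.1 : G) * f.w ^ (p.2 : ℕ) = q.1 * f.w ^ (q.2 : ℕ) := congrArg Subtype.val h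
    have h1 : (q.1 : G)⁻¹ * p.1 = f.w ^ (q.2 : ℕ) * (f.w ^ (p.2 : ℕ))⁻¹ := by
      rw [inv_mul_eq_iff_eq_mul, ← mul_assoc, eq_mul_inv_iff_mul_eq, h']
    have hone := f.toLocalZ.Q_inf_K (mul_mem (inv_mem q.1.2) p.1.2)
      (h1 ▸ mul_mem (pow_mem f.w_mem_K _) (inv_mem (pow_mem f.w_mem_K _)))
    have e1 : (p.1 : G) = q.1 := (inv_mul_eq_one.1 hone).symm
    rw [e1] at h'
    exact Prod.ext (Subtype.ext e1) (Fin.ext (pow_injOn_Iio_orderOf
      (by rw [Set.mem_Iio, f.w_order]; exact p.2.2) (by rw [Set.mem_Iio, f.w_order]; exact q.2.2)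
      (mul_left_cancel h')))
  have hsurj := ((Nat.bijective_iff_injective_and_card F).2 ⟨hinj, by
    rw [Nat.card_prod, f.hQcard, f.S_card, Nat.card_fin]⟩).2
  obtain ⟨p, hp⟩ := hsurj ⟨s, hs⟩
  exact ⟨p.1, p.1.2, p.2, (congrArg Subtype.val hp).symm⟩

theorem S_normJ {s : G} (hs : s ∈ (f.S : Subgroup G)) : s ∈ normalizer (f.J : Set G) :=
  f.toLocalZ.normJ_of_conj_S fun _ hx => mul_mem (mul_mem hs hx) (inv_mem hs)

theorem conjJ {g x : G} (hg : g ∈ normalizer (f.J : Set G)) (hx : x ∈ f.J) : g * x * g⁻¹ ∈ f.J :=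
  (mem_normalizer_iff.1 hg x).1 hx

/-- Elements fixing `z` and `w` normalise `J`. -/
theorem normJ {g : G} (hz : g * f.z = f.z * g) (hw : g * f.w = f.w * g) :
    g ∈ normalizer (f.J : Set G) :=
  f.toLocalZ.normJ_of_conj_S fun _ hs => f.toLocalZ.K_conj_S hz (fun _ h => S_decomp f h)
    (by rw [hw, mul_inv_cancel_right]; exact w_mem_S f) hs

theorem conjC {g a : G} (hz : g * f.z = f.z * g) (hg : g ∈ normalizer (f.J : Set G))
    (ha : a ∈ f.J ⊓ f.Q) : g * a * g⁻¹ ∈ f.J ⊓ f.Q :=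
  ⟨conjJ f hg ha.1, f.toLocalZ.cent_z_normQ hz ha.2⟩

theorem C_conjQ {a d : G} (ha : a ∈ f.Q) (hd : d ∈ f.J ⊓ f.Q) : a * d * a⁻¹ ∈ f.J ⊓ f.Q :=
  conjC f (f.toLocalZ.Q_comm_z ha) (S_normJ f (f.Q_le_S ha)) hd

/-- An element of the centraliser of `y` sending `z` into `z ⟨y⟩` fixes `z` and `w` and normalises `J`. -/
theorem centZ {g : G} (hy : g * (f.z * f.w) = f.z * f.w * g)
    (h : ∃ i : ℕ, g * f.z * g⁻¹ = f.z * (f.z * f.w) ^ i) :
    g ∈ normalizer (f.J : Set G) ∧ g * f.z = f.z * g ∧ g * f.w = f.w * g := by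
  obtain ⟨i, hi⟩ := h
  have hc : Commute f.z f.w := (wz f).symm
  have hz3 := f.toLocalZ.z_cube
  have hy3 : (f.z * f.w) ^ 3 = 1 := by rw [hc.mul_pow, hz3, w_cube, one_mul]
  have hgy : g * (f.z * f.w) * g⁻¹ = f.z * f.w := by rw [hy, mul_inv_cancel_right]
  have hzz : f.z * f.z = f.z⁻¹ := eq_inv_of_mul_eq_one_left (by rwa [pow_succ, pow_two] at hz3)
  have hww : f.w * f.w = f.w⁻¹ := eq_inv_of_mul_eq_one_left (by
    have := w_cube f; rwa [pow_succ, pow_two] at this)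
  rw [pow_eq_pow_mod i hy3] at hi
  rcases (show i % 3 = 0 ∨ i % 3 = 1 ∨ i % 3 = 2 by omega) with e | e | e <;> rw [e] at hi
  · rw [pow_zero, mul_one] at hi
    have hz : g * f.z = f.z * g := mul_inv_eq_iff_eq_mul.1 hi
    have hw : g * f.w = f.w * g := by
      refine mul_inv_eq_iff_eq_mul.1 (mul_left_cancel (a := f.z) ?_)
      conv_lhs => arg 1; rw [← hi]
      rw [show g * f.z * g⁻¹ * (g * f.w * g⁻¹) = g * (f.z * f.w) * g⁻¹ by group, hgy]
    exact ⟨normJ f hz hw, hz, hw⟩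
  · exfalso
    refine CentY.y_not_Z f (Or.inl rfl) (CentY.kTwo f * g) ?_
    rw [show CentY.kTwo f * g * f.z * (CentY.kTwo f * g)⁻¹ = CentY.kTwo f * (g * f.z * g⁻¹) * (CentY.kTwo f)⁻¹ by group,
      hi, pow_one, ← mul_assoc f.z f.z f.w, hzz, ← conj_mul, ← conj_inv, CentY.kTwo_z, inv_inv, CentY.kTwo_w,
      mul_inv_cancel_right]
  · exfalso
    refine CentY.y_not_Z f (Or.inr rfl) (g * f.j) ?_
    have hi' : g * f.z * g⁻¹ = f.w⁻¹ := by
      rw [hi, pow_two, show f.z * (f.z * f.w * (f.z * f.w)) = f.z * f.z * (f.w * f.z) * f.w by group,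
        wz f, show f.z * f.z * (f.z * f.w) * f.w = (f.z * f.z) * f.z * (f.w * f.w) by group, hzz, hww,
        inv_mul_cancel, one_mul]
    rw [show g * f.j * f.z * (g * f.j)⁻¹ = g * (f.j * f.z * f.j⁻¹) * g⁻¹ by group, f.j_z,
      show g * f.w * g⁻¹ = (g * f.z * g⁻¹)⁻¹ * (g * (f.z * f.w) * g⁻¹) by group, hi', hgy, inv_inv,
      ← mul_assoc, wz f, mul_assoc, hww]

/-- No subgroup of index three of `Q` over `Z` is invariant under `k`. -/
theorem no_k_inv {A : Subgroup G} (hA : A ≤ f.Q) (hZ : f.Z ≤ A) (hcard : Nat.card A = 81)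
    (hk : ∀ a ∈ A, f.k * a * f.k⁻¹ ∈ A) : False := by
  have hkz : f.k * f.z = f.z * f.k := f.K_z _ f.k_mem_K
  have hnorm : ∀ q ∈ f.Q, ∀ x ∈ A, q * x * q⁻¹ ∈ A := fun q hq x hx => by
    have := mul_mem (hZ (f.Q_comm q hq x (hA hx))) hx
    rwa [inv_mul_cancel_right] at this
  obtain ⟨a, ha, haA⟩ : ∃ a ∈ f.Q, a ∉ A := by
    by_contra h
    push Not at h
    have := Subgroup.card_le_of_le (H := f.Q) (K := A) h
    rw [f.hQcard, hcard] at this
    omega
  have ha3 : a * a * a = 1 := by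
    have := f.hQexp a ha
    rwa [pow_succ, pow_two] at this
  have hsq : a * a ∉ A := fun h => haA (by
    have := mul_mem h h
    rwa [show a * a * (a * a) = a * a * a * a by group, ha3, one_mul] at this)
  let F : A × Fin 3 → f.Q := fun p => ⟨(p.1 : G) * a ^ (p.2 : ℕ), mul_mem (hA p.1.2) (pow_mem ha _)⟩
  have hinj : Function.Injective F := by
    intro p q h
    have h' : (p.1 : G) * a ^ (p.2 : ℕ) = q.1 * a ^ (q.2 : ℕ) := congrArg Subtype.val h
    have hmem : a ^ (q.2 : ℕ) * (a ^ (p.2 : ℕ))⁻¹ ∈ A := by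
      have e : a ^ (q.2 : ℕ) * (a ^ (p.2 : ℕ))⁻¹ = (q.1 : G)⁻¹ * p.1 := by
        rw [mul_inv_eq_iff_eq_mul, mul_assoc, h', inv_mul_cancel_left]
      rw [e]; exact mul_mem (inv_mem q.1.2) p.1.2
    have e2 : (p.2 : ℕ) = q.2 := by
      obtain ⟨⟨_, _⟩, ⟨i, hi⟩⟩ := p
      obtain ⟨⟨_, _⟩, ⟨j, hj⟩⟩ := q
      simp only at hmem ⊢
      interval_cases i <;> interval_cases j <;> first | rfl | exfalso
      all_goals simp only [pow_zero, pow_one, pow_two, inv_one, mul_one, one_mul, mul_inv_rev,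
        mul_inv_cancel_right, inv_mem_iff, mul_inv_cancel_left] at hmem
      all_goals first
        | exact haA hmem
        | exact haA (by simpa using inv_mem hmem)
        | exact hsq (by simpa using inv_mem hmem)
        | exact hsq hmem
    rw [← e2] at h'
    exact Prod.ext (Subtype.ext (mul_right_cancel h')) (Fin.ext e2)
  have hsurj := ((Nat.bijective_iff_injective_and_card F).2 ⟨hinj, by
    rw [Nat.card_prod, hcard, f.hQcard, Nat.card_fin]⟩).2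
  obtain ⟨⟨⟨x, hx⟩, ⟨i, hi⟩⟩, hp⟩ := hsurj ⟨f.k * a * f.k⁻¹, f.toLocalZ.cent_z_normQ hkz ha⟩
  have hb : f.k * a * f.k⁻¹ = x * a ^ i := (congrArg Subtype.val hp).symm
  have htat : f.t * a * f.t⁻¹ = f.k * x * f.k⁻¹ * (x * a ^ i) ^ i := by
    rw [← hb, conj_pow, conj_mul, ← hb, ← f.k_sq]; group
  have hta := hZ (f.t_inv a ha)
  have hx' := hk x hx
  apply hsq
  interval_cases i
  · exfalso
    simp only [pow_zero, mul_one] at htat
    refine haA ?_
    have := mul_mem (inv_mem hx') (htat ▸ hta)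
    rwa [inv_mul_cancel_left] at this
  · simp only [pow_one] at htat
    rw [htat, show f.k * x * f.k⁻¹ * (x * a) * a = f.k * x * f.k⁻¹ * x * (a * a) by group] at hta
    exact (A.mul_mem_cancel_left (mul_mem hx' hx)).1 hta
  · simp only [pow_two] at htat
    have e : f.k * x * f.k⁻¹ * (x * (a * a) * (x * (a * a))) * a =
        f.k * x * f.k⁻¹ * x * ((a * a) * x * (a * a)⁻¹) * (a * a * a * (a * a)) := by
      simp only [mul_assoc, mul_inv_rev, inv_mul_cancel_left]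
    rw [htat, e, ha3, one_mul] at hta
    exact (A.mul_mem_cancel_left (mul_mem (mul_mem hx' hx) (hnorm _ (mul_mem ha ha) x hx))).1 hta

/-- The centraliser of `w` in `Q` lies in `J`. -/
theorem centQw {a : G} (ha : a ∈ f.Q) (hw : a * f.w = f.w * a) : a ∈ f.J := by
  set A := f.Q ⊓ centralizer ({f.w} : Set G) with hAdef
  have hle : f.J ⊓ f.Q ≤ A := fun x hx =>
    ⟨hx.2, mem_centralizer_singleton_iff.2 (f.hJcomm x hx.1 _ f.w_mem_J)⟩
  have hne : Nat.card A ≠ 243 := by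
    intro e
    have heq : A = f.Q := Subgroup.eq_of_le_of_card_ge inf_le_left (by rw [e, f.hQcard])
    refine w_notQ f (f.centQ (mem_centralizer_iff.2 fun q hq => ?_))
    exact mem_centralizer_singleton_iff.1 (show q ∈ A from heq.symm ▸ hq).2
  have hne2 : Nat.card A ≠ 81 := fun e => by
    refine no_k_inv f inf_le_left (fun x hx => hle (Z_le_C f hx)) e fun x hx => ⟨?_, ?_⟩
    · exact f.toLocalZ.cent_z_normQ (f.K_z _ f.k_mem_K) hx.1
    · refine mem_centralizer_singleton_iff.2 ?_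
      have hxw : Commute x f.w := mem_centralizer_singleton_iff.1 hx.2
      exact (show Commute (f.k * x * f.k⁻¹) f.w by
        have h1 := hxw.inv_right
        have e1 : f.k * f.w⁻¹ * f.k⁻¹ = f.w := by rw [← conj_inv, f.k_w, inv_inv]
        rw [← e1]
        exact (Commute.conj_iff f.k).2 h1).eq
  haveI : Fact (Nat.Prime 3) := ⟨Nat.prime_three⟩
  obtain ⟨i, hi, he⟩ := (Nat.dvd_prime_pow Nat.prime_three (m := 5)).1 (show Nat.card A ∣ 3 ^ 5 by
    rw [show (3 : ℕ) ^ 5 = Nat.card f.Q by rw [f.hQcard]; norm_num]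
    exact Subgroup.card_dvd_of_le inf_le_left)
  have h27 : Nat.card A ≤ 27 := by
    interval_cases i <;> omega
  have heq : f.J ⊓ f.Q = A := Subgroup.eq_of_le_of_card_ge hle (by rw [f.JQ_card]; exact h27)
  have : a ∈ A := ⟨ha, mem_centralizer_singleton_iff.2 hw⟩
  rw [← heq] at this
  exact this.1

theorem φ_eq_one_iff (g : f.L) : f.φL g = 1 ↔ (g : G) ∈ f.Q := f.toBasic.φ_eq_one_iff g

theorem w_mem_L : f.w ∈ f.L := f.S_le_L (w_mem_S f)

theorem t_notQ : f.t ∉ f.Q := fun h => by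
  have h1 := orderOf_dvd_of_pow_eq_one (f.hQexp _ h)
  rw [f.t_order] at h1
  omega

theorem φ_t : f.φL ⟨f.t, f.t_mem_L⟩ = m₀ := by
  refine (eq_one_or_m₀ _ ?_).resolve_left fun h => t_notQ f ((φ_eq_one_iff f _).1 h)
  rw [← map_mul, show (⟨f.t, f.t_mem_L⟩ : f.L) * ⟨f.t, f.t_mem_L⟩ = 1 from Subtype.ext f.toLocalZ.t_sq,
    map_one]

/-- The elements of `L` fixing `w`. -/
theorem cent_L {g : G} (hg : g ∈ f.L) (hw : g * f.w = f.w * g) : g ∈ f.J ∨ g * f.t ∈ f.J := by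
  classical
  haveI : Fact (Nat.Prime 3) := ⟨Nat.prime_three⟩
  haveI : Fact (Nat.Prime 2) := ⟨Nat.prime_two⟩
  set wL : f.L := ⟨f.w, w_mem_L f⟩ with hwL
  set tL : f.L := ⟨f.t, f.t_mem_L⟩ with htL
  set τ := f.φL wL with hτ
  have hτ1 : τ ≠ 1 := fun h => w_notQ f ((φ_eq_one_iff f _).1 h)
  have hτ3 : τ ^ 3 = 1 := by rw [hτ, ← map_pow, show wL ^ 3 = 1 from Subtype.ext (w_cube f), map_one]
  have hcomm : Commute wL tL := Subtype.ext (wt f)
  have hoτ : orderOf τ = 3 := orderOf_eq_prime hτ3 hτ1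
  have hom : orderOf (f.φL tL) = 2 := orderOf_eq_prime
    (by rw [← map_pow, show tL ^ 2 = 1 from Subtype.ext (by
      push_cast; rw [pow_two]; exact f.toLocalZ.t_sq), map_one])
    (fun h => t_notQ f ((φ_eq_one_iff f _).1 h))
  have ho : orderOf (f.φL (wL * tL)) = 6 := by
    rw [map_mul, (hcomm.map f.φL).orderOf_mul_eq_mul_orderOf_of_coprime (by
      rw [← hτ, hoτ, hom]; norm_num), ← hτ, hoτ, hom]
  set Cτ := centralizer ({τ} : Set SL(2, ZMod 5)) with hCτ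
  have hC6 : Nat.card Cτ = 6 := by
    rw [← (MinusOne.sl_three.2 τ hτ3 hτ1), ← Nat.card_eq_finsetCard]
    exact Nat.card_congr (Equiv.subtypeEquivRight fun h => by
      rw [hCτ, mem_centralizer_singleton_iff, Finset.mem_filter]
      simp)
  have hle : zpowers (f.φL (wL * tL)) ≤ Cτ := zpowers_le.2 (mem_centralizer_singleton_iff.2 (by
    rw [hτ, ← map_mul, ← map_mul]
    exact congrArg f.φL (((Commute.refl wL).mul_left hcomm.symm) : Commute (wL * tL) wL).eq))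
  have heq : zpowers (f.φL (wL * tL)) = Cτ :=
    Subgroup.eq_of_le_of_card_ge hle (by rw [hC6, Nat.card_zpowers, ho])
  have hgC : f.φL ⟨g, hg⟩ ∈ zpowers (f.φL (wL * tL)) := by
    rw [heq, hCτ, mem_centralizer_singleton_iff, hτ, ← map_mul, ← map_mul]
    exact congrArg f.φL (Subtype.ext hw)
  obtain ⟨n, hn⟩ := mem_powers_iff_mem_zpowers.2 hgC
  have hn' : f.φL ((wL * tL) ^ n) = f.φL ⟨g, hg⟩ := by rw [map_pow]; exact hn
  set a := g * ((f.w * f.t) ^ n)⁻¹ with ha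
  have haQ : a ∈ f.Q := (φ_eq_one_iff f (⟨g, hg⟩ * ((wL * tL) ^ n)⁻¹)).1 (by
    rw [map_mul, map_inv, hn', mul_inv_cancel])
  have hawt : Commute a f.w := (show Commute g f.w from hw).mul_left
    ((((Commute.refl f.w).mul_left (show Commute f.t f.w from (wt f).symm)).pow_left n).inv_left)
  have haJ := centQw f haQ hawt.eq
  have hgeq : g = a * f.w ^ n * f.t ^ n := by
    rw [ha, (show Commute f.w f.t from wt f).mul_pow]; group
  have hwn : a * f.w ^ n ∈ f.J := mul_mem haJ (pow_mem f.w_mem_J n)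
  rcases Nat.even_or_odd n with ⟨m, hm⟩ | ⟨m, hm⟩
  · left
    rw [hgeq, hm, show f.t ^ (m + m) = 1 by rw [← two_mul, pow_mul, pow_two, f.toLocalZ.t_sq, one_pow], mul_one]
    rwa [hm] at hwn
  · right
    rw [hgeq, hm, show f.t ^ (2 * m + 1) = f.t by
      rw [pow_succ, pow_mul, pow_two, f.toLocalZ.t_sq, one_pow, one_mul], mul_assoc, f.toLocalZ.t_sq, mul_one]
    rwa [hm] at hwn

theorem L_le_Cz : f.L ≤ centralizer ({f.z} : Set G) := fun _ hg =>
  mem_centralizer_singleton_iff.2 (f.toBasic.L_le_cz hg)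

theorem card_L : Nat.card f.L = 243 * 120 := by
  rw [Subgroup.card_eq_card_quotient_mul_card_subgroup f.φL.ker,
    Nat.card_congr (QuotientGroup.quotientKerEquivOfSurjective f.φL f.φL_surj).toEquiv, f.φL_ker,
    Nat.card_congr (subgroupOfEquivOfLe f.hQL).toEquiv, f.hQcard, Nat.card_eq_fintype_card,
    show Fintype.card SL(2, ZMod 5) = 120 by decide +kernel]

/-- The elements fixing `z` and `w` in the small case. -/
theorem cent_small (hs : Nat.card ↥(centralizer ({f.z} : Set G) ⊓ centralizer ({f.t} : Set G)) = 360)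
    {g : G} (hz : g * f.z = f.z * g) (hw : g * f.w = f.w * g) : g ∈ f.J ∨ g * f.t ∈ f.J := by
  have heq : f.L = centralizer ({f.z} : Set G) :=
    Subgroup.eq_of_le_of_card_ge (L_le_Cz f) (by rw [f.card_Cz, hs, card_L f])
  exact cent_L f (heq ▸ mem_centralizer_singleton_iff.2 hz) hw

/-! ### No involution outside `L` fixes `z`, `w` and `t` -/

/-- The form `[[w, a], c]`. -/
noncomputable def beta (a c : G) : ZMod 3 := pairB f.z (f.w * a * f.w⁻¹ * a⁻¹) c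

theorem wa_memQ {a : G} (ha : a ∈ f.Q) : f.w * a * f.w⁻¹ * a⁻¹ ∈ f.Q :=
  mul_mem (f.toLocalZ.cent_z_normQ (wz f) ha) (inv_mem ha)

theorem wa_memJ {a : G} (ha : a ∈ f.Q) : f.w * a * f.w⁻¹ * a⁻¹ ∈ f.J := by
  rw [show f.w * a * f.w⁻¹ * a⁻¹ = f.w * (a * f.w⁻¹ * a⁻¹) by group]
  exact mul_mem f.w_mem_J (conjJ f (S_normJ f (f.Q_le_S ha)) (inv_mem f.w_mem_J))

theorem B_comm {u v : G} (hu : u ∈ f.Q) (hv : v ∈ f.Q) (h : u * v = v * u) : pairB f.z u v = 0 := by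
  refine f.toBasic.B_of_eq hu hv ?_
  rw [h, mul_inv_cancel_right, mul_inv_cancel]
  exact pow_zero _

theorem beta_mul_left {a a' c : G} (ha : a ∈ f.Q) (ha' : a' ∈ f.Q) (hc : c ∈ f.Q) :
    beta f (a * a') c = beta f a c + beta f a' c := by
  have h1 : a * (f.w * a' * f.w⁻¹ * a'⁻¹) * a⁻¹ ∈ f.Q :=
    mul_mem (mul_mem ha (wa_memQ f ha')) (inv_mem ha)
  have hcm := f.Q_comm a ha _ (wa_memQ f ha')
  rw [beta, show f.w * (a * a') * f.w⁻¹ * (a * a')⁻¹ =
      f.w * a * f.w⁻¹ * a⁻¹ * (a * (f.w * a' * f.w⁻¹ * a'⁻¹) * a⁻¹) by group,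
    f.toBasic.B_mul_left (wa_memQ f ha) h1 hc,
    show a * (f.w * a' * f.w⁻¹ * a'⁻¹) * a⁻¹ =
      a * (f.w * a' * f.w⁻¹ * a'⁻¹) * a⁻¹ * (f.w * a' * f.w⁻¹ * a'⁻¹)⁻¹ * (f.w * a' * f.w⁻¹ * a'⁻¹) by group,
    f.toBasic.B_mul_left (f.Z_le_Q hcm) (wa_memQ f ha') hc, f.toBasic.B_Z hcm hc, zero_add]
  rfl

theorem beta_mul_right {a c c' : G} (ha : a ∈ f.Q) (hc : c ∈ f.Q) (hc' : c' ∈ f.Q) :
    beta f a (c * c') = beta f a c + beta f a c' := f.toBasic.B_mul_right (wa_memQ f ha) hc hc'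

theorem beta_left_C {d c : G} (hd : d ∈ f.J ⊓ f.Q) (hc : c ∈ f.Q) : beta f d c = 0 := by
  rw [beta, f.hJcomm _ f.w_mem_J d hd.1, mul_inv_cancel_right, mul_inv_cancel]
  exact f.toBasic.B_Z (one_mem _) hc

theorem beta_right_C {a d : G} (ha : a ∈ f.Q) (hd : d ∈ f.J ⊓ f.Q) : beta f a d = 0 :=
  B_comm f (wa_memQ f ha) hd.2 (f.hJcomm _ (wa_memJ f ha) d hd.1)

theorem beta_inv_left {a c : G} (ha : a ∈ f.Q) (hc : c ∈ f.Q) : beta f a⁻¹ c = -beta f a c := by
  have h := beta_mul_left f ha (inv_mem ha) hc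
  rw [mul_inv_cancel, beta_left_C f (one_mem _) hc] at h
  exact (neg_eq_of_add_eq_zero_right h.symm).symm

theorem beta_inv_right {a c : G} (ha : a ∈ f.Q) (hc : c ∈ f.Q) : beta f a c⁻¹ = -beta f a c := by
  have h := beta_mul_right f ha hc (inv_mem hc)
  rw [mul_inv_cancel, beta_right_C f ha (one_mem _)] at h
  exact (neg_eq_of_add_eq_zero_right h.symm).symm

theorem beta_conj {n a c : G} (hnz : n * f.z = f.z * n) (hnw : n * f.w = f.w * n) (ha : a ∈ f.Q)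
    (hc : c ∈ f.Q) : beta f (n * a * n⁻¹) (n * c * n⁻¹) = beta f a c := by
  have hwn : n⁻¹ * f.w * n = f.w := by rw [mul_assoc, ← hnw, inv_mul_cancel_left]
  have hwn' : n⁻¹ * f.w⁻¹ * n = f.w⁻¹ := by
    rw [show n⁻¹ * f.w⁻¹ * n = (n⁻¹ * f.w * n)⁻¹ by group, hwn]
  rw [beta, show f.w * (n * a * n⁻¹) * f.w⁻¹ * (n * a * n⁻¹)⁻¹ =
    n * ((n⁻¹ * f.w * n) * a * (n⁻¹ * f.w⁻¹ * n) * a⁻¹) * n⁻¹ by group, hwn, hwn',
    f.toBasic.B_conj hnz (wa_memQ f ha) hc]
  rfl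

theorem beta_k {a : G} (ha : a ∈ f.Q) :
    beta f (f.k * a * f.k⁻¹) (f.k * a * f.k⁻¹) = -beta f a a := by
  have hkz : f.k * f.z = f.z * f.k := f.K_z _ f.k_mem_K
  have hb := f.toLocalZ.cent_z_normQ hkz ha
  set b := f.k * a * f.k⁻¹ with hbdef
  have hu := wa_memQ f hb
  have h2 : f.k * (f.w * a * f.w⁻¹ * a⁻¹) * f.k⁻¹ = (f.w * b * f.w⁻¹ * b⁻¹)⁻¹ := by
    rw [show f.k * (f.w * a * f.w⁻¹ * a⁻¹) * f.k⁻¹ =
      (f.k * f.w * f.k⁻¹) * b * (f.k * f.w * f.k⁻¹)⁻¹ * b⁻¹ by rw [hbdef]; group, f.k_w, inv_inv]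
    have hjc := f.hJcomm _ f.w_mem_J _ (wa_memJ f hb)
    have e : f.w⁻¹ * b * f.w * b⁻¹ = f.w⁻¹ * (f.w * b * f.w⁻¹ * b⁻¹)⁻¹ * f.w := by group
    rw [e, mul_assoc, mul_inv_eq_iff_eq_mul.1 (show f.w * (f.w * b * f.w⁻¹ * b⁻¹) * f.w⁻¹ = _ by
      rw [hjc, mul_inv_cancel_right]) |> fun h => (show Commute f.w _ from h).inv_right.eq.symm,
      inv_mul_cancel_left]
  have h := f.toBasic.B_conj hkz (wa_memQ f ha) ha
  rw [h2] at h
  have h3 := f.toBasic.B_mul_left hu (inv_mem hu) hb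
  rw [mul_inv_cancel, f.toBasic.B_Z (one_mem _) hb, h] at h3
  exact eq_neg_of_add_eq_zero_left h3.symm

/-- The form is anisotropic. -/
theorem beta_aniso {a : G} (ha : a ∈ f.Q) (h : beta f a a = 0) : a ∈ f.J := by
  set u := f.w * a * f.w⁻¹ * a⁻¹ with hu
  have huQ : u ∈ f.Q := wa_memQ f ha
  have hua : Commute u a := by
    have e := f.toBasic.B_spec huQ ha
    rw [show pairB f.z u a = 0 from h] at e
    exact mul_inv_eq_iff_eq_mul.1 (mul_inv_eq_one.1 (e.symm.trans (pow_zero _)))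
  have haS := f.Q_le_S ha
  have haN := S_normJ f haS
  have ha3 : a ^ 3 = 1 := f.hQexp a ha
  -- `a` commutes with `[a, J]`
  have hwi : ∀ i : ℕ, a * f.w ^ i * a⁻¹ * (f.w ^ i)⁻¹ ∈ f.J ∧
      Commute (a * f.w ^ i * a⁻¹ * (f.w ^ i)⁻¹) a := by
    intro i
    induction i with
    | zero => exact ⟨by simp, by simp⟩
    | succ i ih =>
      have e1 : a * f.w * a⁻¹ * f.w⁻¹ = u⁻¹ := by rw [hu]; group
      have hJ1 : a * f.w * a⁻¹ * f.w⁻¹ ∈ f.J := e1 ▸ inv_mem (wa_memJ f ha)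
      have e : a * f.w ^ (i + 1) * a⁻¹ * (f.w ^ (i + 1))⁻¹ =
          a * f.w ^ i * a⁻¹ * (f.w ^ i)⁻¹ * (f.w ^ i * (a * f.w * a⁻¹ * f.w⁻¹) * (f.w ^ i)⁻¹) := by
        rw [pow_succ]; group
      rw [e, f.hJcomm _ (pow_mem f.w_mem_J i) _ hJ1, mul_inv_cancel_right]
      exact ⟨mul_mem ih.1 hJ1, ih.2.mul_left (e1 ▸ hua.inv_left)⟩
  have hquad : ∀ x ∈ f.J, Commute (a * x * a⁻¹ * x⁻¹) a := by
    intro x hx
    obtain ⟨d, hd, i, rfl⟩ := S_decomp f (f.hJS hx)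
    have hdJ : d ∈ f.J := by
      have := mul_mem hx (inv_mem (pow_mem f.w_mem_J i))
      rwa [mul_inv_cancel_right] at this
    rw [show a * (d * f.w ^ i) * a⁻¹ * (d * f.w ^ i)⁻¹ =
      a * d * a⁻¹ * d⁻¹ * (d * (a * f.w ^ i * a⁻¹ * (f.w ^ i)⁻¹) * d⁻¹) by group,
      f.hJcomm d hdJ _ (hwi i).1, mul_inv_cancel_right]
    exact ((f.toLocalZ.commute_of_mem_Z (f.Q_comm a ha d hd) (f.toLocalZ.Q_comm_z ha)).symm).mul_left (hwi i).2
  have hnorm : ∀ x ∈ f.J, x * (a * x * a⁻¹) * (a * a * x * (a * a)⁻¹) = 1 := by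
    intro x hx
    have hc := hquad x hx
    set v := a * x * a⁻¹ * x⁻¹ with hv
    have hvJ : v ∈ f.J := mul_mem (conjJ f haN hx) (inv_mem hx)
    have e1 : a * x * a⁻¹ = v * x := by rw [hv]; group
    have e2 : a * a * x * (a * a)⁻¹ = v * (v * x) := by
      rw [show a * a * x * (a * a)⁻¹ = a * (a * x * a⁻¹) * a⁻¹ by group, e1, ← conj_mul, e1, hc.symm.eq,
        mul_inv_cancel_right]
    rw [e1, e2]
    have h1 : Commute x v := f.hJcomm x hx v hvJ
    calc x * (v * x) * (v * (v * x)) = v ^ 3 * x ^ 3 := by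
          clear_value v
          have hswap : ∀ y, y * x * v = y * v * x := fun y => by rw [mul_assoc, h1.eq, ← mul_assoc]
          simp only [pow_succ, pow_zero, one_mul, ← mul_assoc, hswap, h1.eq]
      _ = 1 := by rw [f.hJexp v hvJ, f.hJexp x hx, one_mul]
  -- the four-group
  by_contra haJ
  obtain ⟨π⟩ := f.toHyp.exists_proj f.S_le_M
  have haM := f.S_le_M haS
  obtain ⟨v, hv1, hvv, hvne, hv12, hv21⟩ := CentZWFacts.four_group (π.map a)
    ((π.syl_map a haM).2 haS) (π.sign_map a) (fun e => haJ ((π.ker_map a haM).1 e))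
  obtain ⟨m, hm, hπm⟩ := π.surj_map v hv1
  have hMN : ∀ {g : G}, g ∈ f.M → g ∈ normalizer (f.J : Set G) := fun hg => f.toHyp.M_le_normJ hg
  have hact : ∀ g ∈ f.M, ∀ g' ∈ f.M, π.map g = π.map g' → ∀ x ∈ f.J, g * x * g⁻¹ = g' * x * g'⁻¹ := by
    intro g hg g' hg' e x hx
    have hJ : g'⁻¹ * g ∈ f.J := (π.ker_map _ (mul_mem (inv_mem hg') hg)).1 (by
      rw [π.map_mul' _ (inv_mem hg') _ hg, π.map_inv hg', e, inv_mul_cancel])
    calc g * x * g⁻¹ = g' * ((g'⁻¹ * g) * x * (g'⁻¹ * g)⁻¹) * g'⁻¹ := by group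
      _ = _ := by rw [f.hJcomm _ hJ x hx, mul_inv_cancel_right]
  set m2 := a * m * a⁻¹ with hm2def
  have hm2 : m2 ∈ f.M := mul_mem (mul_mem haM hm) (inv_mem haM)
  set m3 := a * m2 * a⁻¹ with hm3def
  have hm3 : m3 ∈ f.M := mul_mem (mul_mem haM hm2) (inv_mem haM)
  have hπ2 : π.map m2 = π.map a * v * (π.map a)⁻¹ := by rw [hm2def, π.map_conj haM hm, hπm]
  have hπ3 : π.map m3 = π.map a * (π.map a * v * (π.map a)⁻¹) * (π.map a)⁻¹ := by
    rw [hm3def, π.map_conj haM hm2, hπ2]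
  have c11 : ∀ x ∈ f.J, m * (m * x * m⁻¹) * m⁻¹ = x := fun x hx => by
    have := hact (m * m) (mul_mem hm hm) 1 (one_mem _)
      (by rw [π.map_mul' _ hm _ hm, hπm, hvv, π.map_one]) x hx
    simpa [mul_assoc] using this
  have c12 : ∀ x ∈ f.J, m * (m2 * x * m2⁻¹) * m⁻¹ = m3 * x * m3⁻¹ := fun x hx => by
    have := hact (m * m2) (mul_mem hm hm2) m3 hm3
      (by rw [π.map_mul' _ hm _ hm2, hπm, hπ2, hπ3, hv12]) x hx
    simpa [mul_assoc] using this
  have c21 : ∀ x ∈ f.J, m2 * (m * x * m⁻¹) * m2⁻¹ = m3 * x * m3⁻¹ := fun x hx => by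
    have := hact (m2 * m) (mul_mem hm2 hm) m3 hm3
      (by rw [π.map_mul' _ hm2 _ hm, hπm, hπ2, hπ3, hv21]) x hx
    simpa [mul_assoc] using this
  have c22 : ∀ x ∈ f.J, m2 * (m2 * x * m2⁻¹) * m2⁻¹ = x := fun x hx => by
    have := hact (m2 * m2) (mul_mem hm2 hm2) 1 (one_mem _)
      (by rw [π.map_mul' _ hm2 _ hm2, hπ2, conj_mul, hvv, mul_one, mul_inv_cancel, π.map_one]) x hx
    simpa [mul_assoc] using this
  have c4 : ∀ x ∈ f.J, a * m3 * a⁻¹ * x * (a * m3 * a⁻¹)⁻¹ = m * x * m⁻¹ := fun x hx => by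
    refine hact _ (mul_mem (mul_mem haM hm3) (inv_mem haM)) m hm ?_ x hx
    rw [π.map_conj haM hm3, hπ3, hπm]
    have h3 : π.map a ^ 3 = 1 := by rw [← π.map_pow haM, ha3, π.map_one]
    calc π.map a * (π.map a * (π.map a * v * (π.map a)⁻¹) * (π.map a)⁻¹) * (π.map a)⁻¹ =
        π.map a ^ 3 * v * (π.map a ^ 3)⁻¹ := by rw [pow_succ, pow_two]; group
      _ = v := by rw [h3, one_mul, inv_one, mul_one]
  -- no vector is fixed by `m` and inverted by `m2`
  have key : ∀ q ∈ f.J, m * q * m⁻¹ = q → m2 * q * m2⁻¹ = q⁻¹ → q = 1 := by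
    intro q hq h1 h2
    set q1 := a * q * a⁻¹ with hq1d
    set q2 := a * a * q * (a * a)⁻¹ with hq2d
    have hq1 : q1 ∈ f.J := conjJ f haN hq
    have hq2 : q2 ∈ f.J := conjJ f (mul_mem haN haN) hq
    have f2 : m2 * q1 * m2⁻¹ = q1 := by
      rw [hm2def, hq1d, show a * m * a⁻¹ * (a * q * a⁻¹) * (a * m * a⁻¹)⁻¹ = a * (m * q * m⁻¹) * a⁻¹ by group, h1]
    have i3 : m3 * q1 * m3⁻¹ = q1⁻¹ := by
      rw [hm3def, hq1d, show a * m2 * a⁻¹ * (a * q * a⁻¹) * (a * m2 * a⁻¹)⁻¹ = a * (m2 * q * m2⁻¹) * a⁻¹ by group,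
        h2, conj_inv]
    have i1 : m * q1 * m⁻¹ = q1⁻¹ := by rw [← i3, ← c12 q1 hq1, f2]
    have j1 : m * q2 * m⁻¹ = q2⁻¹ := by
      rw [← c4 q2 hq2, show a * m3 * a⁻¹ * q2 * (a * m3 * a⁻¹)⁻¹ = a * (m3 * q1 * m3⁻¹) * a⁻¹ by
        rw [hq1d, hq2d]; group, i3, hq1d, hq2d]
      simp [mul_assoc]
    have hN : q * q1 * q2 = 1 := hnorm q hq
    have hN' := congrArg (fun y => m * y * m⁻¹) hN
    simp only [mul_one, mul_inv_cancel] at hN'
    rw [← conj_mul, ← conj_mul, h1, i1, j1] at hN'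
    have hc : Commute q1 q2 := f.hJcomm _ hq1 _ hq2
    have hcq : Commute q (q1 * q2) := f.hJcomm _ hq _ (mul_mem hq1 hq2)
    have e1 : q = (q1 * q2)⁻¹ := eq_inv_of_mul_eq_one_left (by rw [← mul_assoc]; exact hN)
    have e2 : q = q2 * q1 := by
      have := eq_inv_of_mul_eq_one_left (show q * (q1⁻¹ * q2⁻¹) = 1 by rw [← mul_assoc]; exact hN')
      rwa [mul_inv_rev, inv_inv, inv_inv] at this
    have h2' : q = q⁻¹ := by
      conv_rhs => rw [e1, inv_inv, hc.eq, ← e2]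
    exact eq_one_of_eq_inv_cube (f.hJexp q hq) h2'
  have fix12 : ∀ x ∈ f.J, m * x * m⁻¹ = x → m2 * x * m2⁻¹ = x := by
    intro x hx h1
    have hx2 := conjJ f (hMN hm2) hx
    have hq := key (x * (m2 * x * m2⁻¹)⁻¹) (mul_mem hx (inv_mem hx2))
      (by rw [← conj_mul, ← conj_inv, h1, c12 x hx, ← c21 x hx, h1])
      (by
        rw [← conj_mul, ← conj_inv, c22 x hx]
        group)
    exact (mul_inv_eq_one.1 hq).symm
  have fix23 : ∀ x ∈ f.J, m2 * x * m2⁻¹ = x → m3 * x * m3⁻¹ = x := by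
    intro x hx h1
    have hx' : a⁻¹ * x * a ∈ f.J := by
      have := conjJ f (inv_mem haN) hx
      rwa [inv_inv] at this
    have h2 := fix12 _ hx' (by
      rw [show m * (a⁻¹ * x * a) * m⁻¹ = a⁻¹ * (m2 * x * m2⁻¹) * a by rw [hm2def]; group, h1])
    rw [show m3 * x * m3⁻¹ = a * (m2 * (a⁻¹ * x * a) * m2⁻¹) * a⁻¹ by rw [hm3def]; group, h2]
    group
  have fix21 : ∀ x ∈ f.J, m2 * x * m2⁻¹ = x → m * x * m⁻¹ = x := by
    intro x hx h1
    have h3 := fix23 x hx h1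
    rwa [← c12 x hx, h1] at h3
  have fix31 : ∀ x ∈ f.J, m3 * x * m3⁻¹ = x → m * x * m⁻¹ = x := by
    intro x hx h1
    refine fix21 x hx ?_
    have hx' : a⁻¹ * x * a ∈ f.J := by
      have := conjJ f (inv_mem haN) hx
      rwa [inv_inv] at this
    have h2 := fix21 _ hx' (by
      rw [show m2 * (a⁻¹ * x * a) * m2⁻¹ = a⁻¹ * (m3 * x * m3⁻¹) * a by rw [hm3def]; group, h1])
    rw [show m2 * x * m2⁻¹ = a * (m * (a⁻¹ * x * a) * m⁻¹) * a⁻¹ by rw [hm2def]; group, h2]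
    group
  have hall : ∀ x ∈ f.J, m * x * m⁻¹ = x := by
    intro x hx
    have hx1 := conjJ f (hMN hm) hx
    set y := x * (m * x * m⁻¹)⁻¹ with hydef
    have hy : y ∈ f.J := mul_mem hx (inv_mem hx1)
    have hy1 : m * y * m⁻¹ = y⁻¹ := by
      rw [hydef, ← conj_mul, ← conj_inv, c11 x hx, mul_inv_rev, inv_inv]
    have hy2 := conjJ f (hMN hm2) hy
    set r := y * (m2 * y * m2⁻¹) with hrdef
    have hr : r ∈ f.J := mul_mem hy hy2
    have hr2 : m2 * r * m2⁻¹ = r := by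
      rw [hrdef, ← conj_mul, c22 y hy]; exact f.hJcomm _ hy2 _ hy
    have hr1 : r = r⁻¹ := by
      conv_lhs => rw [← fix21 r hr hr2]
      rw [hrdef, ← conj_mul, c12 y hy, ← c21 y hy, hy1, ← conj_inv]
      exact (show Commute y (m2 * y * m2⁻¹) from f.hJcomm _ hy _ hy2).inv_inv.eq.trans (mul_inv_rev _ _).symm
    have hy2' : m2 * y * m2⁻¹ = y⁻¹ :=
      eq_inv_of_mul_eq_one_right (hrdef ▸ eq_one_of_eq_inv_cube (f.hJexp r hr) hr1)
    have hy3 : m3 * y * m3⁻¹ = y := by rw [← c12 y hy, hy2', ← conj_inv, hy1, inv_inv]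
    have hyfix := fix31 y hy hy3
    rw [hy1] at hyfix
    have := eq_one_of_eq_inv_cube (f.hJexp y hy) hyfix.symm
    rw [hydef] at this
    exact (mul_inv_eq_one.1 this).symm
  have hmJ : m ∈ f.J := f.centJ.le (mem_centralizer_iff.2 fun x hx =>
    (mul_inv_eq_iff_eq_mul.1 (hall x hx)).symm)
  exact hvne (hπm ▸ (π.ker_map m hm).2 hmJ)

/-- The elements of `Q` fixed by `e` modulo `J ⊓ Q`. -/
def fixC {e : G} (hz : e * f.z = f.z * e) : Subgroup G where
  carrier := {a | a ∈ f.Q ∧ e * a * e⁻¹ * a⁻¹ ∈ f.J ⊓ f.Q}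
  one_mem' := ⟨one_mem _, by simp⟩
  mul_mem' := by
    rintro a b ⟨ha, ha'⟩ ⟨hb, hb'⟩
    refine ⟨mul_mem ha hb, ?_⟩
    rw [show e * (a * b) * e⁻¹ * (a * b)⁻¹ = e * a * e⁻¹ * a⁻¹ * (a * (e * b * e⁻¹ * b⁻¹) * a⁻¹) by group]
    exact mul_mem ha' (C_conjQ f ha hb')
  inv_mem' := by
    rintro a ⟨ha, ha'⟩
    refine ⟨inv_mem ha, ?_⟩
    rw [show e * a⁻¹ * e⁻¹ * a⁻¹⁻¹ = a⁻¹ * (e * a * e⁻¹ * a⁻¹)⁻¹ * a⁻¹⁻¹ by group]
    exact C_conjQ f (inv_mem ha) (inv_mem ha')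

/-- An involution fixing `Q` modulo `J ⊓ Q` lies in `L`. -/
theorem mem_L_of_fixC {x : G} (hxz : x * f.z = f.z * x) (hxw : x * f.w = f.w * x) (hx2 : x * x = 1)
    (hall : ∀ a ∈ f.Q, x * a * x⁻¹ * a⁻¹ ∈ f.J ⊓ f.Q) : x ∈ f.L := by
  have hN := normJ f hxz hxw
  have hCZ : ∀ d ∈ f.J ⊓ f.Q, x * d * x⁻¹ * d⁻¹ ∈ f.Z := by
    intro d hd
    have hd' := conjC f hxz hN hd
    have hv : x * d * x⁻¹ * d⁻¹ ∈ f.Q := mul_mem hd'.2 (inv_mem hd.2)
    refine f.Q_center _ hv fun q hq => ?_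
    have h0 : pairB f.z (x * d * x⁻¹) q = pairB f.z d q := by
      have h1 := f.toBasic.B_conj hxz hd.2 hq
      set c := x * q * x⁻¹ * q⁻¹ with hc
      have hcC := hall q hq
      have h2 := f.toBasic.B_mul_right hd'.2 hcC.2 hq
      rw [show c * q = x * q * x⁻¹ by rw [hc]; group,
        B_comm f hd'.2 hcC.2 (f.hJcomm _ hd'.1 _ hcC.1), zero_add, h1] at h2
      exact h2.symm
    have h3 := f.toBasic.B_mul_left hv hd.2 hq
    rw [inv_mul_cancel_right, h0] at h3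
    have h4 : pairB f.z (x * d * x⁻¹ * d⁻¹) q = 0 := by linear_combination -h3
    have h5 := f.toBasic.B_spec hv hq
    rw [h4] at h5
    exact mul_inv_eq_iff_eq_mul.1 (mul_inv_eq_one.1 (h5.symm.trans (pow_zero _)))
  refine f.toBasic.mem_L_of_fix ⟨hxz, fun a ha => ?_⟩
  set c := x * a * x⁻¹ * a⁻¹ with hc
  have hcC := hall a ha
  have e1 : x * c * x⁻¹ * c = 1 := by
    rw [hc, show x * (x * a * x⁻¹ * a⁻¹) * x⁻¹ * (x * a * x⁻¹ * a⁻¹) = x * x * a * (x * x)⁻¹ * a⁻¹ by group,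
      hx2, inv_one, one_mul, mul_one, mul_inv_cancel]
  have h2 : (c * c)⁻¹ ∈ f.Z := by
    have h := hCZ c hcC
    rwa [eq_inv_of_mul_eq_one_left e1, ← mul_inv_rev] at h
  have h3 : c * c ∈ f.Z := inv_mem_iff.1 h2
  have hc3 := f.hQexp c hcC.2
  rw [pow_succ, pow_two] at hc3
  have := mul_mem h3 h3
  rwa [← mul_assoc, hc3, one_mul] at this

/-- No involution outside `L` fixes `z`, `w` and `t`. -/
theorem invol_mem_L {e : G} (hez : e * f.z = f.z * e) (hew : e * f.w = f.w * e) (het : e * f.t = f.t * e)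
    (he2 : e * e = 1) : e ∈ f.L := by
  have heN := normJ f hez hew
  have hei : e⁻¹ = e := inv_eq_of_mul_eq_one_right he2
  have htinv := f.toLocalZ.t_inv_eq
  have hQc : ∀ a ∈ f.Q, e * a * e⁻¹ ∈ f.Q := fun a ha => f.toLocalZ.cent_z_normQ hez ha
  have hC : ∀ d ∈ f.J ⊓ f.Q, e * d * e⁻¹ ∈ f.J ⊓ f.Q := fun d hd => conjC f hez heN hd
  have hee : ∀ a, e * (e * a * e⁻¹) * e⁻¹ = a := fun a => by
    rw [show e * (e * a * e⁻¹) * e⁻¹ = e * e * a * (e * e)⁻¹ by group, he2, inv_one, one_mul, mul_one]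
  by_contra heL
  -- the parts fixed and inverted
  obtain ⟨a, ha, haC, hafix⟩ : ∃ a ∈ f.Q, a ∉ f.J ∧ e * a * e⁻¹ * a⁻¹ ∈ f.J ⊓ f.Q := by
    by_contra h
    push Not at h
    refine heL ?_
    have hetz : e * f.t * f.z = f.z * (e * f.t) :=
      ((show Commute e f.z from hez).mul_left (show Commute f.t f.z from f.tz)).eq
    have hetw : e * f.t * f.w = f.w * (e * f.t) :=
      ((show Commute e f.w from hew).mul_left (show Commute f.t f.w from (wt f).symm)).eq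
    have h2 : e * f.t * (e * f.t) = 1 := by
      calc e * f.t * (e * f.t) = e * f.t * (f.t * e) := by rw [het]
        _ = 1 := by rw [← mul_assoc, mul_assoc e, f.toLocalZ.t_sq, mul_one, he2]
    have hL := mem_L_of_fixC f hetz hetw h2 fun a ha => by
      have hea := hQc a ha
      have hinv : e * a * e⁻¹ * a ∈ f.J ⊓ f.Q := by
        -- `a` times its image is fixed, hence lies in `J`
        have h1 : a * (e * a * e⁻¹) ∈ f.J := by
          by_contra h1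
          refine h _ (mul_mem ha hea) h1 ?_
          rw [← conj_mul, hee, mul_inv_rev, mul_assoc, ← mul_assoc a]
          have := Z_le_C f (f.Q_comm _ hea a ha)
          simpa [mul_assoc] using this
        have := C_conjQ f (inv_mem ha) ⟨h1, mul_mem ha hea⟩
        simpa [mul_assoc] using this
      have hinv' : e * (f.t * a * f.t⁻¹ * a) * e⁻¹ ∈ f.J ⊓ f.Q := hC _ (Z_le_C f (f.t_inv a ha))
      have e1 : e * f.t * a * (e * f.t)⁻¹ * a⁻¹ =
          e * (f.t * a * f.t⁻¹ * a) * e⁻¹ * (a * (e * a * e⁻¹))⁻¹ := by group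
      rw [e1]
      refine mul_mem hinv' (inv_mem ?_)
      have := C_conjQ f ha hinv
      rwa [← mul_assoc, mul_inv_cancel_right] at this
    have h3 := mul_mem hL f.t_mem_L
    rwa [mul_assoc, f.toLocalZ.t_sq, mul_one] at h3
  obtain ⟨c, hc, hcC, hcinv⟩ : ∃ c ∈ f.Q, c ∉ f.J ∧ e * c * e⁻¹ * c ∈ f.J ⊓ f.Q := by
    by_contra h
    push Not at h
    refine heL (mem_L_of_fixC f hez hew he2 fun a ha => ?_)
    have hea := hQc a ha
    have h1 : a * (e * a * e⁻¹)⁻¹ ∈ f.J := by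
      by_contra h1
      refine h _ (mul_mem ha (inv_mem hea)) h1 ?_
      rw [← conj_mul, ← conj_inv, hee]
      simpa [mul_assoc] using one_mem (f.J ⊓ f.Q)
    have := inv_mem (show a * (e * a * e⁻¹)⁻¹ ∈ f.J ⊓ f.Q from ⟨h1, f.Q.mul_mem ha (f.Q.inv_mem hea)⟩)
    rwa [mul_inv_rev, inv_inv] at this
  -- the conjugate of `k`
  have hkz : f.k * f.z = f.z * f.k := f.K_z _ f.k_mem_K
  have hkL : f.k ∈ f.L := f.K_le_L f.k_mem_K
  set g := e * f.k * e⁻¹ * f.k⁻¹ with hg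
  have hgL : g ∈ f.L := mul_mem (f.toBasic.L_conj (f.toBasic.cz_normZ hez) hkL) (inv_mem hkL)
  have hgw : g * f.w = f.w * g := by
    have e1 : e⁻¹ * f.w * e = f.w := by rw [mul_assoc, ← hew, inv_mul_cancel_left]
    have e2 : f.k⁻¹ * f.w * f.k = f.w⁻¹ := by
      have h := congrArg (fun x => f.k⁻¹ * x⁻¹ * f.k) f.k_w
      simp only [inv_inv] at h
      rw [← h]; group
    refine mul_inv_eq_iff_eq_mul.1 ?_
    rw [hg, show e * f.k * e⁻¹ * f.k⁻¹ * f.w * (e * f.k * e⁻¹ * f.k⁻¹)⁻¹ =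
      e * (f.k * (e⁻¹ * (f.k⁻¹ * f.w * f.k) * e) * f.k⁻¹) * e⁻¹ by group, e2,
      show e⁻¹ * f.w⁻¹ * e = (e⁻¹ * f.w * e)⁻¹ by group, e1, ← conj_inv, f.k_w, inv_inv, hew,
      mul_inv_cancel_right]
  have hkC : ∀ d ∈ f.J ⊓ f.Q, f.k * d * f.k⁻¹ ∈ f.J ⊓ f.Q := fun d hd => conjC f hkz f.k_normJ hd
  -- elements of `J` act trivially on `Q` modulo `J ⊓ Q`
  have hJtriv : ∀ x ∈ f.J, ∀ q ∈ f.Q, x * q * x⁻¹ * q⁻¹ ∈ f.J ⊓ f.Q := fun x hx q hq => by
    refine ⟨?_, f.Q.mul_mem (f.toLocalZ.cent_z_normQ (f.hJcomm x hx _ f.toLocalZ.z_mem_J) hq) (f.Q.inv_mem hq)⟩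
    rw [show x * q * x⁻¹ * q⁻¹ = x * (q * x⁻¹ * q⁻¹) by group]
    exact mul_mem hx (conjJ f (S_normJ f (f.Q_le_S hq)) (inv_mem hx))
  have hka : f.k * a * f.k⁻¹ ∈ f.Q := f.toLocalZ.cent_z_normQ hkz ha
  rcases cent_L f hgL hgw with hgJ | hgJ
  · -- `k` preserves the fixed part
    refine no_k_inv f (A := fixC f hez) (fun x hx => hx.1) (fun x hx => ⟨f.Z_le_Q hx, ?_⟩) ?_ ?_
    · rw [f.toBasic.Z_comm hx hez, mul_inv_cancel_right, mul_inv_cancel]; exact one_mem _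
    · have hCle : f.J ⊓ f.Q ≤ fixC f hez := fun d hd => ⟨hd.2, mul_mem (hC d hd) (inv_mem hd)⟩
      haveI : Fact (Nat.Prime 3) := ⟨Nat.prime_three⟩
      obtain ⟨i, hi, he⟩ := (Nat.dvd_prime_pow Nat.prime_three (m := 5)).1
        (show Nat.card (fixC f hez) ∣ 3 ^ 5 by
          rw [show (3 : ℕ) ^ 5 = Nat.card f.Q by rw [f.hQcard]; norm_num]
          exact Subgroup.card_dvd_of_le fun x hx => hx.1)
      have h1 : Nat.card (fixC f hez) ≠ 27 := fun e' => haC (by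
        have heq := Subgroup.eq_of_le_of_card_ge hCle (by rw [f.JQ_card, e'])
        exact (show a ∈ f.J ⊓ f.Q by rw [heq]; exact ⟨ha, hafix⟩).1)
      have h2 : Nat.card (fixC f hez) ≠ 243 := fun e' => hcC (by
        have heq := Subgroup.eq_of_le_of_card_ge (fun x hx => hx.1 : fixC f hez ≤ f.Q) (by rw [e', f.hQcard])
        have hfix := (show c ∈ fixC f hez by rw [heq]; exact hc).2
        have h3 := mul_mem (inv_mem hfix) hcinv
        rw [show (e * c * e⁻¹ * c⁻¹)⁻¹ * (e * c * e⁻¹ * c) = c * c by group] at h3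
        have h4 := mul_mem h3.1 h3.1
        have h5 := f.hQexp c hc
        rw [pow_succ, pow_two] at h5
        rwa [← mul_assoc, h5, one_mul] at h4)
      have h27 := Subgroup.card_le_of_le hCle
      rw [f.JQ_card] at h27
      interval_cases i <;> omega
    · rintro x ⟨hx, hx'⟩
      have hkx := f.toLocalZ.cent_z_normQ hkz hx
      refine ⟨hkx, ?_⟩
      rw [show e * (f.k * x * f.k⁻¹) * e⁻¹ * (f.k * x * f.k⁻¹)⁻¹ =
        g * (f.k * (e * x * e⁻¹ * x⁻¹) * f.k⁻¹) * g⁻¹ * (g * (f.k * x * f.k⁻¹) * g⁻¹ * (f.k * x * f.k⁻¹)⁻¹) by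
          rw [hg]; group]
      exact mul_mem (conjC f (f.hJcomm g hgJ _ f.toLocalZ.z_mem_J) (normJ f (f.hJcomm g hgJ _ f.toLocalZ.z_mem_J) hgw)
        (hkC _ hx')) (hJtriv g hgJ _ hkx)
  · -- `k` exchanges the two parts, contradicting anisotropy
    set b := f.k * a * f.k⁻¹ with hb
    set g' := g * f.t with hg'
    have hg'z : g' * f.z = f.z * g' := f.hJcomm _ hgJ _ f.toLocalZ.z_mem_J
    have hbinv : e * b * e⁻¹ * b ∈ f.J ⊓ f.Q := by
      have hz1 := Z_le_C f (f.t_inv b hka)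
      have hd : f.t * (f.k * (e * a * e⁻¹ * a⁻¹) * f.k⁻¹) * f.t⁻¹ * (f.t * b * f.t⁻¹ * b) ∈ f.J ⊓ f.Q :=
        mul_mem (conjC f f.tz (normJ f f.tz (wt f).symm) (hkC _ hafix)) hz1
      have hd' := conjC f hg'z (normJ f hg'z (f.hJcomm _ hgJ _ f.w_mem_J)) hd
      have h1 := hJtriv _ hgJ (b⁻¹) (inv_mem hka)
      rw [show e * b * e⁻¹ * b = g' * (f.t * (f.k * (e * a * e⁻¹ * a⁻¹) * f.k⁻¹) * f.t⁻¹ * (f.t * b * f.t⁻¹ * b)) *
          g'⁻¹ * (g' * b⁻¹ * g'⁻¹ * b⁻¹⁻¹) by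
        have e2 : g * f.t * (f.t * (f.k * (e * a * e⁻¹ * a⁻¹) * f.k⁻¹) * f.t⁻¹ * (f.t * b * f.t⁻¹ * b)) *
          (g * f.t)⁻¹ * (g * f.t * b⁻¹ * (g * f.t)⁻¹ * b⁻¹⁻¹) =
            g * (f.t * f.t) * (f.k * (e * a * e⁻¹) * f.k⁻¹) * (f.t * f.t)⁻¹ * g⁻¹ * b := by
          rw [hb]; group
        rw [hg', e2, f.toLocalZ.t_sq, hg, hb]
        group]
      exact mul_mem hd' h1
    -- the two parts are orthogonal
    have horth : ∀ u v, u ∈ f.Q → v ∈ f.Q → e * u * e⁻¹ * u⁻¹ ∈ f.J ⊓ f.Q → e * v * e⁻¹ * v ∈ f.J ⊓ f.Q →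
        beta f u v = 0 ∧ beta f v u = 0 := by
      intro u v hu hv hu' hv'
      constructor
      · have h := beta_conj f hez hew hu hv
        rw [show e * u * e⁻¹ = e * u * e⁻¹ * u⁻¹ * u by group,
          show e * v * e⁻¹ = e * v * e⁻¹ * v * v⁻¹ by group,
          beta_mul_left f hu'.2 hu (mul_mem hv'.2 (inv_mem hv)),
          beta_left_C f hu' (mul_mem hv'.2 (inv_mem hv)), zero_add,
          beta_mul_right f hu hv'.2 (inv_mem hv), beta_right_C f hu hv', zero_add,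
          beta_inv_right f hu hv] at h
        revert h; generalize beta f u v = r; revert r; decide
      · have h := beta_conj f hez hew hv hu
        rw [show e * u * e⁻¹ = e * u * e⁻¹ * u⁻¹ * u by group,
          show e * v * e⁻¹ = e * v * e⁻¹ * v * v⁻¹ by group,
          beta_mul_left f hv'.2 (inv_mem hv) (mul_mem hu'.2 hu),
          beta_left_C f hv' (mul_mem hu'.2 hu), zero_add,
          beta_inv_left f hv (mul_mem hu'.2 hu),
          beta_mul_right f hv hu'.2 hu, beta_right_C f hv hu', zero_add] at h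
        revert h; generalize beta f v u = r; revert r; decide
    obtain ⟨o1, o2⟩ := horth a b ha hka hafix hbinv
    have hab : a * b ∈ f.J := beta_aniso f (mul_mem ha hka) (by
      rw [beta_mul_left f ha hka (mul_mem ha hka), beta_mul_right f ha ha hka,
        beta_mul_right f hka ha hka, o1, o2, hb, beta_k f ha]
      ring)
    -- so `b` is fixed as well as inverted
    have hba : b ∈ fixC f hez := by
      have habC : a * b ∈ f.J ⊓ f.Q := ⟨hab, mul_mem ha hka⟩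
      have h1 : a * b ∈ fixC f hez := ⟨habC.2, mul_mem (hC _ habC) (inv_mem habC)⟩
      have := mul_mem (inv_mem (show a ∈ fixC f hez from ⟨ha, hafix⟩)) h1
      rwa [inv_mul_cancel_left] at this
    have h3 := mul_mem (inv_mem hba.2) hbinv
    rw [show (e * b * e⁻¹ * b⁻¹)⁻¹ * (e * b * e⁻¹ * b) = b * b by group] at h3
    have h5 := f.hQexp b hka
    rw [pow_succ, pow_two] at h5
    have hbJ : b ∈ f.J := by
      have h4 := mul_mem h3.1 h3.1
      rwa [← mul_assoc, h5, one_mul] at h4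
    apply haC
    have := mul_mem hab (inv_mem hbJ)
    rwa [mul_inv_cancel_right] at this

/-- The element of order four modulo `J` fixing `z` and `w` in the big case. -/
theorem exists_big (hb : Nat.card ↥(centralizer ({f.z} : Set G) ⊓ centralizer ({f.t} : Set G)) = 720) :
    ∃ e ∈ normalizer (f.J : Set G), e * f.z = f.z * e ∧ e * f.w = f.w * e ∧ e * f.t = f.t * e ∧
      e * e * f.t ∈ f.J ∧
      ∀ g, g * f.z = f.z * g → g * f.w = f.w * g →
        g ∈ f.J ∨ g * f.t ∈ f.J ∨ g * e ∈ f.J ∨ g * e * f.t ∈ f.J := by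
  classical
  set Cz := centralizer ({f.z} : Set G) with hCz
  have hidx : (f.L.subgroupOf Cz).index = 2 := by
    have h := (f.L.subgroupOf Cz).card_mul_index
    rw [Nat.card_congr (subgroupOfEquivOfLe (L_le_Cz f)).toEquiv, card_L f, f.card_Cz, hb] at h
    omega
  have hmul : ∀ g h : G, g * f.z = f.z * g → h * f.z = f.z * h → g ∉ f.L → h ∉ f.L → g * h ∈ f.L := by
    intro g h hg hh hgL hhL
    have := (Subgroup.mul_mem_iff_of_index_two hidx (a := (⟨g, mem_centralizer_singleton_iff.2 hg⟩ : Cz))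
      (b := ⟨h, mem_centralizer_singleton_iff.2 hh⟩)).2
    simp only [mem_subgroupOf] at this
    exact this ⟨fun h' => absurd h' hgL, fun h' => absurd h' hhL⟩
  obtain ⟨n, hnz, hnt, hnL⟩ : ∃ n, n * f.z = f.z * n ∧ n * f.t = f.t * n ∧ n ∉ f.L := by
    by_contra h
    push Not at h
    have hle : Cz ≤ f.L := by
      intro c hc
      have hcz : c * f.z = f.z * c := mem_centralizer_singleton_iff.1 hc
      obtain ⟨a, ha, n, -, hnt, rfl⟩ := f.normZ_split c (f.toBasic.cz_normZ hcz)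
      have hnz : n * f.z = f.z * n := by
        have := ((show Commute a f.z from f.toLocalZ.Q_comm_z ha).inv_left).mul_left (show Commute (a * n) f.z from hcz)
        rwa [inv_mul_cancel_left] at this
      exact mul_mem (f.hQL ha) (h n hnz hnt)
    have := Subgroup.card_le_of_le hle
    rw [f.card_Cz, hb, card_L f] at this
    omega
  have hnK := f.K_normal n (f.toBasic.cz_normZ hnz) hnt
  have hw' : n * f.w * n⁻¹ ∈ f.K := (mem_normalizer_iff.1 hnK _).1 f.w_mem_K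
  set W : f.K := ⟨f.w, f.w_mem_K⟩ with hW
  set W' : f.K := ⟨n * f.w * n⁻¹, hw'⟩ with hW'
  have hW1 : W ≠ 1 := fun h => w_ne f (congrArg Subtype.val h)
  have hW'1 : W' ≠ 1 := fun h => w_ne f (conj_eq_one_iff.1 (congrArg Subtype.val h))
  have hW3 : W ^ 3 = 1 := Subtype.ext (w_cube f)
  have hW'3 : W' ^ 3 = 1 := Subtype.ext (by
    show (n * f.w * n⁻¹) ^ 3 = 1
    rw [conj_pow, w_cube, mul_one, mul_inv_cancel])
  obtain ⟨h, hh⟩ := CentZWFacts.exists_conj (f.eK W) (fun e => hW1 (f.eK.injective (e.trans (map_one _).symm)))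
    (by rw [← map_pow, hW3, map_one]) (f.eK W') (fun e => hW'1 (f.eK.injective (e.trans (map_one _).symm)))
    (by rw [← map_pow, hW'3, map_one])
  obtain ⟨g, rfl⟩ := f.eK.surjective h
  rw [← map_mul, ← map_mul] at hh
  have hg' : (g : G) * f.w = n * f.w * n⁻¹ * g := congrArg Subtype.val (f.eK.injective hh)
  set e := (g : G)⁻¹ * n with hedef
  have hgz : Commute (g : G) f.z := f.K_z g g.2
  have hgt : Commute (g : G) f.t := f.K_t g g.2
  have hez : e * f.z = f.z * e := (hgz.inv_left.mul_left hnz).eq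
  have het : e * f.t = f.t * e := (hgt.inv_left.mul_left hnt).eq
  have hew : e * f.w = f.w * e := by
    rw [hedef, show (g : G)⁻¹ * n * f.w = (g : G)⁻¹ * (n * f.w * n⁻¹ * g) * (g : G)⁻¹ * n by group, ← hg']
    group
  have heL : e ∉ f.L := fun h => hnL (by
    have := mul_mem (f.K_le_L g.2) h
    rwa [hedef, mul_inv_cancel_left] at this)
  have hee : e * e ∈ f.L := hmul e e hez hez heL heL
  have heew : e * e * f.w = f.w * (e * e) :=
    ((show Commute e f.w from hew).mul_left hew).eq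
  have hsq : e * e * f.t ∈ f.J := by
    refine (cent_L f hee heew).resolve_left fun hJ => heL ?_
    have h3 := f.hJexp _ hJ
    have hc : e * (e * e) ∈ f.L := by
      refine invol_mem_L f ?_ ?_ ?_ ?_
      · exact ((show Commute e f.z from hez).mul_left ((show Commute e f.z from hez).mul_left hez)).eq
      · exact ((show Commute e f.w from hew).mul_left ((show Commute e f.w from hew).mul_left hew)).eq
      · exact ((show Commute e f.t from het).mul_left ((show Commute e f.t from het).mul_left het)).eq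
      · rw [← h3, pow_succ, pow_two]; group
    have := mul_mem hc (inv_mem hee)
    rwa [mul_inv_cancel_right] at this
  refine ⟨e, normJ f hez hew, hez, hew, het, hsq, fun g hgz hgw => ?_⟩
  by_cases hgL : g ∈ f.L
  · rcases cent_L f hgL hgw with h | h
    · exact Or.inl h
    · exact Or.inr (Or.inl h)
  · rcases cent_L f (hmul g e hgz hez hgL heL) ((show Commute g f.w from hgw).mul_left hew).eq with h | h
    · exact Or.inr (Or.inr (Or.inl h))
    · exact Or.inr (Or.inr (Or.inr h))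

end CfsgLib.McLWeak.CentZW
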