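import Cfsg.Agent.Lib.McLWeak.Defs
import Cfsg.Agent.Lib.McLThreeLocal.Point.Datum
import Cfsg.Agent.Lib.CoprimeAction.Abelian

/-!
# The axis coordinates of the configuration `Core`

`N(J) = J ⋊ T`, where `T` normalises the four-group, gives the embedding of `3³ : A₄` or `3³ : S₄`.
-/

set_option autoImplicit false
set_option linter.style.haveILetI false

namespace CfsgLib.McLWeak

open Subgroup CfsgLib.OrderDegrees.StrongCore CfsgLib.McLThreeLocal.Point

universe u

namespace CoreModel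

/-- The sign change fixing coordinate `k`. -/
def mA : Fin 3 → Mon
  | 0 => ⟨1⟩
  | 1 => ⟨2⟩
  | 2 => ⟨3⟩

/-- The cyclic permutation. -/
def mR : Mon := ⟨12⟩

/-- The unit vector. -/
def ev : Fin 3 → Vec
  | 0 => (1, 0, 0)
  | 1 => (0, 1, 0)
  | 2 => (0, 0, 1)

theorem act_expand : ∀ (m : Mon) (u : Vec),
    act m u = u.1.val • act m (ev 0) + u.2.1.val • act m (ev 1) + u.2.2.val • act m (ev 2) := by
  decide +kernel

theorem vec_expand : ∀ u : Vec, u.1.val • ev 0 + u.2.1.val • ev 1 + u.2.2.val • ev 2 = u := by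
  decide +kernel

theorem act_faithful : ∀ m : Mon, (∀ i, act m (ev i) = ev i) → m = 1 := by decide +kernel

theorem mA_ev : ∀ k i : Fin 3, act (mA k) (ev i) = if i = k then ev i else -ev i := by decide +kernel

theorem mR_ev : ∀ i : Fin 3, act mR (ev i) = ev (i + 1) := by decide +kernel

theorem mA_inj : ∀ i k : Fin 3, mA i * (mA k)⁻¹ = 1 → i = k := by decide +kernel

theorem fixed_zero : ∀ u : Vec, (∀ k, act (mA k) u = u) → u = 0 := by decide +kernel

theorem even_word : ∀ m : Mon, m.odd = false →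
    ∃ i : Fin 3, m = mR ^ i.val ∨ ∃ k : Fin 3, m = mR ^ i.val * mA k := by decide +kernel

theorem all_word : ∀ m : Mon, ∀ x : Mon, x = ⟨4⟩ ∨ x = ⟨5⟩ →
    ∃ i : Fin 3, m = mR ^ i.val ∨ m = mR ^ i.val * x ∨
      ∃ k : Fin 3, m = mR ^ i.val * mA k ∨ m = mR ^ i.val * mA k * x := by decide +kernel

theorem odd_mul : ∀ m n : Mon, m.odd = false → n.odd = false → (m * n).odd = false := by
  decide +kernel

theorem odd_inv : ∀ m : Mon, m.odd = false → m⁻¹.odd = false := by decide +kernel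

theorem odd_mA : ∀ k, (mA k).odd = false := by decide +kernel

theorem easy_orbit : ∀ u : Vec, Easy u → ∃ m : Mon, m.odd = false ∧
    (u = act m (1, 0, 0) ∨ u = act m (-(1, 0, 0)) ∨ u = act m (1, 1, 1) ∨ u = act m (-(1, 1, 1))) := by
  decide +kernel

theorem plane_cases : ∀ p q : ZMod 3, (p, q) ≠ 0 →
    Easy (p, p, q) ∨ ∀ s t : ZMod 3, (s, t) ≠ 0 →
      Easy (s, -s, t) ∨ ∃ α β : Fin 3, α.val • (p, p, q) + β.val • (s, -s, t) = (1, 0, 0) := by
  decide +kernel

/-- The even part. -/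
def evenMon : Subgroup Mon where
  carrier := {m | m.odd = false}
  mul_mem' := odd_mul _ _
  one_mem' := by decide +kernel
  inv_mem' := odd_inv _

variable {X : Type u} [Group X] (c : Core X)

theorem f_mem (k : Fin 3) : c.f k ∈ c.J := c.gen ▸ subset_closure ⟨k, rfl⟩

theorem pw_add {x : X} (h : x ^ 3 = 1) (a b : ZMod 3) : x ^ (a + b).val = x ^ a.val * x ^ b.val := by
  rw [ZMod.val_add, ← pow_add]
  exact (pow_eq_pow_mod _ h).symm

/-- The coordinates on `J`. -/
def phi : V →* X where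
  toFun u := c.f 0 ^ u.toAdd.1.val * c.f 1 ^ u.toAdd.2.1.val * c.f 2 ^ u.toAdd.2.2.val
  map_one' := by simp
  map_mul' u v := by
    have h : ∀ i j : Fin 3, ∀ n m : ℕ, Commute (c.f i ^ n) (c.f j ^ m) := fun i j n m =>
      (show Commute (c.f i) (c.f j) from c.J_comm _ (f_mem c i) _ (f_mem c j)).pow_pow n m
    simp only [toAdd_mul, Prod.fst_add, Prod.snd_add, pw_add (c.f_cube _)]
    generalize hA : c.f 0 ^ u.toAdd.1.val = A
    generalize hA' : c.f 0 ^ v.toAdd.1.val = A'
    generalize hB : c.f 1 ^ u.toAdd.2.1.val = B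
    generalize hB' : c.f 1 ^ v.toAdd.2.1.val = B'
    generalize hC : c.f 2 ^ u.toAdd.2.2.val = C
    generalize hC' : c.f 2 ^ v.toAdd.2.2.val = C'
    have h1 : Commute A' B := hA' ▸ hB ▸ h 0 1 _ _
    have h2 : Commute A' C := hA' ▸ hC ▸ h 0 2 _ _
    have h3 : Commute B' C := hB' ▸ hC ▸ h 1 2 _ _
    calc A * A' * (B * B') * (C * C') = A * (A' * B) * (B' * C) * C' := by simp only [mul_assoc]
      _ = A * B * (A' * C) * B' * C' := by rw [h1.eq, h3.eq]; simp only [mul_assoc]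
      _ = A * B * C * (A' * B' * C') := by rw [h2.eq]; simp only [mul_assoc]

/-- The element with coordinates `u`. -/
abbrev pt (u : Vec) : X := phi c (Multiplicative.ofAdd u)

theorem pt_add (u v : Vec) : pt c (u + v) = pt c u * pt c v := map_mul (phi c) _ _

theorem pt_nsmul (n : ℕ) (u : Vec) : pt c (n • u) = pt c u ^ n := map_pow (phi c) _ n

theorem pt_neg (u : Vec) : pt c (-u) = (pt c u)⁻¹ := map_inv (phi c) _

theorem pt_zero : pt c 0 = 1 := map_one (phi c)

theorem pt_ev (i : Fin 3) : pt c (ev i) = c.f i := by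
  fin_cases i <;> simp [pt, phi, ev, ZMod.val_one]

theorem range_phi : (phi c).range = c.J := by
  refine le_antisymm ?_ ?_
  · rintro _ ⟨u, rfl⟩
    exact mul_mem (mul_mem (pow_mem (f_mem c 0) _) (pow_mem (f_mem c 1) _)) (pow_mem (f_mem c 2) _)
  · rw [← c.gen, closure_le]
    rintro _ ⟨i, rfl⟩
    exact ⟨_, pt_ev c i⟩

theorem pt_mem (u : Vec) : pt c u ∈ c.J := range_phi c ▸ ⟨_, rfl⟩

theorem exists_pt {x : X} (hx : x ∈ c.J) : ∃ u, pt c u = x := by
  rw [← range_phi c] at hx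
  obtain ⟨u, rfl⟩ := hx
  exact ⟨u.toAdd, rfl⟩

theorem pt_inj {u v : Vec} (h : pt c u = pt c v) : u = v := by
  have hs : Function.Surjective (fun u : Vec => (⟨pt c u, pt_mem c u⟩ : c.J)) := fun x => by
    obtain ⟨u, hu⟩ := exists_pt c x.2
    exact ⟨u, Subtype.ext hu⟩
  have hb : Function.Bijective (fun u : Vec => (⟨pt c u, pt_mem c u⟩ : c.J)) := by
    haveI : Finite c.J := Finite.of_surjective _ hs
    refine (Nat.bijective_iff_surjective_and_card _).2 ⟨hs, ?_⟩
    rw [c.card_J, Nat.card_eq_fintype_card]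
    rfl
  exact hb.1 (Subtype.ext h)

/-- `g` acts on `J` by the monomial map `m`. -/
def Act (g : X) (m : Mon) : Prop := ∀ u, g * pt c u * g⁻¹ = pt c (act m u)

variable {c}

theorem Act.of_basis {g : X} {m : Mon} (h : ∀ i, g * c.f i * g⁻¹ = pt c (act m (ev i))) :
    Act c g m := fun u => by
  conv_lhs => rw [← vec_expand u]
  rw [act_expand m u]
  simp only [pt_add, pt_nsmul, pt_ev, ← h, conj_pow]
  group

theorem Act.mul {g h : X} {m n : Mon} (hg : Act c g m) (hh : Act c h n) : Act c (g * h) (m * n) :=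
  fun u => by rw [act_mul, ← hg, ← hh]; group

theorem Act.inv {g : X} {m : Mon} (hg : Act c g m) : Act c g⁻¹ m⁻¹ := fun u => by
  have := hg (act m⁻¹ u)
  rw [← act_mul, mul_inv_cancel, act_one] at this
  rw [← this]; group

theorem Act.unique {g : X} {m n : Mon} (h : Act c g m) (h' : Act c g n) : m = n := by
  refine inv_mul_eq_one.1 (act_faithful _ fun i => ?_)
  rw [act_mul, ← pt_inj c ((h (ev i)).symm.trans (h' (ev i))), ← act_mul, inv_mul_cancel, act_one]

theorem Act.one : Act c 1 1 := fun u => by simp [act_one]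

theorem Act.pow {g : X} {m : Mon} (hg : Act c g m) : ∀ n : ℕ, Act c (g ^ n) (m ^ n)
  | 0 => by simpa using Act.one
  | n + 1 => by rw [pow_succ, pow_succ]; exact (Act.pow hg n).mul hg

theorem Act.mem_J {g : X} (h : Act c g 1) : g ∈ c.J := by
  rw [← c.centJ]
  refine mem_centralizer_iff.2 fun x hx => ?_
  obtain ⟨u, rfl⟩ := exists_pt c hx
  have := h u
  rw [act_one] at this
  exact (mul_inv_eq_iff_eq_mul.1 this).symm

theorem act_of_mem_J {g : X} (h : g ∈ c.J) : Act c g 1 := fun u => by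
  rw [act_one, c.J_comm g h _ (pt_mem c u), mul_inv_cancel_right]

theorem act_a (k : Fin 3) : Act c (c.a k) (mA k) := .of_basis fun i => by
  rw [mA_ev]
  split_ifs with h
  · subst h; rw [pt_ev, c.a_fix]
  · rw [pt_neg, pt_ev, c.a_inv k i h]

theorem act_r : Act c c.r mR := .of_basis fun i => by rw [mR_ev, pt_ev, c.r_f]

theorem Act.mem_normalizer {g : X} {m : Mon} (h : Act c g m) : g ∈ normalizer (c.J : Set X) := by
  refine mem_set_normalizer_iff.2 fun x => ⟨fun hx => ?_, fun hx => ?_⟩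
  · obtain ⟨u, rfl⟩ := exists_pt c hx
    rw [h]; exact pt_mem c _
  · obtain ⟨u, hu⟩ := exists_pt c hx
    have := h.inv u
    rw [hu] at this
    have e : x = g⁻¹ * (g * x * g⁻¹) * g⁻¹⁻¹ := by group
    rw [SetLike.mem_coe, e, this]; exact pt_mem c _

variable (c)

/-- The complement. -/
def comp : Subgroup X := normalizer (c.J : Set X) ⊓ normalizer (Set.range c.a)

variable {c}

theorem eq_one_of_mem {x : X} (hJ : x ∈ c.J) (hT : x ∈ comp c) : x = 1 := by
  obtain ⟨u, rfl⟩ := exists_pt c hJ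
  have hu : u = 0 := fixed_zero u fun k => by
    obtain ⟨i, hi⟩ := (mem_set_normalizer_iff.1 hT.2 (c.a k)).1 ⟨k, rfl⟩
    have h1 := ((act_of_mem_J hJ).mul (act_a k)).mul (act_of_mem_J hJ).inv
    rw [← hi, one_mul, inv_one, mul_one] at h1
    have hik : i = k := mA_inj i k (by rw [(act_a i).unique h1, mul_inv_cancel])
    subst hik
    refine pt_inj c ?_
    rw [← act_a i u]
    exact mul_inv_eq_iff_eq_mul.2 (eq_mul_inv_iff_mul_eq.1 hi)
  rw [hu, pt_zero]

theorem a_commute (k i : Fin 3) : c.a k * c.a i = c.a i * c.a k := by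
  have h : Commute (c.a 0) (c.a 1) := c.a_comm
  have h02 : Commute (c.a 0) (c.a 2) := c.a_mul ▸ (Commute.refl _).mul_right h
  have h12 : Commute (c.a 1) (c.a 2) := c.a_mul ▸ h.symm.mul_right (Commute.refl _)
  fin_cases k <;> fin_cases i <;>
    first | rfl | exact h.eq | exact h.eq.symm | exact h02.eq | exact h02.eq.symm | exact h12.eq |
      exact h12.eq.symm

theorem mem_comp {g : X} {m : Mon} (h : Act c g m) (ha : ∀ k, g * c.a k * g⁻¹ ∈ Set.range c.a) :
    g ∈ comp c := by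
  haveI : Fintype (Set.range c.a) := (Set.finite_range c.a).fintype
  exact ⟨h.mem_normalizer, mem_normalizer_fintype fun x ⟨k, hk⟩ => hk ▸ ha k⟩

theorem a_mem_comp (k : Fin 3) : c.a k ∈ comp c :=
  mem_comp (act_a k) fun i => ⟨i, by rw [a_commute, mul_inv_cancel_right]⟩

theorem r_mem_comp : c.r ∈ comp c := mem_comp act_r fun i => ⟨i + 1, (c.r_a i).symm⟩

variable (c)

/-- The monomial maps lifted to the complement. -/
def Good (m : Mon) : Prop := ∃ t ∈ comp c, Act c t m

variable {c}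

theorem Good.mul {m n : Mon} : Good c m → Good c n → Good c (m * n)
  | ⟨t, ht, h⟩, ⟨s, hs, h'⟩ => ⟨t * s, mul_mem ht hs, h.mul h'⟩

theorem good_r (n : ℕ) : Good c (mR ^ n) := ⟨_, pow_mem r_mem_comp n, act_r.pow n⟩

theorem good_a (k : Fin 3) : Good c (mA k) := ⟨_, a_mem_comp k, act_a k⟩

variable (c)

theorem conj_eq_of_inverted {t u : X} (h3 : u ^ 3 = 1) (hi : t * u * t⁻¹ = u⁻¹) :
    u * (u * t) * u⁻¹ = t := by
  have e : u * (u * t) * u⁻¹ = u * u * (t * u * t⁻¹)⁻¹ * t := by group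
  rw [e, hi, inv_inv, ← pow_two, ← pow_succ, h3, one_mul]

theorem cube_eq_one {u : X} (hu : u ∈ c.J) : u ^ 3 = 1 := by
  obtain ⟨v, rfl⟩ := exists_pt c hu
  rw [← pt_nsmul, show (3 : ℕ) • v = 0 from (show ∀ w : Vec, (3 : ℕ) • w = 0 by decide +kernel) v,
    pt_zero]

theorem good_odd (h : c.IsBig) : ∃ x : Mon, (x = ⟨4⟩ ∨ x = ⟨5⟩) ∧ Good c x ∧
    ∀ g ∈ normalizer (c.J : Set X), g * c.f 0 * g⁻¹ = c.f 0 → ∃ m, Act c g m := by
  obtain ⟨e, heN, he0, hee, hall⟩ := h
  have he2 : Act c (e * e) (mA 0)⁻¹ := by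
    have := (act_of_mem_J hee).mul (act_a 0).inv
    simpa [mul_assoc] using this
  have h00 : e * pt c (ev 0) * e⁻¹ = pt c (ev 0) := by rw [pt_ev, he0]
  have key : ∃ x : Mon, (x = ⟨4⟩ ∨ x = ⟨5⟩) ∧ Act c e x := by
    obtain ⟨k, hk⟩ := c.perm (e * c.r)
      (mul_mem heN (act_r (c := c)).mem_normalizer)
    have hconj : e * c.r * c.f 0 * (e * c.r)⁻¹ = e * c.f 1 * e⁻¹ := by
      have hr : c.r * c.f 0 * c.r⁻¹ = c.f 1 := c.r_f 0
      rw [← hr]; group
    have hsq : ∀ v : Vec, e * (e * pt c v * e⁻¹) * e⁻¹ = pt c (act (mA 0)⁻¹ v) := fun v => by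
      rw [← he2 v]; group
    rw [hconj, ← pt_ev c 1, ← pt_ev c k, ← pt_neg] at hk
    fin_cases k
    · exfalso
      rcases hk with hk | hk
      · have := hk.trans h00.symm
        rw [mul_left_inj, mul_right_inj] at this
        exact absurd (pt_inj c this) (by decide +kernel)
      · rw [pt_neg] at hk
        have := hk.trans (congrArg (·⁻¹) h00.symm)
        rw [mul_inv_rev, mul_inv_rev, inv_inv, ← mul_assoc, ← pt_neg, mul_left_inj, mul_right_inj]
          at this
        exact absurd (pt_inj c this) (by decide +kernel)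
    · exfalso
      have h2 := hsq (ev 1)
      rcases hk with hk | hk <;> rw [hk] at h2
      · erw [hk] at h2
        exact absurd (pt_inj c h2) (by decide +kernel)
      · rw [pt_neg, ← conj_inv] at h2
        erw [hk] at h2
        rw [← pt_neg, neg_neg] at h2
        exact absurd (pt_inj c h2) (by decide +kernel)
    · have h2 := hsq (ev 1)
      rcases hk with hk | hk
      · rw [hk] at h2
        refine ⟨⟨5⟩, Or.inr rfl, .of_basis fun i => ?_⟩
        fin_cases i
        · show e * c.f 0 * e⁻¹ = _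
          rw [he0, ← pt_ev]; exact congrArg (pt c) (by decide +kernel)
        · show e * c.f 1 * e⁻¹ = _
          rw [← pt_ev, hk]; exact congrArg (pt c) (by decide +kernel)
        · show e * c.f 2 * e⁻¹ = _
          rw [← pt_ev]; exact h2.trans (congrArg (pt c) (by decide +kernel))
      · rw [hk, pt_neg, ← conj_inv] at h2
        refine ⟨⟨4⟩, Or.inl rfl, .of_basis fun i => ?_⟩
        fin_cases i
        · show e * c.f 0 * e⁻¹ = _
          rw [he0, ← pt_ev]; exact congrArg (pt c) (by decide +kernel)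
        · show e * c.f 1 * e⁻¹ = _
          rw [← pt_ev, hk]; exact congrArg (pt c) (by decide +kernel)
        · show e * c.f 2 * e⁻¹ = _
          rw [← pt_ev]
          refine (inv_inj.1 (h2.trans ?_))
          rw [← pt_neg]; exact congrArg (pt c) (by decide +kernel)
  obtain ⟨x, hx, hex⟩ := key
  have hdecide : x * mA 0 * x⁻¹ * (mA 0)⁻¹ = 1 ∧ x * mA 1 * x⁻¹ * (mA 2)⁻¹ = 1 := by
    rcases hx with rfl | rfl <;> decide +kernel
  -- first correction
  set u := e * c.a 0 * e⁻¹ * (c.a 0)⁻¹ with hudef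
  have huJ : u ∈ c.J := Act.mem_J (hdecide.1 ▸ ((hex.mul (act_a 0)).mul hex.inv).mul (act_a 0).inv)
  have hu0 : u * c.a 0 = e * c.a 0 * e⁻¹ := inv_mul_cancel_right _ _
  have hinv : ∀ {t w : X}, t * t = 1 → w * t * (w * t) = 1 → t * w * t⁻¹ = w⁻¹ := by
    intro t w ht hwt
    rw [← eq_inv_of_mul_eq_one_left ht]
    refine (inv_eq_of_mul_eq_one_right ?_).symm
    rw [← hwt]; group
  have hui : c.a 0 * u * (c.a 0)⁻¹ = u⁻¹ := hinv (c.a_sq 0) (by
    rw [hu0, show e * c.a 0 * e⁻¹ * (e * c.a 0 * e⁻¹) = e * (c.a 0 * c.a 0) * e⁻¹ by group, c.a_sq]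
    group)
  set e1 := u * e with he1def
  have he1 : Act c e1 x := by simpa using (act_of_mem_J huJ).mul hex
  have h10 : e1 * c.a 0 * e1⁻¹ = c.a 0 := by
    conv_rhs => rw [← conj_eq_of_inverted (cube_eq_one c huJ) hui, hu0]
    rw [he1def]; group
  -- second correction
  set w := e1 * c.a 1 * e1⁻¹ * (c.a 2)⁻¹ with hwdef
  have hwJ : w ∈ c.J := Act.mem_J (hdecide.2 ▸ ((he1.mul (act_a 1)).mul he1.inv).mul (act_a 2).inv)
  have hw2 : w * c.a 2 = e1 * c.a 1 * e1⁻¹ := inv_mul_cancel_right _ _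
  have hwi : c.a 2 * w * (c.a 2)⁻¹ = w⁻¹ := hinv (c.a_sq 2) (by
    rw [hw2, show e1 * c.a 1 * e1⁻¹ * (e1 * c.a 1 * e1⁻¹) = e1 * (c.a 1 * c.a 1) * e1⁻¹ by group,
      c.a_sq]
    group)
  have hw0 : Commute w (c.a 0) := by
    have h1 : Commute (e1 * c.a 1 * e1⁻¹) (c.a 0) := by
      rw [← h10]; exact Commute.conj (a_commute 1 0) e1
    have h2 : Commute (c.a 2)⁻¹ (c.a 0) := (show Commute (c.a 2) (c.a 0) from a_commute 2 0).inv_left
    exact h1.mul_left h2
  set e2 := w * e1 with he2def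
  have he2' : Act c e2 x := by simpa using (act_of_mem_J hwJ).mul he1
  have h20 : e2 * c.a 0 * e2⁻¹ = c.a 0 := by
    rw [he2def, show w * e1 * c.a 0 * (w * e1)⁻¹ = w * (e1 * c.a 0 * e1⁻¹) * w⁻¹ by group, h10,
      hw0.eq, mul_inv_cancel_right]
  have h21 : e2 * c.a 1 * e2⁻¹ = c.a 2 := by
    conv_rhs => rw [← conj_eq_of_inverted (cube_eq_one c hwJ) hwi, hw2]
    rw [he2def]; group
  have h22 : e2 * c.a 2 * e2⁻¹ = c.a 1 := by
    rw [← c.a_mul, show e2 * (c.a 0 * c.a 1) * e2⁻¹ = (e2 * c.a 0 * e2⁻¹) * (e2 * c.a 1 * e2⁻¹) by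
      group, h20, h21, ← c.a_mul, ← mul_assoc, c.a_sq, one_mul]
  refine ⟨x, hx, ⟨e2, mem_comp he2' fun k => ?_, he2'⟩, fun g hgN hg => ?_⟩
  · fin_cases k
    · exact ⟨0, h20.symm⟩
    · exact ⟨2, h21.symm⟩
    · exact ⟨1, h22.symm⟩
  · rcases hall g hgN hg with hh | hh | hh | hh
    · exact ⟨_, act_of_mem_J hh⟩
    · exact ⟨_, by simpa using (act_of_mem_J hh).mul (act_a 0).inv⟩
    · exact ⟨_, by simpa using (act_of_mem_J hh).mul hex.inv⟩
    · exact ⟨_, by simpa [mul_assoc] using ((act_of_mem_J hh).mul (act_a 0).inv).mul hex.inv⟩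

theorem exists_act (S : Subgroup Mon) (hS : ∀ m : Mon, m.odd = false → m ∈ S)
    (hfix : ∀ g ∈ normalizer (c.J : Set X), g * c.f 0 * g⁻¹ = c.f 0 → ∃ m ∈ S, Act c g m)
    {g : X} (hg : g ∈ normalizer (c.J : Set X)) : ∃ m ∈ S, Act c g m := by
  suffices H : ∃ (w : X) (n : Mon), n ∈ S ∧ Act c w n ∧ (w * g) * c.f 0 * (w * g)⁻¹ = c.f 0 by
    obtain ⟨w, n, hn, hw, hfx⟩ := H
    obtain ⟨m, hm, hwm⟩ := hfix _ (mul_mem hw.mem_normalizer hg) hfx
    exact ⟨n⁻¹ * m, mul_mem (inv_mem hn) hm, by simpa [← mul_assoc] using hw.inv.mul hwm⟩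
  obtain ⟨k, hk⟩ := c.perm g hg
  let p : Fin 3 := -k
  have hp : c.r ^ p.val * c.f k * (c.r ^ p.val)⁻¹ = c.f 0 := by
    have h := (act_r (c := c)).pow p.val (ev k)
    rw [pt_ev] at h
    rw [h, ← pt_ev c 0]
    exact congrArg (pt c) ((show ∀ k : Fin 3, act (mR ^ (-k : Fin 3).val) (ev k) = ev 0 by
      decide +kernel) k)
  have hpS : mR ^ p.val ∈ S := hS _ ((show ∀ q : Fin 3, (mR ^ q.val).odd = false by decide +kernel) p)
  rcases hk with hk | hk
  · exact ⟨_, _, hpS, act_r.pow p.val, by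
      rw [show c.r ^ p.val * g * c.f 0 * (c.r ^ p.val * g)⁻¹ =
        c.r ^ p.val * (g * c.f 0 * g⁻¹) * (c.r ^ p.val)⁻¹ by group, hk, hp]⟩
  · refine ⟨c.a 1 * c.r ^ p.val, _, mul_mem (hS _ (odd_mA 1)) hpS, (act_a 1).mul (act_r.pow p.val), ?_⟩
    rw [show c.a 1 * c.r ^ p.val * g * c.f 0 * (c.a 1 * c.r ^ p.val * g)⁻¹ =
      c.a 1 * (c.r ^ p.val * (g * c.f 0 * g⁻¹) * (c.r ^ p.val)⁻¹) * (c.a 1)⁻¹ by group, hk,
      ← conj_inv, hp, ← conj_inv, c.a_inv 1 0 (by decide), inv_inv]

/-- The datum from a group of monomial maps. -/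
theorem exists_datum [Finite X] (S : Subgroup Mon)
    (hcases : S = ⊤ ∨ ∀ m : Mon, m ∈ S ↔ m.odd = false) (hgood : ∀ m ∈ S, Good c m)
    (hfix : ∀ g ∈ normalizer (c.J : Set X), g * c.f 0 * g⁻¹ = c.f 0 → ∃ m ∈ S, Act c g m) :
    ∃ D : Datum X, D.J = c.J ∧ D.R = S.comap SemidirectProduct.rightHom ∧ c.r ∈ D.e.range := by
  have hS : ∀ m : Mon, m.odd = false → m ∈ S := fun m hm => by
    rcases hcases with rfl | h
    · exact mem_top m
    · exact (h m).2 hm
  have hT : ∀ m : S, ∃ t, t ∈ comp c ∧ Act c t m := fun m => hgood m m.2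
  choose τ hτT hτ using hT
  have uniq : ∀ {t s : X} {m : Mon}, t ∈ comp c → s ∈ comp c → Act c t m → Act c s m → t = s :=
    fun {t s m} ht hs h h' => by
      have h2 := h.inv.mul h'
      rw [inv_mul_cancel] at h2
      exact inv_mul_eq_one.1 (eq_one_of_mem h2.mem_J (mul_mem (inv_mem ht) hs))
  let R : Subgroup K0 := S.comap SemidirectProduct.rightHom
  let e : R →* X :=
    MonoidHom.mk' (fun n => phi c (n : K0).left * τ ⟨(n : K0).right, n.2⟩) fun n n' => by
      show phi c ((n : K0).left * aut (n : K0).right (n' : K0).left) * _ = _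
      have h1 : τ ⟨((n * n' : R) : K0).right, (n * n').2⟩ =
          τ ⟨(n : K0).right, n.2⟩ * τ ⟨(n' : K0).right, n'.2⟩ :=
        uniq (hτT _) (mul_mem (hτT _) (hτT _)) (hτ _) ((hτ _).mul (hτ _))
      have h2 : τ ⟨(n : K0).right, n.2⟩ * phi c (n' : K0).left * (τ ⟨(n : K0).right, n.2⟩)⁻¹ =
          phi c (aut (n : K0).right (n' : K0).left) := hτ _ _
      rw [h1, map_mul, ← h2]
      group
  have he : ∀ n : R, e n = phi c (n : K0).left * τ ⟨(n : K0).right, n.2⟩ := fun _ => rfl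
  have hτ1 : ∀ h : (1 : Mon) ∈ S, τ ⟨1, h⟩ = 1 := fun h => uniq (hτT _) (one_mem _) (hτ _) Act.one
  have hphi : ∀ v : V, phi c v ∈ c.J := fun v => pt_mem c v.toAdd
  have hmem : ∀ n : R, e n ∈ c.J ↔ (n : K0).right = 1 := fun n => by
    rw [he, Subgroup.mul_mem_cancel_left _ (hphi _)]
    exact ⟨fun h => (hτ _).unique (eq_one_of_mem h (hτT _) ▸ Act.one), fun h => by
      have : τ ⟨(n : K0).right, n.2⟩ = 1 :=
        uniq (hτT _) (one_mem _) (by simpa only [h] using hτ ⟨(n : K0).right, n.2⟩) Act.one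
      rw [this]; exact one_mem _⟩
  have htr : ∀ u : Vec, transl u ∈ R := fun u => one_mem S
  have hetr : ∀ u : Vec, e ⟨transl u, htr u⟩ = pt c u := fun u => by
    rw [he]; exact (congrArg (_ * ·) (hτ1 _)).trans (mul_one _)
  have hrange : e.range = normalizer (c.J : Set X) := by
    refine le_antisymm ?_ fun g hg => ?_
    · rintro _ ⟨n, rfl⟩
      rw [he]
      exact mul_mem (act_of_mem_J (hphi _)).mem_normalizer (hτ _).mem_normalizer
    · obtain ⟨m, hm, hgm⟩ := exists_act c S hS hfix hg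
      obtain ⟨u, hu⟩ := exists_pt c (Act.mem_J (mul_inv_cancel m ▸ hgm.mul (hτ ⟨m, hm⟩).inv))
      refine ⟨⟨⟨Multiplicative.ofAdd u, m⟩, hm⟩, ?_⟩
      rw [he]
      exact (congrArg (· * τ ⟨m, hm⟩) hu).trans (inv_mul_cancel_right _ _)
  have hN : ∀ v : Vec, Easy v → centralizer ({pt c v} : Set X) ≤ normalizer (c.J : Set X) := by
    intro v hv x hx
    obtain ⟨m, hm, hmv⟩ := easy_orbit v hv
    set t := τ ⟨m, hS m hm⟩
    have htN : t ∈ normalizer (c.J : Set X) := (hτ _).mem_normalizer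
    have hv0 : ∀ v₀, v = act m v₀ → Commute (t⁻¹ * x * t) (pt c v₀) := by
      intro v₀ e0
      have h1 : Commute x (pt c v) := mem_centralizer_singleton_iff.1 hx
      rw [e0, ← show t * pt c v₀ * t⁻¹ = pt c (act m v₀) from hτ ⟨m, hS m hm⟩ v₀] at h1
      have h2 := h1.conj t⁻¹
      simpa [mul_assoc] using h2
    suffices t⁻¹ * x * t ∈ normalizer (c.J : Set X) by
      simpa [mul_assoc] using mul_mem (mul_mem htN this) (inv_mem htN)
    have h1 : pt c ((1, 0, 0) : Vec) = c.f 0 := pt_ev c 0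
    have h111 : pt c ((1, 1, 1) : Vec) = c.f 0 * c.f 1 * c.f 2 := by
      simp [pt, phi, ZMod.val_one]
    rcases hmv with h | h | h | h <;> have h' := hv0 _ h
    · exact c.centF (mem_centralizer_singleton_iff.2 (h1 ▸ h').eq)
    · rw [pt_neg, Commute.inv_right_iff, h1] at h'
      exact c.centF (mem_centralizer_singleton_iff.2 h'.eq)
    · exact c.centS (mem_centralizer_singleton_iff.2 (h111 ▸ h').eq)
    · rw [pt_neg, Commute.inv_right_iff, h111] at h'
      exact c.centS (mem_centralizer_singleton_iff.2 h'.eq)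
  refine ⟨⟨R, ?_, htr, e, ?_, c.J, hmem, hrange, ?_, ?_⟩, rfl, rfl, ?_⟩
  · rcases hcases with rfl | h
    · exact Or.inl (comap_top _)
    · exact Or.inr fun n => h _
  · refine (injective_iff_map_eq_one e).2 fun n hn => ?_
    have hr : (n : K0).right = 1 := (hmem n).1 (hn ▸ one_mem _)
    have hn' : n = ⟨transl (n : K0).left.toAdd, htr _⟩ := Subtype.ext (SemidirectProduct.ext rfl hr)
    rw [hn', hetr, ← pt_zero c] at hn
    rw [hn']
    exact Subtype.ext (SemidirectProduct.ext (pt_inj c hn) rfl)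
  · intro v hv
    rw [hetr, hrange]
    exact hN v hv
  · intro K hcop hK
    have hnorm : c.J ≤ normalizer (K : Set X) := fun j hj => mem_set_normalizer_iff.2 fun k =>
      ⟨hK j hj k, fun hk => by simpa [mul_assoc] using hK _ (inv_mem hj) _ hk⟩
    -- planes
    let plane (s : ZMod 3) : Multiplicative (ZMod 3 × ZMod 3) →* X :=
      MonoidHom.mk' (fun p => pt c (p.toAdd.1, s * p.toAdd.1, p.toAdd.2)) fun p q => by
        rw [← pt_add]; congr 1; ext <;> simp [mul_add]
    have hplane : ∀ s (L H : Subgroup X), L ≤ K → (∀ j ∈ c.J, j ∈ normalizer (L : Set X)) →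
        (∀ p : ZMod 3 × ZMod 3, p ≠ 0 →
          L ⊓ centralizer ({pt c (p.1, s * p.1, p.2)} : Set X) ≤ H) → L ≤ H := by
      intro s L H hLK hLN hH
      have hinj : Function.Injective (plane s) := fun p q h => by
        have := pt_inj c h
        simp only [Prod.mk.injEq] at this
        exact Multiplicative.toAdd.injective (Prod.ext this.1 this.2.2)
      have hA : (plane s).range ≤ c.J := by
        rintro _ ⟨p, rfl⟩; exact pt_mem c _
      haveI : IsMulCommutative (plane s).range :=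
        ⟨⟨fun x y => Subtype.ext (c.J_comm _ (hA x.2) _ (hA y.2))⟩⟩
      have hcard : Nat.card (plane s).range = 9 := by
        rw [← Nat.card_congr (MonoidHom.ofInjective hinj).toEquiv, Nat.card_eq_fintype_card]
        rfl
      refine CfsgLib.CoprimeAction.le_of_centralizers (A := (plane s).range) ?_
        (hA.trans hLN) ?_ ?_
      · intro hc
        obtain ⟨g, hg⟩ := hc.exists_generator
        have h3 : orderOf g ∣ 3 := orderOf_dvd_of_pow_eq_one (Subtype.ext (cube_eq_one c (hA g.2)))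
        have h9 := orderOf_eq_card_of_forall_mem_zpowers hg
        rw [h9, hcard] at h3
        omega
      · rw [hcard]
        exact (Nat.Coprime.pow_left 2 (hcop.coprime_dvd_left (card_dvd_of_le hLK)).symm)
      · rintro _ ⟨p, rfl⟩ hp
        exact hH p.toAdd fun h => hp (by simp [plane, h]; exact pt_zero c)
    have hKN : K ≤ normalizer (c.J : Set X) := by
      refine hplane 1 K _ le_rfl (fun j hj => hnorm hj) fun p hp => ?_
      rw [one_mul]
      rcases plane_cases p.1 p.2 hp with he | he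
      · exact inf_le_right.trans (hN _ he)
      · refine hplane (-1) _ _ inf_le_left (fun j hj => ?_) fun q hq => ?_
        · have hc : Commute j (pt c (p.1, p.1, p.2)) := c.J_comm j hj _ (pt_mem c _)
          refine mem_set_normalizer_iff.2 fun k => ?_
          simp only [SetLike.mem_coe, mem_inf, mem_centralizer_singleton_iff]
          exact and_congr (mem_set_normalizer_iff.1 (hnorm hj) k)
            ⟨fun h => (hc.mul_left (show Commute k _ from h)).mul_left hc.inv_left, fun h => by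
              simpa [mul_assoc] using ((hc.inv_left.mul_left (show Commute _ _ from h)).mul_left hc).eq ⟩
        · rw [neg_one_mul]
          rcases he q.1 q.2 hq with hq' | ⟨α, β, hαβ⟩
          · exact inf_le_right.trans (hN _ hq')
          · intro x hx
            have h1 : Commute x (pt c (p.1, p.1, p.2)) := mem_centralizer_singleton_iff.1 hx.1.2
            have h2 : Commute x (pt c (q.1, -q.1, q.2)) := mem_centralizer_singleton_iff.1 hx.2
            have h3 := (h1.pow_right α.val).mul_right (h2.pow_right β.val)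
            rw [← pt_nsmul, ← pt_nsmul, ← pt_add, hαβ] at h3
            exact c.centF (mem_centralizer_singleton_iff.2 (pt_ev c 0 ▸ h3).eq)
    have hKJ : K ⊓ c.J = ⊥ := disjoint_iff.1 (disjoint_of_coprime_natCard (by
      rw [c.card_J]; exact Nat.Coprime.pow_right 3 hcop))
    rw [eq_bot_iff]
    intro k hk
    have hkC : k ∈ centralizer (c.J : Set X) := mem_centralizer_iff.2 fun j hj => by
      have h1 : j * k * j⁻¹ * k⁻¹ ∈ K := mul_mem (hK j hj k hk) (inv_mem hk)
      have h2 : j * k * j⁻¹ * k⁻¹ ∈ c.J := by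
        rw [show j * k * j⁻¹ * k⁻¹ = j * (k * j⁻¹ * k⁻¹) by group]
        exact mul_mem hj ((mem_set_normalizer_iff.1 (hKN hk) _).1 (inv_mem hj))
      have h3 : j * k * j⁻¹ * k⁻¹ ∈ K ⊓ c.J := mem_inf.2 ⟨h1, h2⟩
      rw [hKJ] at h3
      rwa [mem_bot, mul_inv_eq_one, mul_inv_eq_iff_eq_mul] at h3
    rw [c.centJ] at hkC
    rw [← hKJ]; exact mem_inf.2 ⟨hk, hkC⟩
  · show c.r ∈ e.range
    rw [hrange]; exact (act_r (c := c)).mem_normalizer

end CoreModel

open CoreModel

/-- The case `3³ : A₄`. -/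
theorem exists_datum_small {X : Type u} [Group X] [Finite X] (c : Core X) (hs : c.IsSmall) :
    ∃ D : Datum X, D.J = c.J ∧ D.R ≠ ⊤ ∧ c.r ∈ D.e.range := by
  obtain ⟨D, hJ, hR, hr⟩ := exists_datum c evenMon (Or.inr fun _ => Iff.rfl)
    (fun m hm => by
      obtain ⟨i, rfl | ⟨k, rfl⟩⟩ := even_word m hm
      exacts [good_r _, (good_r _).mul (good_a k)])
    (fun g hgN hg => by
      rcases hs g hgN hg with h | h
      · exact ⟨1, one_mem _, act_of_mem_J h⟩
      · exact ⟨_, inv_mem (odd_mA 0), by simpa using (act_of_mem_J h).mul (act_a 0).inv⟩)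
  refine ⟨D, hJ, ?_, hr⟩
  rw [hR]
  intro h
  have := h ▸ mem_top (SemidirectProduct.inr (φ := aut) (⟨4⟩ : Mon))
  exact absurd (show (⟨4⟩ : Mon).odd = false from this) (by decide +kernel)

/-- The case `3³ : S₄`. -/
theorem exists_datum_big {X : Type u} [Group X] [Finite X] (c : Core X) (hb : c.IsBig) :
    ∃ D : Datum X, D.J = c.J ∧ D.R = ⊤ := by
  obtain ⟨x, hx, hgx, hfix⟩ := good_odd c hb
  obtain ⟨D, hJ, hR, -⟩ := exists_datum c ⊤ (Or.inl rfl)
    (fun m _ => by
      obtain ⟨i, rfl | rfl | ⟨k, rfl | rfl⟩⟩ := all_word m x hx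
      exacts [good_r _, (good_r _).mul hgx, (good_r _).mul (good_a k),
        ((good_r _).mul (good_a k)).mul hgx])
    (fun g hgN hg => (hfix g hgN hg).imp fun m hm => ⟨mem_top m, hm⟩)
  exact ⟨D, hJ, hR.trans (comap_top _)⟩

end CfsgLib.McLWeak
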