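import Cfsg.Agent.Lib.McLWeak.Defs

/-!
# A normal subgroup of index three in the small configuration

The element `r` is fused neither into `J` nor to its inverse, so the transfer into `T ⧸ J`, `T = J⟨r⟩`,
does not kill it.
-/

set_option autoImplicit false

namespace CfsgLib.McLWeak.Core

open Subgroup

universe u

variable {X : Type u} [Group X] (c : Core X)

/-- The element with the given coordinates. -/
def co (a b d : ZMod 3) : X := c.f 0 ^ a.val * c.f 1 ^ b.val * c.f 2 ^ d.val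

/-- The product of the basis. -/
def sv : X := c.co 1 1 1

theorem f_mem (k : Fin 3) : c.f k ∈ c.J := c.gen ▸ subset_closure ⟨k, rfl⟩

theorem co_mem (a b d : ZMod 3) : c.co a b d ∈ c.J :=
  mul_mem (mul_mem (pow_mem (c.f_mem 0) _) (pow_mem (c.f_mem 1) _)) (pow_mem (c.f_mem 2) _)

theorem f_comm (i k : Fin 3) : Commute (c.f i) (c.f k) := c.J_comm _ (c.f_mem i) _ (c.f_mem k)

theorem pow_val_add {g : X} (hg : g ^ 3 = 1) (a b : ZMod 3) :
    g ^ (a + b).val = g ^ a.val * g ^ b.val := by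
  rw [← pow_add, ZMod.val_add, ← pow_eq_pow_mod _ hg]

theorem co_mul (a b d a' b' d' : ZMod 3) :
    c.co a b d * c.co a' b' d' = c.co (a + a') (b + b') (d + d') := by
  have h20 : Commute (c.f 2 ^ d.val) (c.f 0 ^ a'.val) := (c.f_comm 2 0).pow_pow _ _
  have h21 : Commute (c.f 2 ^ d.val) (c.f 1 ^ b'.val) := (c.f_comm 2 1).pow_pow _ _
  have h10 : Commute (c.f 1 ^ b.val) (c.f 0 ^ a'.val) := (c.f_comm 1 0).pow_pow _ _
  unfold co
  rw [pow_val_add (c.f_cube 0), pow_val_add (c.f_cube 1), pow_val_add (c.f_cube 2)]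
  calc _ = c.f 0 ^ a.val * c.f 1 ^ b.val * (c.f 2 ^ d.val * c.f 0 ^ a'.val) * c.f 1 ^ b'.val *
        c.f 2 ^ d'.val := by group
    _ = c.f 0 ^ a.val * (c.f 1 ^ b.val * c.f 0 ^ a'.val) * (c.f 2 ^ d.val * c.f 1 ^ b'.val) *
        c.f 2 ^ d'.val := by rw [h20.eq]; group
    _ = _ := by rw [h10.eq, h21.eq]; group

theorem co_zero : c.co 0 0 0 = 1 := by simp [co]

theorem co_inv (a b d : ZMod 3) : (c.co a b d)⁻¹ = c.co (-a) (-b) (-d) := by
  refine inv_eq_of_mul_eq_one_right ?_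
  rw [co_mul, add_neg_cancel, add_neg_cancel, add_neg_cancel, co_zero]

theorem co_pow (a b d : ZMod 3) (n : ℕ) : c.co a b d ^ n = c.co (n * a) (n * b) (n * d) := by
  induction n with
  | zero => simp [co_zero]
  | succ n ih =>
    rw [pow_succ, ih, co_mul]
    congr 1 <;> (push_cast; ring)

theorem exists_co {x : X} (hx : x ∈ c.J) : ∃ a b d, x = c.co a b d := by
  rw [← c.gen] at hx
  induction hx using closure_induction with
  | mem x hx =>
    obtain ⟨k, rfl⟩ := hx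
    fin_cases k
    · exact ⟨1, 0, 0, by simp [co, ZMod.val_one]⟩
    · exact ⟨0, 1, 0, by simp [co, ZMod.val_one]⟩
    · exact ⟨0, 0, 1, by simp [co, ZMod.val_one]⟩
  | one => exact ⟨0, 0, 0, c.co_zero.symm⟩
  | mul x y _ _ hx hy =>
    obtain ⟨a, b, d, rfl⟩ := hx
    obtain ⟨a', b', d', rfl⟩ := hy
    exact ⟨_, _, _, c.co_mul ..⟩
  | inv x _ hx =>
    obtain ⟨a, b, d, rfl⟩ := hx
    exact ⟨_, _, _, c.co_inv ..⟩

theorem co_inj {a b d a' b' d' : ZMod 3} (h : c.co a b d = c.co a' b' d') :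
    a = a' ∧ b = b' ∧ d = d' := by
  let m : ZMod 3 × ZMod 3 × ZMod 3 → c.J := fun p => ⟨c.co p.1 p.2.1 p.2.2, c.co_mem ..⟩
  have hs : Function.Surjective m := fun x => by
    obtain ⟨a, b, d, e⟩ := c.exists_co x.2
    exact ⟨(a, b, d), Subtype.ext e.symm⟩
  have : Finite c.J := Nat.finite_of_card_ne_zero (by rw [c.card_J]; norm_num)
  have hi : Function.Injective m :=
    ((Nat.bijective_iff_surjective_and_card m).2 ⟨hs, by simp [c.card_J]⟩).1
  have := hi (a₁ := (a, b, d)) (a₂ := (a', b', d')) (Subtype.ext h)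
  simpa using this

theorem conj_co {g : X} {u v w : X} (h0 : g * c.f 0 * g⁻¹ = u) (h1 : g * c.f 1 * g⁻¹ = v)
    (h2 : g * c.f 2 * g⁻¹ = w) (a b d : ZMod 3) :
    g * c.co a b d * g⁻¹ = u ^ a.val * v ^ b.val * w ^ d.val := by
  rw [co, ← h0, ← h1, ← h2, conj_pow, conj_pow, conj_pow]
  group

theorem r_co (a b d : ZMod 3) : c.r * c.co a b d * c.r⁻¹ = c.co d a b := by
  rw [c.conj_co (u := c.f 1) (v := c.f 2) (w := c.f 0) (c.r_f 0) (c.r_f 1) (c.r_f 2), co]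
  have h10 := (c.f_comm 1 0).pow_pow a.val d.val
  have h20 := (c.f_comm 2 0).pow_pow b.val d.val
  calc _ = c.f 1 ^ a.val * (c.f 2 ^ b.val * c.f 0 ^ d.val) := by group
    _ = c.f 1 ^ a.val * c.f 0 ^ d.val * c.f 2 ^ b.val := by rw [h20.eq]; group
    _ = _ := by rw [h10.eq]

theorem r_ne_one : c.r ≠ 1 := fun e => by
  have h := c.r_f 0
  rw [e] at h
  have h' : c.co 1 0 0 = c.co 0 1 0 := by simpa [co, ZMod.val_one] using h
  exact absurd (c.co_inj h').1 (by decide)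

theorem r_not_mem : c.r ∉ c.J := fun e => by
  obtain ⟨a, b, d, hr⟩ := c.exists_co e
  have h : c.co 1 0 0 = c.co 0 1 0 := by
    have h' := c.r_co 1 0 0
    rw [hr, co_mul, co_inv, co_mul] at h'
    simpa using h'
  exact absurd (c.co_inj h).1 (by decide)

theorem r_mem_normalizer : c.r ∈ normalizer (c.J : Set X) := by
  rw [mem_normalizer_iff]
  intro x
  constructor
  · intro hx
    obtain ⟨a, b, d, rfl⟩ := c.exists_co hx
    rw [r_co]
    exact c.co_mem ..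
  · intro hx
    obtain ⟨a, b, d, e⟩ := c.exists_co hx
    have h := c.r_co b d a
    rw [← e] at h
    have : x = c.co b d a := by simpa using h.symm
    rw [this]
    exact c.co_mem ..

theorem a_co_zero (p b d : ZMod 3) : c.a 0 * c.co p b d * (c.a 0)⁻¹ = c.co p (-b) (-d) := by
  rw [c.conj_co (c.a_fix 0) (c.a_inv 0 1 (by decide)) (c.a_inv 0 2 (by decide)), co,
    inv_pow, inv_pow]
  congr 1
  · congr 1
    exact inv_eq_of_mul_eq_one_right (by rw [← pow_val_add (c.f_cube 1), add_neg_cancel]; simp)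
  · exact inv_eq_of_mul_eq_one_right (by rw [← pow_val_add (c.f_cube 2), add_neg_cancel]; simp)

theorem a_co_one (p b d : ZMod 3) : c.a 1 * c.co p b d * (c.a 1)⁻¹ = c.co (-p) b (-d) := by
  rw [c.conj_co (c.a_inv 1 0 (by decide)) (c.a_fix 1) (c.a_inv 1 2 (by decide)), co,
    inv_pow, inv_pow]
  congr 1
  · congr 1
    exact inv_eq_of_mul_eq_one_right (by rw [← pow_val_add (c.f_cube 0), add_neg_cancel]; simp)
  · exact inv_eq_of_mul_eq_one_right (by rw [← pow_val_add (c.f_cube 2), add_neg_cancel]; simp)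

theorem a_co_two (p b d : ZMod 3) : c.a 2 * c.co p b d * (c.a 2)⁻¹ = c.co (-p) (-b) d := by
  rw [c.conj_co (c.a_inv 2 0 (by decide)) (c.a_inv 2 1 (by decide)) (c.a_fix 2), co,
    inv_pow, inv_pow]
  congr 1
  congr 1
  · exact inv_eq_of_mul_eq_one_right (by rw [← pow_val_add (c.f_cube 0), add_neg_cancel]; simp)
  · exact inv_eq_of_mul_eq_one_right (by rw [← pow_val_add (c.f_cube 1), add_neg_cancel]; simp)

theorem r_pow_val (i : ℕ) : c.r ^ i = c.r ^ (i % 3) := pow_eq_pow_mod i c.r_cube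

theorem r_pow_conj (i : ℕ) {x : X} (hx : x ∈ c.J) : c.r ^ i * x * (c.r ^ i)⁻¹ ∈ c.J :=
  (mem_normalizer_iff.1 (pow_mem c.r_mem_normalizer i) x).1 hx

/-- `T = J⟨r⟩`. -/
def T : Subgroup X where
  carrier := {x | ∃ v ∈ c.J, ∃ i : ℕ, x = v * c.r ^ i}
  one_mem' := ⟨1, one_mem _, 0, by simp⟩
  mul_mem' := by
    rintro _ _ ⟨v, hv, i, rfl⟩ ⟨v', hv', i', rfl⟩
    refine ⟨v * (c.r ^ i * v' * (c.r ^ i)⁻¹), mul_mem hv (c.r_pow_conj i hv'), i + i', ?_⟩
    rw [pow_add]; group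
  inv_mem' := by
    rintro _ ⟨v, hv, i, rfl⟩
    have h : (c.r ^ i)⁻¹ = c.r ^ (2 * i) := inv_eq_of_mul_eq_one_right (by
      rw [← pow_add, show i + 2 * i = 3 * i by ring, pow_mul, c.r_cube, one_pow])
    refine ⟨c.r ^ (2 * i) * v⁻¹ * (c.r ^ (2 * i))⁻¹, c.r_pow_conj _ (inv_mem hv), 2 * i, ?_⟩
    rw [mul_inv_rev, h]; group

theorem mem_T {x : X} : x ∈ c.T ↔ ∃ v ∈ c.J, ∃ i : ℕ, x = v * c.r ^ i := Iff.rfl

theorem J_le_T : c.J ≤ c.T := fun x hx => ⟨x, hx, 0, by simp⟩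

theorem r_mem_T : c.r ∈ c.T := ⟨1, one_mem _, 1, by simp⟩

theorem T_le : c.T ≤ normalizer (c.J : Set X) := by
  rintro _ ⟨v, hv, i, rfl⟩
  exact mul_mem (le_normalizer hv) (pow_mem c.r_mem_normalizer i)

theorem r_pow_mem_J {i : ℕ} (h : c.r ^ i ∈ c.J) : i % 3 = 0 := by
  rw [r_pow_val] at h
  by_contra hne
  rcases (show i % 3 = 1 ∨ i % 3 = 2 by omega) with e | e <;> rw [e] at h
  · exact c.r_not_mem (by simpa using h)
  · have h2 : c.r = (c.r ^ 2)⁻¹ := eq_inv_of_mul_eq_one_right (by rw [← pow_succ, c.r_cube])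
    exact c.r_not_mem (h2 ▸ inv_mem h)

theorem card_T [Finite X] : Nat.card c.T = 81 := by
  let m : c.J × Fin 3 → c.T := fun p => ⟨(p.1 : X) * c.r ^ (p.2 : ℕ), p.1, p.1.2, p.2, rfl⟩
  have hm : Function.Bijective m := by
    constructor
    · rintro ⟨v, i⟩ ⟨v', i'⟩ h
      have h' : (v : X) * c.r ^ (i : ℕ) = v' * c.r ^ (i' : ℕ) := congrArg Subtype.val h
      have e1 : c.r ^ ((i : ℕ) + (3 - i')) = (v : X)⁻¹ * v' := by
        rw [pow_add, show c.r ^ (i : ℕ) = (v : X)⁻¹ * v' * c.r ^ (i' : ℕ) by rw [mul_assoc, ← h']; group,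
          mul_assoc, ← pow_add, show (i' : ℕ) + (3 - i') = 3 by omega, c.r_cube, mul_one]
      have := c.r_pow_mem_J (e1 ▸ mul_mem (inv_mem v.2) v'.2)
      obtain rfl : i = i' := Fin.ext (by omega)
      exact Prod.ext (Subtype.ext (mul_right_cancel h')) rfl
    · rintro ⟨x, v, hv, i, rfl⟩
      exact ⟨(⟨v, hv⟩, ⟨i % 3, Nat.mod_lt _ (by norm_num)⟩), Subtype.ext (by
        show v * c.r ^ (i % 3) = v * c.r ^ i
        rw [← r_pow_val])⟩
  rw [← Nat.card_eq_of_bijective m hm, Nat.card_prod, c.card_J, Nat.card_fin]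

theorem T_pgroup [Finite X] : IsPGroup 3 c.T := IsPGroup.of_card (n := 4) (by rw [c.card_T]; norm_num)

/-- The fixed points of `r` in `J`. -/
theorem fix_r {x : X} (hx : x ∈ c.J) (h : x * c.r = c.r * x) :
    ∃ a, x = c.co a a a := by
  obtain ⟨a, b, d, rfl⟩ := c.exists_co hx
  have h' : c.co d a b = c.co a b d := by rw [← c.r_co a b d, ← h, mul_inv_cancel_right]
  obtain ⟨h1, h2, -⟩ := c.co_inj h'
  exact ⟨a, by rw [← h2, h1]⟩

theorem sv_mem : c.sv ∈ c.J := c.co_mem ..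

theorem sv_cube : c.sv ^ 3 = 1 := by
  rw [sv, co_pow, show ((3 : ℕ) : ZMod 3) = 0 from ZMod.natCast_self 3]
  simp [co_zero]

theorem co_diag (a : ZMod 3) : c.co a a a = c.sv ^ a.val := by
  rw [sv, co_pow, ZMod.natCast_val, ZMod.cast_id]
  simp

theorem sv_r : c.sv * c.r = c.r * c.sv := by
  have h := c.r_co 1 1 1
  exact (mul_inv_eq_iff_eq_mul.1 h).symm

theorem sv_ne_pow (i : ℕ) : c.sv ≠ c.r ^ i := fun e => by
  have h := c.r_pow_mem_J (e ▸ c.sv_mem)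
  rw [r_pow_val, h, pow_zero, sv, ← co_zero] at e
  exact absurd (c.co_inj e).1 (by decide)

/-- An abelian subgroup of order 27 of `T` is `J`. -/
theorem conj_T_le [Finite X] {g : X} (hg : ∀ x ∈ c.T, g * x * g⁻¹ ∈ c.T) :
    g ∈ normalizer (c.J : Set X) := by
  set A := c.J.map (MulAut.conj g).toMonoidHom with hA
  have hAc : Nat.card A = 27 := by
    rw [hA, card_map_of_injective (MulAut.conj g).injective, c.card_J]
  have hAT : A ≤ c.T := by
    rintro _ ⟨x, hx, rfl⟩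
    exact hg x (c.J_le_T hx)
  have hle : A ≤ c.J := by
    by_contra hcon
    obtain ⟨u, hu, huJ⟩ := SetLike.not_le_iff_exists.1 hcon
    obtain ⟨v, hv, i, rfl⟩ := hAT hu
    have hi : i % 3 ≠ 0 := fun h0 => huJ (by rw [r_pow_val, h0, pow_zero, mul_one]; exact hv)
    have hfix : A ⊓ c.J ≤ zpowers c.sv := by
      rintro x ⟨hxA, hxJ⟩
      have h1 : Commute x (v * c.r ^ i) := by
        obtain ⟨p, hp, rfl⟩ := hxA
        obtain ⟨q, hq, e⟩ := hu
        rw [← e]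
        exact (show Commute p q from c.J_comm p hp q hq).map (MulAut.conj g).toMonoidHom
      have h2 : Commute x (c.r ^ i) := by
        have := (show Commute x v from c.J_comm x hxJ v hv).inv_right.mul_right h1
        rwa [inv_mul_cancel_left] at this
      have h3 : Commute x c.r := by
        rw [r_pow_val] at h2
        rcases (show i % 3 = 1 ∨ i % 3 = 2 by omega) with e | e <;> rw [e] at h2
        · rwa [pow_one] at h2
        · have := h2.pow_right 2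
          rwa [← pow_mul, show 2 * 2 = 3 + 1 from rfl, pow_add, c.r_cube, one_mul, pow_one] at this
      obtain ⟨a, rfl⟩ := c.fix_r hxJ h3.eq
      rw [co_diag]
      exact pow_mem (mem_zpowers _) _
    have h3 : Nat.card ↥(A ⊓ c.J) ≤ 3 := by
      refine (Subgroup.card_le_of_le hfix).trans (Nat.le_of_dvd (by norm_num) ?_)
      rw [Nat.card_zpowers]
      exact orderOf_dvd_of_pow_eq_one c.sv_cube
    have h81 : Nat.card A * Nat.card c.J ≤ Nat.card c.T * Nat.card ↥(A ⊓ c.J) := by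
      let φ : A × c.J → c.T := fun p => ⟨(p.1 : X) * p.2, mul_mem (hAT p.1.2) (c.J_le_T p.2.2)⟩
      let ψ : A × c.J → c.T × ↥(A ⊓ c.J) := fun p =>
        let t := φ p
        let p₀ := Function.invFun φ t
        ⟨t, ⟨(p₀.1 : X)⁻¹ * p.1, Subgroup.mem_inf.2 ⟨A.mul_mem (A.inv_mem p₀.1.2) p.1.2, by
          have e : (p₀.1 : X) * p₀.2 = p.1 * p.2 := congrArg Subtype.val (Function.invFun_eq (f := φ) ⟨p, rfl⟩)
          have e' : (p₀.1 : X)⁻¹ * p.1 = p₀.2 * (p.2 : X)⁻¹ := by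
            rw [eq_mul_inv_iff_mul_eq, mul_assoc, ← e]; group
          rw [e']
          exact c.J.mul_mem p₀.2.2 (c.J.inv_mem p.2.2)⟩⟩⟩
      have hψ : Function.Injective ψ := by
        intro p q h
        have h1 : φ p = φ q := congrArg Prod.fst h
        have h2 := congrArg (fun y : c.T × ↥(A ⊓ c.J) => (y.2 : X)) h
        simp only [ψ, h1, mul_right_inj] at h2
        have h1' : (p.1 : X) * p.2 = q.1 * q.2 := congrArg Subtype.val h1
        rw [h2] at h1'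
        exact Prod.ext (Subtype.ext h2) (Subtype.ext (mul_left_cancel h1'))
      simpa [Nat.card_prod] using Nat.card_le_card_of_injective ψ hψ
    rw [hAc, c.card_J, c.card_T] at h81
    omega
  have heq : A = c.J := Subgroup.eq_of_le_of_card_ge hle (by rw [hAc, c.card_J])
  rw [mem_normalizer_iff]
  intro x
  refine ⟨fun hx => heq ▸ ⟨x, hx, rfl⟩, fun hx => ?_⟩
  obtain ⟨y, hy, e⟩ := (heq ▸ hx : g * x * g⁻¹ ∈ A)
  exact (MulAut.conj g).injective e ▸ hy

/-- The elements of `N(J)`. -/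
theorem normalizer_cases (hs : c.IsSmall) {g : X} (hg : g ∈ normalizer (c.J : Set X)) :
    ∃ i : ℕ, ∃ b : X, (b = 1 ∨ ∃ k, b = c.a k) ∧ ∃ v ∈ c.J, g = c.r ^ i * b * v := by
  have ha : ∀ k, c.a k ∈ normalizer (c.J : Set X) := by
    intro k
    have h1 : ∀ x ∈ c.J, c.a k * x * (c.a k)⁻¹ ∈ c.J := by
      intro x hx
      obtain ⟨p, q, d, rfl⟩ := c.exists_co hx
      fin_cases k
      · exact c.a_co_zero p q d ▸ c.co_mem ..
      · exact c.a_co_one p q d ▸ c.co_mem ..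
      · exact c.a_co_two p q d ▸ c.co_mem ..
    rw [mem_normalizer_iff]
    refine fun x => ⟨h1 x, fun hx => ?_⟩
    have := h1 _ hx
    rwa [inv_eq_of_mul_eq_one_right (c.a_sq k), show c.a k * (c.a k * x * c.a k) * c.a k =
      c.a k * c.a k * x * (c.a k * c.a k) by group, c.a_sq k, one_mul, mul_one] at this
  have hinv : ∀ k, (c.a k)⁻¹ = c.a k := fun k => inv_eq_of_mul_eq_one_right (c.a_sq k)
  obtain ⟨k, hk⟩ := c.perm g hg
  have hrk : c.r ^ (k : ℕ) * c.f 0 * (c.r ^ (k : ℕ))⁻¹ = c.f k := by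
    fin_cases k
    · simp
    · simpa using c.r_f 0
    · show c.r ^ 2 * c.f 0 * (c.r ^ 2)⁻¹ = c.f 2
      rw [pow_two, show c.r * c.r * c.f 0 * (c.r * c.r)⁻¹ = c.r * (c.r * c.f 0 * c.r⁻¹) * c.r⁻¹ by group,
        c.r_f 0]
      exact c.r_f 1
  set g' := (c.r ^ (k : ℕ))⁻¹ * g with hg'
  have hg'N : g' ∈ normalizer (c.J : Set X) := mul_mem (inv_mem (pow_mem c.r_mem_normalizer _)) hg
  have e : g' * c.f 0 * g'⁻¹ = (c.r ^ (k : ℕ))⁻¹ * (g * c.f 0 * g⁻¹) * c.r ^ (k : ℕ) := by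
    rw [hg']; group
  have key : ∀ h ∈ normalizer (c.J : Set X), h * c.f 0 * h⁻¹ = c.f 0 →
      ∃ b : X, (b = 1 ∨ b = c.a 0) ∧ ∃ v ∈ c.J, h = b * v := by
    intro h hh hf
    rcases hs h hh hf with h1 | h1
    · exact ⟨1, Or.inl rfl, h, h1, by rw [one_mul]⟩
    · refine ⟨c.a 0, Or.inr rfl, c.a 0 * (h * c.a 0) * (c.a 0)⁻¹, (mem_normalizer_iff.1 (ha 0) _).1 h1, ?_⟩
      rw [show c.a 0 * (c.a 0 * (h * c.a 0) * (c.a 0)⁻¹) = c.a 0 * c.a 0 * h by group, c.a_sq 0,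
        one_mul]
  rcases hk with hk | hk
  · rw [hk, ← hrk] at e
    obtain ⟨b, hb, v, hv, hgv⟩ := key g' hg'N (by rw [e]; group)
    refine ⟨k, b, hb.imp id (fun h => ⟨0, h⟩), v, hv, ?_⟩
    rw [mul_assoc, ← hgv, hg', mul_inv_cancel_left]
  · rw [hk, ← hrk] at e
    have e1 : g' * c.f 0 * g'⁻¹ = (c.f 0)⁻¹ := by rw [e]; group
    have h2 : c.a 1 * g' * c.f 0 * (c.a 1 * g')⁻¹ = c.f 0 := by
      rw [show c.a 1 * g' * c.f 0 * (c.a 1 * g')⁻¹ = (c.a 1 * (g' * c.f 0 * g'⁻¹)⁻¹ * (c.a 1)⁻¹)⁻¹ by group,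
        e1, inv_inv, c.a_inv 1 0 (by decide), inv_inv]
    obtain ⟨b, hb, v, hv, hgv⟩ := key (c.a 1 * g') (mul_mem (ha 1) hg'N) h2
    refine ⟨k, c.a 1 * b, Or.inr ?_, v, hv, ?_⟩
    · rcases hb with rfl | rfl
      · exact ⟨1, mul_one _⟩
      · exact ⟨2, by
          have := c.a_mul
          rw [c.a_comm] at this
          exact this⟩
    · rw [mul_assoc, mul_assoc, ← hgv, ← mul_assoc (c.a 1), c.a_sq 1, one_mul, hg',
        mul_inv_cancel_left]

theorem r_pow_sv (i : ℕ) : c.r ^ i * c.sv * (c.r ^ i)⁻¹ = c.sv := by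
  rw [mul_inv_eq_iff_eq_mul]
  exact ((show Commute c.sv c.r from c.sv_r).pow_right i).eq.symm

/-- An element of `N(J)` centralising `s` lies in `T`, and none inverts it. -/
theorem normalizer_sv (hs : c.IsSmall) {g : X} (hg : g ∈ normalizer (c.J : Set X)) :
    (g * c.sv * g⁻¹ = c.sv → g ∈ c.T) ∧ g * c.sv * g⁻¹ ≠ c.sv⁻¹ := by
  obtain ⟨i, b, hb, v, hv, rfl⟩ := c.normalizer_cases hs hg
  have e : c.r ^ i * b * v * c.sv * (c.r ^ i * b * v)⁻¹ =
      c.r ^ i * (b * c.sv * b⁻¹) * (c.r ^ i)⁻¹ := by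
    have hvs : v * c.sv * v⁻¹ = c.sv := by rw [c.J_comm v hv _ c.sv_mem, mul_inv_cancel_right]
    conv_rhs => rw [← hvs]
    group
  rw [e]
  rcases hb with rfl | ⟨k, rfl⟩
  · rw [inv_one, one_mul, mul_one, r_pow_sv, mul_one]
    refine ⟨fun _ => ⟨c.r ^ i * v * (c.r ^ i)⁻¹, c.r_pow_conj i hv, i, by group⟩, ?_⟩
    rw [sv, co_inv]
    exact fun h => absurd (c.co_inj h).1 (by decide)
  · constructor
    · intro h
      have h' : c.a k * c.sv * (c.a k)⁻¹ = c.sv :=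
        mul_left_cancel (mul_right_cancel (h.trans (c.r_pow_sv i).symm))
      exfalso
      rw [sv] at h'
      fin_cases k
      · exact absurd (c.co_inj ((c.a_co_zero 1 1 1).symm.trans h')).2.1 (by decide)
      · exact absurd (c.co_inj ((c.a_co_one 1 1 1).symm.trans h')).1 (by decide)
      · exact absurd (c.co_inj ((c.a_co_two 1 1 1).symm.trans h')).1 (by decide)
    · intro h
      have h' : c.a k * c.sv * (c.a k)⁻¹ = c.sv⁻¹ := by
        have h3 : c.r ^ i * c.sv⁻¹ * (c.r ^ i)⁻¹ = c.sv⁻¹ := by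
          rw [← conj_inv, r_pow_sv]
        rw [← h3] at h
        exact mul_left_cancel (mul_right_cancel h)
      rw [sv, co_inv] at h'
      fin_cases k
      · exact absurd (c.co_inj ((c.a_co_zero 1 1 1).symm.trans h')).1 (by decide)
      · exact absurd (c.co_inj ((c.a_co_one 1 1 1).symm.trans h')).2.1 (by decide)
      · exact absurd (c.co_inj ((c.a_co_two 1 1 1).symm.trans h')).2.2 (by decide)

/-- `C(s) = T`. -/
theorem mem_T_of_commute (hs : c.IsSmall) {g : X} (h : g * c.sv = c.sv * g) : g ∈ c.T := by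
  have hN : g ∈ normalizer (c.J : Set X) := by
    refine c.centS (mem_centralizer_singleton_iff.2 ?_)
    rwa [show c.f 0 * c.f 1 * c.f 2 = c.sv by simp [sv, co, ZMod.val_one]]
  exact (c.normalizer_sv hs hN).1 (by rw [h, mul_inv_cancel_right])

theorem sv_comm_T {x : X} (hx : x ∈ c.T) : Commute x c.sv := by
  obtain ⟨v, hv, i, rfl⟩ := hx
  exact (show Commute v c.sv from c.J_comm v hv _ c.sv_mem).mul_left
    ((show Commute c.sv c.r from c.sv_r).pow_right i).symm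

/-- The element `s` is not inverted. -/
theorem sv_not_real [Finite X] (hs : c.IsSmall) (g : X) : g * c.sv * g⁻¹ ≠ c.sv⁻¹ := by
  intro h
  refine (c.normalizer_sv hs (c.conj_T_le fun x hx => ?_)).2 h
  refine c.mem_T_of_commute hs ?_
  have hx' := ((c.sv_comm_T hx).inv_right).map (MulAut.conj g).toMonoidHom
  simp only [MulEquiv.coe_toMonoidHom, MulAut.conj_apply, conj_inv.symm] at hx'
  rw [h, inv_inv] at hx'
  exact hx'.eq

/-- `⟨r, s⟩`. -/
def P : Subgroup X where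
  carrier := {x | ∃ a b : ℕ, x = c.sv ^ a * c.r ^ b}
  one_mem' := ⟨0, 0, by simp⟩
  mul_mem' := by
    rintro _ _ ⟨a, b, rfl⟩ ⟨a', b', rfl⟩
    refine ⟨a + a', b + b', ?_⟩
    rw [pow_add, pow_add]
    exact (((show Commute c.sv c.r from c.sv_r).pow_pow a' b).symm).mul_mul_mul_comm _ _
  inv_mem' := by
    rintro _ ⟨a, b, rfl⟩
    refine ⟨2 * a, 2 * b, inv_eq_of_mul_eq_one_right ?_⟩
    rw [((((show Commute c.sv c.r from c.sv_r).pow_pow (2 * a) b).symm)).mul_mul_mul_comm,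
      ← pow_add, ← pow_add, show a + 2 * a = 3 * a by ring, show b + 2 * b = 3 * b by ring, pow_mul,
      pow_mul, c.r_cube, c.sv_cube, one_pow, one_pow, one_mul]

theorem P_le_T : c.P ≤ c.T := by
  rintro _ ⟨a, b, rfl⟩
  exact ⟨_, pow_mem c.sv_mem a, b, rfl⟩

theorem card_P [Finite X] : Nat.card c.P = 9 := by
  let m : Fin 3 × Fin 3 → c.P := fun p =>
    ⟨c.sv ^ (p.1 : ℕ) * c.r ^ (p.2 : ℕ), p.1, p.2, rfl⟩
  have hm : Function.Bijective m := by
    constructor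
    · rintro ⟨a, b⟩ ⟨a', b'⟩ h
      have h' : c.sv ^ (a : ℕ) * c.r ^ (b : ℕ) = c.sv ^ (a' : ℕ) * c.r ^ (b' : ℕ) :=
        congrArg Subtype.val h
      have e1 : c.r ^ ((b : ℕ) + (3 - b')) = (c.sv ^ (a : ℕ))⁻¹ * c.sv ^ (a' : ℕ) := by
        rw [pow_add, show c.r ^ (b : ℕ) = (c.sv ^ (a : ℕ))⁻¹ * c.sv ^ (a' : ℕ) * c.r ^ (b' : ℕ) by
          rw [mul_assoc, ← h']; group, mul_assoc, ← pow_add, show (b' : ℕ) + (3 - b') = 3 by omega,
          c.r_cube, mul_one]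
      have := c.r_pow_mem_J (e1 ▸ mul_mem (inv_mem (pow_mem c.sv_mem _)) (pow_mem c.sv_mem _))
      obtain rfl : b = b' := Fin.ext (by omega)
      have hp := mul_right_cancel h'
      rw [sv, co_pow, co_pow] at hp
      have := (c.co_inj hp).1
      fin_cases a <;> fin_cases a' <;> first | rfl | exact absurd this (by decide)
    · rintro ⟨x, a, b, rfl⟩
      exact ⟨(⟨a % 3, Nat.mod_lt _ (by norm_num)⟩, ⟨b % 3, Nat.mod_lt _ (by norm_num)⟩),
        Subtype.ext (by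
          show c.sv ^ (a % 3) * c.r ^ (b % 3) = c.sv ^ a * c.r ^ b
          rw [← pow_eq_pow_mod a c.sv_cube, ← r_pow_val])⟩
  rw [← Nat.card_eq_of_bijective m hm, Nat.card_prod, Nat.card_fin]

/-- An element `c = f₀ f₁⁻¹` of `J` moves `r` to `s r`. -/
theorem shift (n : ℕ) : c.co 1 2 0 ^ n * c.r * (c.co 1 2 0 ^ n)⁻¹ = c.sv ^ n * c.r := by
  have h1 : c.co 1 2 0 ^ n * (c.r * (c.co 1 2 0 ^ n)⁻¹ * c.r⁻¹) = c.sv ^ n := by
    rw [co_pow, co_inv, r_co, co_mul, sv, co_pow]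
    generalize (n : ZMod 3) = m
    congr 1 <;> (revert m; decide)
  calc _ = c.co 1 2 0 ^ n * (c.r * (c.co 1 2 0 ^ n)⁻¹ * c.r⁻¹) * c.r := by group
    _ = _ := by rw [h1]

variable [Finite X]

theorem no_move (hs : c.IsSmall) (g : X) (hr : g * c.r = c.r * g) : g * c.sv * g⁻¹ ≠ c.sv * c.r := by
  intro h
  set d := c.co 1 2 0 with hd
  have hd1 : d⁻¹ * c.r * d = c.sv⁻¹ * c.r := by
    have h1 : d * c.r * d⁻¹ = c.sv * c.r := by simpa using c.shift 1
    have hds : Commute d c.sv := c.J_comm _ (c.co_mem ..) _ c.sv_mem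
    calc d⁻¹ * c.r * d = d⁻¹ * (c.sv⁻¹ * (c.sv * c.r)) * d := by group
      _ = c.sv⁻¹ * (d⁻¹ * (d * c.r * d⁻¹) * d) := by
        rw [h1, show d⁻¹ * (c.sv⁻¹ * (c.sv * c.r)) = c.sv⁻¹ * (d⁻¹ * (c.sv * c.r)) by
          rw [← mul_assoc, (hds.inv_inv).eq, mul_assoc]]
        group
      _ = c.sv⁻¹ * c.r := by group
  have hds' : d⁻¹ * c.sv * d = c.sv := by
    rw [c.J_comm _ (inv_mem (c.co_mem ..)) _ c.sv_mem, inv_mul_cancel_right]
  set v := g * d⁻¹ * g with hv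
  have hgr : g * c.r * g⁻¹ = c.r := by rw [hr, mul_inv_cancel_right]
  have vs : v * c.sv * v⁻¹ = c.r := by
    rw [hv, show g * d⁻¹ * g * c.sv * (g * d⁻¹ * g)⁻¹ = g * (d⁻¹ * (g * c.sv * g⁻¹) * d) * g⁻¹ by group,
      h, show d⁻¹ * (c.sv * c.r) * d = (d⁻¹ * c.sv * d) * (d⁻¹ * c.r * d) by group, hds', hd1,
      mul_inv_cancel_left, hgr]
  have vr : v * c.r * v⁻¹ = c.sv⁻¹ := by
    rw [hv, show g * d⁻¹ * g * c.r * (g * d⁻¹ * g)⁻¹ = g * (d⁻¹ * (g * c.r * g⁻¹) * d) * g⁻¹ by group,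
      hgr, hd1, show g * (c.sv⁻¹ * c.r) * g⁻¹ = (g * c.sv * g⁻¹)⁻¹ * (g * c.r * g⁻¹) by group,
      h, hgr, mul_inv_rev, show c.r⁻¹ * c.sv⁻¹ = c.sv⁻¹ * c.r⁻¹ by
        rw [← mul_inv_rev, ← mul_inv_rev, c.sv_r], inv_mul_cancel_right]
  refine c.sv_not_real hs (v * v) ?_
  rw [show v * v * c.sv * (v * v)⁻¹ = v * (v * c.sv * v⁻¹) * v⁻¹ by group, vs, vr]

theorem no_move' (hs : c.IsSmall) (g : X) (hr : g * c.r = c.r * g) (i : ℕ) (hi : i % 3 ≠ 0) :
    g * c.sv * g⁻¹ ≠ c.sv * c.r ^ i := by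
  intro h
  rw [r_pow_val] at h
  rcases (show i % 3 = 1 ∨ i % 3 = 2 by omega) with e | e <;> rw [e] at h
  · exact c.no_move hs g hr (by rwa [pow_one] at h)
  · refine c.no_move hs g⁻¹ (show Commute g⁻¹ c.r from (show Commute g c.r from hr).inv_left).eq ?_
    have h2 : c.r ^ 2 = c.r⁻¹ := eq_inv_of_mul_eq_one_left (by rw [← pow_succ, c.r_cube])
    have e1 : g⁻¹ * c.r * g = c.r := by rw [mul_assoc, ← hr, inv_mul_cancel_left]
    have e2 : c.sv = g⁻¹ * (c.sv * c.r ^ 2) * g := by rw [← h]; group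
    conv_rhs => rw [e2, h2]
    rw [show g⁻¹ * (c.sv * c.r⁻¹) * g * c.r = g⁻¹ * c.sv * g * ((g⁻¹ * c.r * g)⁻¹ * c.r) by group,
      e1, inv_mul_cancel, mul_one, inv_inv]

/-- The Sylow subgroup of `C(r)` is `⟨r, s⟩`. -/
theorem mem_P_of_pow (hs : c.IsSmall) {g : X} {m : ℕ} (h3 : g ^ 3 ^ m = 1)
    (hr : g * c.r = c.r * g) (hn : g * c.sv * g⁻¹ ∈ c.P) : g ∈ c.P := by
  obtain ⟨a, b, e⟩ := hn
  rw [pow_eq_pow_mod a c.sv_cube, r_pow_val] at e
  have hgr : g * c.r * g⁻¹ = c.r := by rw [hr, mul_inv_cancel_right]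
  have hT : g ∈ c.T → g ∈ c.P := by
    rintro ⟨v, hv, i, rfl⟩
    have h1 : Commute v c.r := by
      have := (show Commute (v * c.r ^ i) c.r from hr).mul_left (Commute.pow_left rfl i).inv_left
      rwa [mul_inv_cancel_right] at this
    obtain ⟨x, rfl⟩ := c.fix_r hv h1.eq
    exact ⟨x.val, i, by rw [co_diag]⟩
  have h2 : b % 3 = 0 ∨ b % 3 = 1 ∨ b % 3 = 2 := by omega
  rcases (show a % 3 = 0 ∨ a % 3 = 1 ∨ a % 3 = 2 by omega) with ha | ha | ha <;> rw [ha] at e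
  · rw [pow_zero, one_mul] at e
    have : c.sv = c.r ^ (b % 3) := by
      have e' : g * c.r ^ (b % 3) * g⁻¹ = c.r ^ (b % 3) := by rw [← conj_pow, hgr]
      rw [← e'] at e
      exact mul_left_cancel (mul_right_cancel e)
    exact absurd this (c.sv_ne_pow _)
  · rw [pow_one] at e
    by_cases hb : b % 3 = 0
    · rw [hb, pow_zero, mul_one] at e
      exact hT (c.mem_T_of_commute hs (mul_inv_eq_iff_eq_mul.1 e))
    · exact absurd e (c.no_move' hs g hr _ (by omega))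
  · -- `g ^ 2` centralises `s`
    have hsq : c.sv ^ 2 = c.sv⁻¹ := eq_inv_of_mul_eq_one_left (by rw [← pow_succ, c.sv_cube])
    rw [hsq] at e
    have e2 : g * g * c.sv * (g * g)⁻¹ = c.sv := by
      rw [show g * g * c.sv * (g * g)⁻¹ = g * (g * c.sv * g⁻¹) * g⁻¹ by group, e,
        show g * (c.sv⁻¹ * c.r ^ (b % 3)) * g⁻¹ = (g * c.sv * g⁻¹)⁻¹ * (g * c.r ^ (b % 3) * g⁻¹) by group,
        e, ← conj_pow, hgr, mul_inv_rev, inv_inv, mul_assoc,
        ((show Commute c.sv c.r from c.sv_r).pow_right _).eq, inv_mul_cancel_left]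
    have h4 := c.mem_T_of_commute hs (mul_inv_eq_iff_eq_mul.1 e2)
    obtain ⟨n, hn⟩ : Odd (3 ^ m) := Odd.pow (by decide)
    refine hT ?_
    rw [hn, pow_succ, pow_mul, pow_two] at h3
    rw [show g = ((g * g) ^ n)⁻¹ from eq_inv_of_mul_eq_one_right h3]
    exact inv_mem (pow_mem h4 _)

theorem sylow_centralizer (hs : c.IsSmall) {Q : Subgroup X} (hQ : IsPGroup 3 Q) (hPQ : c.P ≤ Q)
    (hQr : ∀ x ∈ Q, x * c.r = c.r * x) : Q = c.P := by
  have : Fact (Nat.Prime 3) := ⟨Nat.prime_three⟩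
  by_contra hne
  have := hQ.isNilpotent
  have hlt : c.P.subgroupOf Q < ⊤ := lt_top_iff_ne_top.2 fun h =>
    hne (le_antisymm (fun x hx => (h ▸ mem_top (⟨x, hx⟩ : Q) : (⟨x, hx⟩ : Q) ∈ c.P.subgroupOf Q)) hPQ)
  obtain ⟨x, hxn, hx⟩ := SetLike.exists_of_lt (Group.normalizerCondition_of_isNilpotent _ hlt)
  obtain ⟨m, hm⟩ := hQ x
  refine hx (c.mem_P_of_pow hs (m := m) ?_ (hQr x x.2) ?_)
  · have := congrArg Subtype.val hm
    simpa using this
  · have hsP : c.sv ∈ c.P := ⟨1, 0, by simp⟩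
    exact (mem_normalizer_iff.1 hxn ⟨c.sv, hPQ hsP⟩).1 hsP

theorem not_dvd_centralizer (hs : c.IsSmall) :
    ¬ 27 ∣ Nat.card (centralizer ({c.r} : Set X)) := by
  have : Fact (Nat.Prime 3) := ⟨Nat.prime_three⟩
  intro h27
  set C := centralizer ({c.r} : Set X) with hC
  have hPC : c.P ≤ C := by
    rintro _ ⟨a, b, rfl⟩
    exact mem_centralizer_singleton_iff.2
      (((show Commute c.sv c.r from c.sv_r).pow_left a).mul_left (Commute.pow_left rfl b)).eq
  have hp : IsPGroup 3 (c.P.subgroupOf C) :=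
    ((c.T_pgroup.to_le c.P_le_T) : IsPGroup 3 c.P).of_equiv (subgroupOfEquivOfLe hPC).symm
  obtain ⟨S, hS⟩ := hp.exists_le_sylow
  have h := c.sylow_centralizer hs (S.2.map C.subtype) (fun x hx => ⟨⟨x, hPC hx⟩, hS hx, rfl⟩)
    (by rintro _ ⟨x, -, rfl⟩; exact mem_centralizer_singleton_iff.1 x.2)
  have h1 : Nat.card (S : Subgroup C) = 9 := by
    rw [← card_map_of_injective C.subtype_injective, h, c.card_P]
  have := S.pow_dvd_card_of_pow_dvd_card (n := 3) h27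
  rw [h1] at this
  omega

theorem r_not_fused_J (hs : c.IsSmall) (g : X) : g * c.r * g⁻¹ ∉ c.J := by
  intro h
  refine c.not_dvd_centralizer hs ?_
  have hle : c.J.map (MulAut.conj g⁻¹).toMonoidHom ≤ centralizer ({c.r} : Set X) := by
    rintro _ ⟨x, hx, rfl⟩
    rw [mem_centralizer_singleton_iff]
    have hc : Commute x (g * c.r * g⁻¹) := c.J_comm x hx _ h
    have h' := hc.map (MulAut.conj g⁻¹).toMonoidHom
    have e : MulAut.conj g⁻¹ (g * c.r * g⁻¹) = c.r := by simp [mul_assoc]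
    simp only [MulEquiv.coe_toMonoidHom] at h' ⊢
    rw [e] at h'
    exact h'.eq
  have := card_dvd_of_le hle
  rwa [card_map_of_injective (MulAut.conj g⁻¹).injective, c.card_J] at this

theorem r_not_real (hs : c.IsSmall) (g : X) : g * c.r * g⁻¹ ≠ c.r⁻¹ := by
  have : Fact (Nat.Prime 3) := ⟨Nat.prime_three⟩
  intro h
  set C := centralizer ({c.r} : Set X) with hC
  have hPC : c.P ≤ C := by
    rintro _ ⟨a, b, rfl⟩
    exact mem_centralizer_singleton_iff.2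
      (((show Commute c.sv c.r from c.sv_r).pow_left a).mul_left (Commute.pow_left rfl b)).eq
  set P' := c.P.map (MulAut.conj g).toMonoidHom with hP'
  have hP'C : P' ≤ C := by
    rintro _ ⟨x, hx, rfl⟩
    rw [mem_centralizer_singleton_iff]
    have hc : Commute x c.r := mem_centralizer_singleton_iff.1 (hPC hx)
    have h' := (hc.map (MulAut.conj g).toMonoidHom).inv_right
    simp only [MulEquiv.coe_toMonoidHom, MulAut.conj_apply] at h' ⊢
    rw [h, inv_inv] at h'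
    exact h'.eq
  have hp : IsPGroup 3 c.P := c.T_pgroup.to_le c.P_le_T
  obtain ⟨S, hS⟩ := ((hp.map _ : IsPGroup 3 P').of_equiv (subgroupOfEquivOfLe hP'C).symm).exists_le_sylow
  obtain ⟨S', hS'⟩ := (hp.of_equiv (subgroupOfEquivOfLe hPC).symm).exists_le_sylow
  have hS'P : (S' : Subgroup C).map C.subtype = c.P :=
    c.sylow_centralizer hs (S'.2.map C.subtype) (fun x hx => ⟨⟨x, hPC hx⟩, hS' hx, rfl⟩)
      (by rintro _ ⟨x, -, rfl⟩; exact mem_centralizer_singleton_iff.1 x.2)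
  obtain ⟨d, hd⟩ := MulAction.exists_smul_eq C S S'
  set h' := (d : X) * g with hh'
  have hn : h' * c.sv * h'⁻¹ ∈ c.P := by
    rw [← hS'P, ← hd]
    have hmem : g * c.sv * g⁻¹ ∈ P' := ⟨c.sv, ⟨1, 0, by simp⟩, rfl⟩
    exact ⟨d * ⟨g * c.sv * g⁻¹, hP'C hmem⟩ * d⁻¹, ⟨⟨g * c.sv * g⁻¹, hP'C hmem⟩, hS hmem, rfl⟩,
      by simp [hh', mul_assoc]⟩
  have hr' : h' * c.r * h'⁻¹ = c.r⁻¹ := by
    rw [hh', show (d : X) * g * c.r * ((d : X) * g)⁻¹ = (d : X) * (g * c.r * g⁻¹) * (d : X)⁻¹ by group, h,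
      ← conj_inv, mul_inv_eq_iff_eq_mul.2 (mem_centralizer_singleton_iff.1 d.2)]
  obtain ⟨a, b, e⟩ := hn
  rw [r_pow_val] at e
  rcases (show b % 3 = 0 ∨ b % 3 = 1 ∨ b % 3 = 2 by omega) with hb | hb | hb <;> rw [hb] at e
  · rw [pow_zero, mul_one, pow_eq_pow_mod a c.sv_cube] at e
    rcases (show a % 3 = 0 ∨ a % 3 = 1 ∨ a % 3 = 2 by omega) with ha | ha | ha <;> rw [ha] at e
    · rw [pow_zero, conj_eq_one_iff] at e
      exact c.sv_ne_pow 0 (by rw [pow_zero, e])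
    · rw [pow_one] at e
      obtain ⟨v, hv, i, hi⟩ := c.mem_T_of_commute hs (mul_inv_eq_iff_eq_mul.1 e)
      -- conjugation inside `T` preserves the coset of `r`
      have e1 : (c.r⁻¹ * c.r⁻¹ : X) ∈ c.J := by
        have hv' : c.r * v⁻¹ * c.r⁻¹ ∈ c.J := (mem_normalizer_iff.1 c.r_mem_normalizer _).1 (inv_mem hv)
        have : c.r⁻¹ * c.r⁻¹ = v * (c.r * v⁻¹ * c.r⁻¹) := by
          nth_rewrite 1 [← hr']
          rw [hi]
          rw [show v * c.r ^ i * c.r * (v * c.r ^ i)⁻¹ = v * (c.r ^ i * c.r * (c.r ^ i)⁻¹) * v⁻¹ by group,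
            (Commute.pow_left (show Commute c.r c.r from rfl) i).eq, mul_inv_cancel_right]
          group
        rw [this]
        exact mul_mem hv hv'
      have h2 := inv_mem e1
      rw [mul_inv_rev, inv_inv, ← pow_two] at h2
      exact absurd (c.r_pow_mem_J h2) (by norm_num)
    · exact c.sv_not_real hs h' (e.trans (eq_inv_of_mul_eq_one_left (by rw [← pow_succ, c.sv_cube])))
  · refine c.r_not_fused_J hs (h'⁻¹ * c.co 1 2 0 ^ a) ?_
    have e2 : h'⁻¹ * c.co 1 2 0 ^ a * c.r * (h'⁻¹ * c.co 1 2 0 ^ a)⁻¹ =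
        h'⁻¹ * (c.co 1 2 0 ^ a * c.r * (c.co 1 2 0 ^ a)⁻¹) * h' := by group
    rw [e2, c.shift, ← show _ = c.sv ^ a * c.r from e.trans (by rw [pow_one]),
      show h'⁻¹ * (h' * c.sv * h'⁻¹) * h' = c.sv by group]
    exact c.sv_mem
  · -- `s ^ a r⁻¹` is conjugate to `r⁻¹`
    refine c.r_not_fused_J hs (h'⁻¹ * c.co 1 2 0 ^ (2 * a)) ?_
    have e2 : h'⁻¹ * c.co 1 2 0 ^ (2 * a) * c.r * (h'⁻¹ * c.co 1 2 0 ^ (2 * a))⁻¹ =
        h'⁻¹ * (c.co 1 2 0 ^ (2 * a) * c.r * (c.co 1 2 0 ^ (2 * a))⁻¹) * h' := by group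
    have e3 : c.sv ^ (2 * a) * c.r = (c.sv ^ a * c.r ^ 2)⁻¹ := by
      refine eq_inv_of_mul_eq_one_left ?_
      rw [(((show Commute c.sv c.r from c.sv_r).pow_left a).symm).mul_mul_mul_comm, ← pow_add,
        show 2 * a + a = 3 * a by ring, pow_mul, c.sv_cube, one_pow, one_mul, ← pow_succ', c.r_cube]
    rw [e2, c.shift, e3, ← e, show h'⁻¹ * (h' * c.sv * h'⁻¹)⁻¹ * h' = c.sv⁻¹ by group]
    exact inv_mem c.sv_mem

/-- A conjugate of `r` in `T` lies in `J r`. -/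
theorem conj_r_coset (hs : c.IsSmall) (g : X) (hg : g * c.r * g⁻¹ ∈ c.T) :
    g * c.r * g⁻¹ * c.r⁻¹ ∈ c.J := by
  obtain ⟨v, hv, i, e⟩ := hg
  rw [r_pow_val] at e
  rcases (show i % 3 = 0 ∨ i % 3 = 1 ∨ i % 3 = 2 by omega) with hi | hi | hi <;> rw [hi] at e
  · exact absurd (by rw [e, pow_zero, mul_one]; exact hv) (c.r_not_fused_J hs g)
  · rw [e, pow_one, mul_inv_cancel_right]
    exact hv
  · exfalso
    have h2 : c.r ^ 2 = c.r⁻¹ := eq_inv_of_mul_eq_one_left (by rw [← pow_succ, c.r_cube])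
    rw [h2] at e
    have h3 : (v * c.r⁻¹) ^ 3 = 1 := by rw [← e, conj_pow, c.r_cube]; group
    obtain ⟨p, q, d, rfl⟩ := c.exists_co hv
    have hr1 : ∀ x y z, c.r⁻¹ * c.co x y z * c.r = c.co y z x := fun x y z => by
      rw [← c.r_co y z x]; group
    have hsum : c.co (p + q + d) (p + q + d) (p + q + d) = 1 := by
      rw [← h3]
      have e3 : (c.co p q d * c.r⁻¹) ^ 3 = c.co p q d * (c.r⁻¹ * c.co p q d * c.r) *
          (c.r⁻¹ * (c.r⁻¹ * c.co p q d * c.r) * c.r) * (c.r ^ 3)⁻¹ := by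
        rw [show (3 : ℕ) = 1 + 1 + 1 from rfl, pow_add, pow_add, pow_one, pow_add, pow_add, pow_one]
        group
      rw [e3, hr1, hr1, co_mul, co_mul, c.r_cube, inv_one, mul_one]
      congr 1 <;> ring
    rw [← co_zero] at hsum
    have hz : p + q + d = 0 := (c.co_inj hsum).1
    refine c.r_not_real hs ((c.co 0 (-p) d)⁻¹ * g) ?_
    rw [show (c.co 0 (-p) d)⁻¹ * g * c.r * ((c.co 0 (-p) d)⁻¹ * g)⁻¹ =
      (c.co 0 (-p) d)⁻¹ * (g * c.r * g⁻¹) * c.co 0 (-p) d by group, e,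
      show (c.co 0 (-p) d)⁻¹ * (c.co p q d * c.r⁻¹) * c.co 0 (-p) d =
        (c.co 0 (-p) d)⁻¹ * c.co p q d * (c.r⁻¹ * c.co 0 (-p) d * c.r) * c.r⁻¹ by group,
      hr1, co_inv, co_mul, co_mul]
    have : ∀ p q d : ZMod 3, p + q + d = 0 →
        -0 + p + -p = 0 ∧ - -p + q + d = 0 ∧ -d + d + 0 = 0 := by decide
    obtain ⟨a1, a2, a3⟩ := this p q d hz
    rw [a1, a2, a3, co_zero, one_mul]

theorem not_dvd_index_T (hs : c.IsSmall) : ¬ 3 ∣ c.T.index := by
  have : Fact (Nat.Prime 3) := ⟨Nat.prime_three⟩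
  obtain ⟨S, hS⟩ := c.T_pgroup.exists_le_sylow
  intro hdvd
  have h243 : 3 ^ 5 ∣ Nat.card X := by
    rw [← c.T.card_mul_index, c.card_T]
    exact mul_dvd_mul_left 81 hdvd
  have hS5 := S.pow_dvd_card_of_pow_dvd_card (n := 5) h243
  have hne : c.T.subgroupOf (S : Subgroup X) < ⊤ := lt_top_iff_ne_top.2 fun h => by
    have h1 := Nat.card_congr (subgroupOfEquivOfLe hS).toEquiv
    rw [h, Subgroup.card_top, c.card_T] at h1
    rw [h1] at hS5
    omega
  have := S.2.isNilpotent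
  obtain ⟨x, hxn, hx⟩ := SetLike.exists_of_lt (Group.normalizerCondition_of_isNilpotent _ hne)
  have hN : (x : X) ∈ normalizer (c.J : Set X) := c.conj_T_le fun y hy =>
    (mem_normalizer_iff.1 hxn ⟨y, hS hy⟩).1 hy
  obtain ⟨i, b, hb, v, hv, e⟩ := c.normalizer_cases hs hN
  refine hx (show (x : X) ∈ c.T from ?_)
  have hbS : b ∈ (S : Subgroup X) := by
    rw [show b = (c.r ^ i)⁻¹ * x * v⁻¹ by rw [e]; group]
    exact mul_mem (mul_mem (inv_mem (hS (pow_mem c.r_mem_T i))) x.2) (inv_mem (hS (c.J_le_T hv)))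
  rcases hb with rfl | ⟨k, rfl⟩
  · rw [e, mul_one]
    exact mul_mem (pow_mem c.r_mem_T i) (c.J_le_T hv)
  · exfalso
    obtain ⟨m, hm⟩ := S.2 ⟨c.a k, hbS⟩
    have hm' : c.a k ^ 3 ^ m = 1 := by simpa using congrArg Subtype.val hm
    obtain ⟨n, hn⟩ : Odd (3 ^ m) := Odd.pow (by decide)
    rw [hn, pow_succ, pow_mul, pow_two, c.a_sq, one_pow, one_mul] at hm'
    exact c.a_ne k hm'

/-- The small configuration has a normal subgroup of index three containing `J` and the four-group. -/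
theorem exists_index_three (hs : c.IsSmall) : ∃ K : Subgroup X, K.Normal ∧ K.index = 3 ∧
    (∀ k, c.f k ∈ K ∧ c.a k ∈ K) ∧ c.r ∉ K := by
  classical
  have : Fact (Nat.Prime 3) := ⟨Nat.prime_three⟩
  let J' := c.J.subgroupOf c.T
  haveI : J'.Normal := (normal_subgroupOf_iff_le_normalizer c.J_le_T).2 c.T_le
  have hidx : J'.index = 3 := by
    have h := J'.card_mul_index
    rw [Nat.card_congr (subgroupOfEquivOfLe c.J_le_T).toEquiv, c.card_J, c.card_T] at h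
    omega
  have hq : Nat.card (c.T ⧸ J') = 3 := hidx
  let e : c.T ⧸ J' ≃* Multiplicative (ZMod 3) := mulEquivOfPrimeCardEq hq (by simp)
  let φ : c.T →* Multiplicative (ZMod 3) := e.toMonoidHom.comp (QuotientGroup.mk' J')
  have hφ : ∀ x : c.T, φ x = 1 ↔ (x : X) ∈ c.J := fun x => by
    simp [φ, J', QuotientGroup.eq_one_iff, mem_subgroupOf]
  haveI : c.T.FiniteIndex := ⟨c.T.index_ne_zero_of_finite⟩
  set V := MonoidHom.transfer φ with hV
  have hcube : ∀ y : Multiplicative (ZMod 3), y ^ 3 = 1 := fun y => by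
    have h := pow_card_eq_one' (x := y)
    simpa using h
  have key : ∀ (k : ℕ) (g : X) (h : g⁻¹ * c.r ^ k * g ∈ c.T),
      φ ⟨g⁻¹ * c.r ^ k * g, h⟩ = φ ⟨c.r, c.r_mem_T⟩ ^ k := by
    intro k g h
    by_cases hk : k % 3 = 0
    · have e1 : c.r ^ k = 1 := by rw [r_pow_val, hk, pow_zero]
      rw [pow_eq_pow_mod k (hcube _), hk, pow_zero, hφ]
      simp [e1]
    obtain ⟨j, hj⟩ : ∃ j, (k * j) % 3 = 1 := ⟨k, by
      rcases (show k % 3 = 1 ∨ k % 3 = 2 by omega) with h' | h' <;> simp [Nat.mul_mod, h']⟩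
    have h1 : g⁻¹ * c.r * g ∈ c.T := by
      have := pow_mem h j
      rwa [show g⁻¹ * c.r ^ k * g = g⁻¹ * c.r ^ k * g⁻¹⁻¹ by rw [inv_inv], conj_pow, inv_inv,
        ← pow_mul, r_pow_val, hj, pow_one] at this
    have h2 : φ ⟨g⁻¹ * c.r * g, h1⟩ = φ ⟨c.r, c.r_mem_T⟩ := by
      rw [← mul_inv_eq_one, ← map_inv, ← map_mul, hφ]
      have := c.conj_r_coset hs g⁻¹ (by rwa [inv_inv])
      rwa [inv_inv] at this
    rw [← h2, ← map_pow]
    refine congrArg φ (Subtype.ext ?_)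
    show g⁻¹ * c.r ^ k * g = (g⁻¹ * c.r * g) ^ k
    conv_rhs => rw [show g⁻¹ * c.r * g = g⁻¹ * c.r * g⁻¹⁻¹ by rw [inv_inv], conj_pow, inv_inv]
  have hVr : V c.r = φ ⟨c.r, c.r_mem_T⟩ ^ c.T.index := by
    let := c.T.fintypeQuotientOfFiniteIndex
    rw [hV, MonoidHom.transfer_eq_prod_quotient_orbitRel_zpowers_quot, index_eq_sum_minimalPeriod c.T c.r,
      ← Finset.prod_pow_eq_pow_sum]
    exact Finset.prod_congr rfl fun q _ => key _ _ _
  have hr : V c.r ≠ 1 := by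
    rw [hVr, pow_eq_pow_mod _ (hcube _)]
    have h1 : φ ⟨c.r, c.r_mem_T⟩ ≠ 1 := fun h => c.r_not_mem ((hφ _).1 h)
    have h2 := c.not_dvd_index_T hs
    rcases (show c.T.index % 3 = 1 ∨ c.T.index % 3 = 2 by omega) with e | e <;> rw [e]
    · rwa [pow_one]
    · intro h
      refine h1 ?_
      rw [← hcube (φ ⟨c.r, c.r_mem_T⟩), pow_succ, h, one_mul]
  have ha : ∀ k, V (c.a k) = 1 := fun k => by
    have h := hcube (V (c.a k))
    rwa [pow_succ, pow_two, ← map_mul, c.a_sq, map_one, one_mul] at h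
  refine ⟨V.ker, inferInstance, ?_, fun k => ⟨?_, MonoidHom.mem_ker.2 (ha k)⟩,
    fun h => hr (MonoidHom.mem_ker.1 h)⟩
  · rw [index_ker]
    have h3 : Nat.card (Multiplicative (ZMod 3)) = 3 := by simp
    have hsurj : V.range = ⊤ := by
      have := V.range.card_subgroup_dvd_card
      rw [h3] at this
      rcases (Nat.dvd_prime Nat.prime_three).1 this with h | h
      · exfalso
        have hb := Subgroup.eq_bot_of_card_eq _ h
        exact hr (mem_bot.1 (hb ▸ ⟨c.r, rfl⟩))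
      · exact Subgroup.eq_top_of_card_eq _ (h.trans h3.symm)
    rw [hsurj, Subgroup.card_top, h3]
  · obtain ⟨j, hj⟩ : ∃ j : Fin 3, k ≠ j := ⟨k + 1, by fin_cases k <;> decide⟩
    have h := congrArg V (c.a_inv j k hj)
    rw [map_mul, map_mul, ha j, one_mul, map_inv, ha j, inv_one, mul_one, map_inv] at h
    have h2 : V (c.f k) * V (c.f k) = 1 := by
      nth_rewrite 1 [h]
      exact inv_mul_cancel _
    have h3 := hcube (V (c.f k))
    rw [MonoidHom.mem_ker]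
    rwa [pow_succ, pow_two, h2, one_mul] at h3

end CfsgLib.McLWeak.Core
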