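import Cfsg.Agent.Lib.McLWeak.CoreModel
import Cfsg.Agent.Lib.McLWeak.Transfer
import Cfsg.Agent.Lib.McLThreeLocal.Point.Top
import Cfsg.Agent.Lib.McLThreeLocal.Point.CentLe

/-!
# `N(J)` is everything in the configuration `Core`
-/

set_option autoImplicit false

namespace CfsgLib.McLWeak

open Subgroup

universe u

/-- In both cases `J` is normal. -/
theorem Core.normalizer_eq_top {X : Type u} [Group X] [Finite X] (c : Core X)
    (h : c.IsSmall ∨ c.IsBig) : normalizer (c.J : Set X) = ⊤ := by
  rcases h with hs | hb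
  · obtain ⟨D, hJ, -, hr⟩ := exists_datum_small c hs
    rw [← hJ, ← D.range]
    refine D.range_eq_top D.cent_le fun _ => ?_
    obtain ⟨K, hn, hi, -, hrK⟩ := c.exists_index_three hs
    exact ⟨K, hn, hi, fun hle => hrK (hle hr)⟩
  · obtain ⟨D, hJ, hR⟩ := exists_datum_big c hb
    rw [← hJ, ← D.range]
    exact D.range_eq_top D.cent_le fun h => absurd hR h

end CfsgLib.McLWeak
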