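import Cfsg.Agent.Lib.McLThreeLocal.FrameCore
import Cfsg.Agent.Lib.McLThreeLocal.CentY
import Cfsg.Agent.Lib.McLThreeLocal.Basic

/-!
General facts used for the centraliser of `y = z w` inside the normaliser of `J`.
-/

set_option autoImplicit false
set_option maxRecDepth 20000
set_option linter.unusedSectionVars false
set_option linter.style.haveILetI false
set_option Elab.async false
set_option synthInstance.maxSize 2048
set_option synthInstance.maxHeartbeats 400000

namespace CfsgLib.McLWeak.FrameLemmas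

open Subgroup Equiv CfsgLib.McLThreeLocal CfsgLib.McLThreeLocal.FrameSix

/-- `x` has order five or is a square root of an element of `⟨t1, b⟩`. -/
def Bad (b x : Perm (Fin 6)) : Prop :=
  x * x = t1 ∨ x * x = b ∨ x * x = t1 * b ∨ (x ^ 5 = 1 ∧ x ≠ 1)

instance (b x : Perm (Fin 6)) : Decidable (Bad b x) := inferInstanceAs (Decidable (_ ∨ _))

/-- `x` has order three and permutes `t1`, `b`, `t1 * b` cyclically, in one of the two senses. -/
def Good (b x : Perm (Fin 6)) : Prop :=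
  x ^ 3 = 1 ∧ ((x * t1 * x⁻¹ = b ∧ x * b * x⁻¹ = t1 * b) ∨
    (x⁻¹ * t1 * x = b ∧ x⁻¹ * b * x = t1 * b))

instance (b x : Perm (Fin 6)) : Decidable (Good b x) := inferInstanceAs (Decidable (_ ∧ _))

/-- The conclusion of the search. -/
def Concl (b x : Perm (Fin 6)) : Prop :=
    x = 1 ∨ x = t1 ∨ x = b ∨ x = t1 * b ∨ Good b x ∨ Bad b x ∨ Bad b (x * t1) ∨ Bad b (x * b) ∨
      Bad b (x * t1 * x⁻¹ * t1) ∨ Bad b (x * b * x⁻¹ * t1) ∨ Bad b (x * x * b) ∨
      Bad b (x⁻¹ * t1 * x * b) ∨ Bad b (x * t1 * b * x⁻¹ * t1)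

instance (b x : Perm (Fin 6)) : Decidable (Concl b x) := inferInstanceAs (Decidable (_ ∨ _))

/-- The search, for the elements with a given image of `0`. -/
def SixAt (k : Fin 6) : Prop :=
  ∀ b : Perm (Fin 6), b * t1 = t1 * b → b * b = 1 → Perm.sign b = 1 → b ≠ 1 →
    b ≠ t1 → ∀ x : Perm (Fin 6), x 0 = k → Perm.sign x = 1 → Concl b x

theorem six_at0 : SixAt 0 := by
  unfold SixAt
  decide +kernel

theorem six_at1 : SixAt 1 := by
  unfold SixAt
  decide +kernel

theorem six_at2 : SixAt 2 := by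
  unfold SixAt
  decide +kernel

theorem six_at3 : SixAt 3 := by
  unfold SixAt
  decide +kernel

theorem six_at4 : SixAt 4 := by
  unfold SixAt
  decide +kernel

theorem six_at5 : SixAt 5 := by
  unfold SixAt
  decide +kernel

theorem six_cases : ∀ b : Perm (Fin 6), b * t1 = t1 * b → b * b = 1 → Perm.sign b = 1 → b ≠ 1 →
    b ≠ t1 → ∀ x : Perm (Fin 6), Perm.sign x = 1 →
    x = 1 ∨ x = t1 ∨ x = b ∨ x = t1 * b ∨ Good b x ∨ Bad b x ∨ Bad b (x * t1) ∨ Bad b (x * b) ∨
      Bad b (x * t1 * x⁻¹ * t1) ∨ Bad b (x * b * x⁻¹ * t1) ∨ Bad b (x * x * b) ∨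
      Bad b (x⁻¹ * t1 * x * b) ∨ Bad b (x * t1 * b * x⁻¹ * t1) := by
  intro b h1 h2 h3 h4 h5 x hx
  obtain ⟨k, hk⟩ : ∃ k, x 0 = k := ⟨_, rfl⟩
  fin_cases k
  exacts [six_at0 b h1 h2 h3 h4 h5 x hk hx, six_at1 b h1 h2 h3 h4 h5 x hk hx,
    six_at2 b h1 h2 h3 h4 h5 x hk hx, six_at3 b h1 h2 h3 h4 h5 x hk hx,
    six_at4 b h1 h2 h3 h4 h5 x hk hx, six_at5 b h1 h2 h3 h4 h5 x hk hx]

theorem six_conj : ∀ v : Perm (Fin 6), v * t1 = t1 * v → Perm.sign v = 1 → v * v = 1 → v ≠ 1 →
    ∃ a : Perm (Fin 6), Perm.sign a = 1 ∧ a * t1 * a⁻¹ = v := by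
  decide +kernel

theorem six_root : ∀ x : Perm (Fin 6), x * t1 = t1 * x → Perm.sign x = 1 → x * x = t1 →
    ∀ y : Perm (Fin 6), y * t1 = t1 * y → Perm.sign y = 1 → y * y = t1 → x = y ∨ x * y = 1 := by
  decide +kernel

theorem six_P0_comm : ∀ x : Perm (Fin 6), InP0 x → Perm.sign x = 1 → ∀ y : Perm (Fin 6),
    InP0 y → Perm.sign y = 1 → x * y = y * x := by
  decide +kernel

theorem six_P0_cent : ∀ x : Perm (Fin 6), InP0 x → Perm.sign x = 1 → x ≠ 1 → ∀ q : Perm (Fin 6),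
    q * x = x * q → Perm.sign q = 1 → q ^ 3 = 1 → InP0 q := by
  decide +kernel

open SLFive in
/-- Some power `1, 2, 3, 5` of `x` is `-1`. -/
def IsEven (x : T) : Prop :=
  x = (4, 0, 0, 4) ∨ tmul x x = (4, 0, 0, 4) ∨ tmul (tmul x x) x = (4, 0, 0, 4) ∨
    tmul (tmul (tmul (tmul x x) x) x) x = (4, 0, 0, 4)

instance (x : SLFive.T) : Decidable (IsEven x) := inferInstanceAs (Decidable (_ ∨ _))

open SLFive in
/-- The conclusion of the search in `SL(2,5)`. -/
def OddCase (g u : T) : Prop :=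
  g = (1, 0, 0, 1) ∨ g = u ∨ g = tmul u u ∨ IsEven (tmul (tmul g g) u) ∨ IsEven (tmul g (tinv u))

instance (g u : SLFive.T) : Decidable (OddCase g u) := inferInstanceAs (Decidable (_ ∨ _))

open SLFive in
theorem sl_spec : ∀ a b c d : ZMod 5, a * d - b * c = 1 →
    OddCase (a, b, c, d) (0, 4, 1, 4) ∧ OddCase (a, b, c, d) (4, 1, 4, 0) := by
  decide +kernel

open SLFive in
/-- A subgroup of `SL(2,5)` avoiding `-1` and containing an element of order three is generated by it. -/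
theorem sl_odd (A : Subgroup (Matrix.SpecialLinearGroup (Fin 2) (ZMod 5)))
    {τ g : Matrix.SpecialLinearGroup (Fin 2) (ZMod 5)} (h3 : τ ^ 3 = 1) (h1 : τ ≠ 1)
    (hτ : τ ∈ A) (hg : g ∈ A) (hA : -1 ∉ A) : g = 1 ∨ g = τ ∨ g = τ * τ := by
  obtain ⟨h, u, hu, hτu⟩ : ∃ h u, (ent u = ((0, 4, 1, 4) : T) ∨ ent u = ((4, 1, 4, 0) : T)) ∧
      τ = h * u * h⁻¹ := by
    obtain ⟨h, e | e⟩ := sl_three_conj h3 h1
    · exact ⟨h, sl0, by decide, e⟩
    · exact ⟨h, sl0 ^ 2, by decide, e⟩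
  set g' := h⁻¹ * g * h with hg'
  have hgg : g = h * g' * h⁻¹ := by rw [hg']; group
  have hsp : OddCase (ent g') (ent u) := by
    rcases hu with e | e <;> rw [e]
    · exact (sl_spec _ _ _ _ (ent_det g')).1
    · exact (sl_spec _ _ _ _ (ent_det g')).2
  rcases hsp with e | e | e | e
  · left
    rw [hgg, ent_injective (e.trans ent_one.symm)]; group
  · right; left
    rw [hgg, ent_injective e, hτu]
  · right; right
    rw [hgg, ent_injective (e.trans (ent_mul _ _).symm), hτu]; group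
  · exfalso
    obtain ⟨X, hXe, hXA⟩ : ∃ X, IsEven (ent X) ∧ h * X * h⁻¹ ∈ A := by
      rcases e with e | e
      · refine ⟨g' * g' * u, by rw [ent_mul, ent_mul]; exact e, ?_⟩
        rw [show h * (g' * g' * u) * h⁻¹ = g * g * τ by rw [hgg, hτu]; group]
        exact mul_mem (mul_mem hg hg) hτ
      · refine ⟨g' * u⁻¹, by rw [ent_mul, ent_inv]; exact e, ?_⟩
        rw [show h * (g' * u⁻¹) * h⁻¹ = g * τ⁻¹ by rw [hgg, hτu]; group]
        exact mul_mem hg (inv_mem hτ)
    have key : ∀ n : ℕ, ent (X ^ n) = (4, 0, 0, 4) → False := fun n hn => by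
      apply hA
      have := pow_mem hXA n
      rwa [conj_pow, ent_injective (hn.trans ent_neg_one.symm), mul_neg_one, neg_mul,
        mul_inv_cancel] at this
    rcases hXe with e | e | e | e
    · exact key 1 (by rw [pow_one]; exact e)
    · exact key 2 (by rw [pow_two, ent_mul]; exact e)
    · exact key 3 (by rw [pow_succ, pow_two, ent_mul, ent_mul]; exact e)
    · exact key 5 (by simp only [pow_succ, pow_zero, one_mul, ent_mul]; exact e)

universe u

variable {G : Type u} [Group G] [Finite G]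

/-- A map whose fibres lie in cosets of `C` bounds the order. -/
theorem card_le_mul (A C : Subgroup G) {β : Type*} [Finite β] (φ : A → β)
    (h : ∀ a b : A, φ a = φ b → (a : G)⁻¹ * b ∈ C) : Nat.card A ≤ Nat.card β * Nat.card C := by
  haveI : Nonempty A := ⟨1⟩
  rw [← Nat.card_prod]
  let g : A → β × C := fun a =>
    (φ a, ⟨_, h (Function.invFun φ (φ a)) a (Function.invFun_eq ⟨a, rfl⟩)⟩)
  refine Nat.card_le_card_of_injective g fun a b e => ?_
  have e1 : φ a = φ b := congrArg Prod.fst e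
  have e2 := congrArg (fun p : β × C => (p.2 : G)) e
  simp only [g, e1] at e2
  exact Subtype.ext (mul_left_cancel e2)

end CfsgLib.McLWeak.FrameLemmas
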