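import Cfsg.Agent.Lib.McLThreeLocal.XTools
import Cfsg.Agent.Lib.McLWeak.FrameLemmas

/-!
The element `r` of order three in `C_M(z w)`, the action of `N(J) ∩ C(z w)` on the axes and the centraliser
of the weight-three vector `s`.
-/

set_option autoImplicit false
set_option maxRecDepth 20000
set_option linter.unusedSectionVars false
set_option linter.style.haveILetI false

namespace CfsgLib.McLWeak.Frame

open Subgroup Equiv CfsgLib.McLThreeLocal CfsgLib.McLThreeLocal.FrameSix FrameLemmas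

universe u

variable {G : Type u} [Group G] [Finite G] (f : FrameCore G)

theorem y_mem_J : f.z * f.w ∈ f.J := mul_mem (CentY.z_mem_J f) f.w_mem_J

theorem y_cube : (f.z * f.w) ^ 3 = 1 := f.hJexp _ (y_mem_J f)

theorem y_t : f.t * (f.z * f.w) = f.z * f.w * f.t := (CentY.y_t f (Or.inl rfl)).symm

theorem j_y : f.j * (f.z * f.w) = f.z * f.w * f.j := by
  calc f.j * (f.z * f.w) = (f.j * f.z * f.j⁻¹) * (f.j * f.w * f.j⁻¹) * f.j := by group
    _ = f.z * f.w * f.j := by rw [f.j_z, f.j_w, CentY.zw f]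

theorem t_not_J : f.t ∉ f.J := fun h => by
  have h1 := orderOf_dvd_of_pow_eq_one (f.hJexp _ h)
  rw [f.t_order] at h1
  omega

theorem j_not_J : f.j ∉ f.J := fun h => by
  apply CentY.w_ne_z f
  rw [← f.j_z, f.hJcomm _ h _ (CentY.z_mem_J f), mul_inv_cancel_right]

theorem tj_not_J : f.t * f.j ∉ f.J := fun h => by
  apply CentY.w_ne_z f
  have h1 := f.hJcomm _ h _ (CentY.z_mem_J f)
  rw [← f.j_z]
  calc f.j * f.z * f.j⁻¹ = f.t⁻¹ * (f.t * f.j * f.z) * f.j⁻¹ := by group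
    _ = f.t⁻¹ * f.z * f.t := by rw [h1]; group
    _ = f.z := by rw [mul_assoc, CentY.zt f, inv_mul_cancel_left]

/-- `k k'` squares to `t`. -/
theorem kk_sq : f.k * CentY.kTwo f * (f.k * CentY.kTwo f) = f.t := by
  have hk2 : CentY.kTwo f * CentY.kTwo f = f.t := by
    rw [CentY.kTwo, show f.j * f.k * f.j⁻¹ * (f.j * f.k * f.j⁻¹) = f.j * (f.k * f.k) * f.j⁻¹ by
      group, f.k_sq, f.jt, mul_inv_cancel_right]
  have h : f.k * CentY.kTwo f = CentY.kTwo f * f.k * f.t := f.comm_kk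
  have h2 : CentY.kTwo f * f.k = f.k * CentY.kTwo f * f.t := by
    rw [h, mul_assoc _ f.t f.t, CentY.tt, mul_one]
  have hkt : CentY.kTwo f * f.t = f.t * CentY.kTwo f := by rw [← hk2, mul_assoc]
  calc f.k * CentY.kTwo f * (f.k * CentY.kTwo f)
      = f.k * (CentY.kTwo f * f.k) * CentY.kTwo f := by group
    _ = f.k * f.k * (CentY.kTwo f * (f.t * CentY.kTwo f)) := by rw [h2]; group
    _ = f.t := by
      rw [f.k_sq, ← mul_assoc (CentY.kTwo f), hkt, mul_assoc f.t (CentY.kTwo f), hk2, CentY.tt,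
        mul_one]

/-- `k k'` inverts `D`. -/
theorem kk_inv {a : G} (ha : a ∈ closure ({f.z, f.w} : Set G)) :
    f.k * CentY.kTwo f * a * (f.k * CentY.kTwo f)⁻¹ = a⁻¹ := by
  obtain ⟨i, l, -, -, rfl⟩ := CentY.exists_exp f ha
  rw [← conj_mul, ← conj_pow, ← conj_pow, CentY.kk_z, CentY.kk_w, inv_pow, inv_pow, mul_inv_rev]
  exact ((show Commute f.z f.w from CentY.zw f).pow_pow i l).inv_inv.eq

section proj

variable (π : Proj f.toHyp) (hπ : π.map f.t = t1)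

include hπ in
theorem map_j_facts : π.map f.j * t1 = t1 * π.map f.j ∧ π.map f.j * π.map f.j = 1 ∧
    π.map f.j ≠ 1 ∧ π.map f.j ≠ t1 := by
  refine ⟨?_, ?_, fun h => j_not_J f ((π.ker_map _ f.j_mem_M).mp h), fun h => ?_⟩
  · rw [← hπ, ← π.map_mul' _ f.j_mem_M _ f.t_mem_M, ← π.map_mul' _ f.t_mem_M _ f.j_mem_M, f.jt]
  · rw [← π.map_mul' _ f.j_mem_M _ f.j_mem_M, f.j_sq, π.map_one]
  · apply tj_not_J f
    rw [← π.ker_map _ (mul_mem f.t_mem_M f.j_mem_M), π.map_mul' _ f.t_mem_M _ f.j_mem_M, h, hπ,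
      FrameSix.basic.2.2.2.2.2.2.1]

include hπ in
/-- The image of an element of `C_M(y)` is not a square root of the image of an involution of `⟨t, j⟩`. -/
theorem no_root {τ m : G} (hτM : τ ∈ f.M) (hτ2 : τ * τ = 1) (hτt : τ * f.t = f.t * τ)
    (hτy : τ * (f.z * f.w) = f.z * f.w * τ) (hτJ : τ ∉ f.J) (hm : m ∈ f.M)
    (hmy : m * (f.z * f.w) = f.z * f.w * m) : π.map m * π.map m ≠ π.map τ := by
  intro hsq
  obtain ⟨a, has, ha⟩ := six_conj (π.map τ)
    (by rw [← hπ, ← π.map_mul' _ hτM _ f.t_mem_M, ← π.map_mul' _ f.t_mem_M _ hτM, hτt])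
    (π.sign_map _) (by rw [← π.map_mul' _ hτM _ hτM, hτ2, π.map_one])
    (fun h => hτJ ((π.ker_map _ hτM).mp h))
  obtain ⟨g, hg, rfl⟩ := π.surj_map a has
  set τ' := g⁻¹ * τ * g with hτ'
  set e := g⁻¹ * (f.z * f.w) * g with he
  set m' := g⁻¹ * m * g with hm'
  have hτ'M : τ' ∈ f.M := mul_mem (mul_mem (inv_mem hg) hτM) hg
  have hm'M : m' ∈ f.M := mul_mem (mul_mem (inv_mem hg) hm) hg
  have hπτ : π.map τ' = t1 := by
    rw [hτ', π.map_mul' _ (mul_mem (inv_mem hg) hτM) _ hg, π.map_mul' _ (inv_mem hg) _ hτM,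
      π.map_inv hg, ← ha]
    group
  have heJ : e ∈ f.J := by
    have := (mem_normalizer_iff.mp (f.M_le_normJ (inv_mem hg)) _).mp (y_mem_J f)
    rwa [inv_inv] at this
  have hd : f.t * τ' ∈ f.J := by
    rw [← π.ker_map _ (mul_mem f.t_mem_M hτ'M), π.map_mul' _ f.t_mem_M _ hτ'M, hπ, hπτ,
      FrameSix.basic.2.2.2.2.2.2.1]
  have het : e * f.t = f.t * e := by
    have h1 : Commute e τ' := by
      show _ = _
      rw [he, hτ', show g⁻¹ * (f.z * f.w) * g * (g⁻¹ * τ * g) = g⁻¹ * (f.z * f.w * τ) * g by group,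
        ← hτy]
      group
    have h2 : Commute e ((f.t * τ') * τ'⁻¹) :=
      (show Commute e (f.t * τ') from f.hJcomm _ heJ _ hd).mul_right h1.inv_right
    rwa [mul_inv_cancel_right] at h2
  have heD : e ∈ closure ({f.z, f.w} : Set G) := (f.D_eq e).mpr ⟨heJ, het⟩
  have hπm : π.map m' * π.map m' = t1 := by
    rw [hm', π.map_mul' _ (mul_mem (inv_mem hg) hm) _ hg, π.map_mul' _ (inv_mem hg) _ hm,
      π.map_inv hg, ← hπτ, hτ', π.map_mul' _ (mul_mem (inv_mem hg) hτM) _ hg,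
      π.map_mul' _ (inv_mem hg) _ hτM, π.map_inv hg, ← hsq]
    group
  have hcomm : π.map m' * t1 = t1 * π.map m' := by rw [← hπm, mul_assoc]
  set c := f.k * CentY.kTwo f with hc
  have hcM : c ∈ f.M := f.kk_mem_M
  have hπc : π.map c * π.map c = t1 := by
    rw [← π.map_mul' _ hcM _ hcM, hc, kk_sq, hπ]
  have hcc : π.map c * t1 = t1 * π.map c := by rw [← hπc, mul_assoc]
  have hinv : c * e * c⁻¹ = e⁻¹ := kk_inv f heD
  have hinv' : c⁻¹ * e * c = e⁻¹ := by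
    calc c⁻¹ * e * c = (c⁻¹ * (c * e * c⁻¹) * c)⁻¹ := by rw [hinv]; group
      _ = e⁻¹ := by group
  have hm'e : m' * e * m'⁻¹ = e := by
    rw [hm', he, show g⁻¹ * m * g * (g⁻¹ * (f.z * f.w) * g) * (g⁻¹ * m * g)⁻¹ =
      g⁻¹ * (m * (f.z * f.w)) * m⁻¹ * g by group, hmy]
    group
  have hfin : e = e⁻¹ := by
    rcases six_root _ hcomm (π.sign_map _) hπm _ hcc (π.sign_map _) hπc with h | h
    · have hd' : c⁻¹ * m' ∈ f.J := by
        rw [← π.ker_map _ (mul_mem (inv_mem hcM) hm'M), π.map_mul' _ (inv_mem hcM) _ hm'M,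
          π.map_inv hcM, h, inv_mul_cancel]
      calc e = c * (c⁻¹ * m' * e) * (c⁻¹ * m')⁻¹ * c⁻¹ := by
            conv_lhs => rw [← hm'e]
            group
        _ = c * e * c⁻¹ := by rw [f.hJcomm _ hd' _ heJ]; group
        _ = e⁻¹ := hinv
    · have hd' : c * m' ∈ f.J := by
        rw [← π.ker_map _ (mul_mem hcM hm'M), π.map_mul' _ hcM _ hm'M]
        exact mul_eq_one_comm.mp h
      calc e = c⁻¹ * (c * m' * e) * (c * m')⁻¹ * c := by
            conv_lhs => rw [← hm'e]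
            group
        _ = c⁻¹ * e * c := by rw [f.hJcomm _ hd' _ heJ]; group
        _ = e⁻¹ := hinv'
  have h1 := eq_one_of_eq_inv_cube (f.hJexp _ heJ) hfin
  apply CentY.y_ne_one f (Or.inl rfl) (y := f.z * f.w)
  calc f.z * f.w = g * e * g⁻¹ := by rw [he]; group
    _ = 1 := by rw [h1]; group

/-- No image of an element of `C_M(y)` has order five. -/
theorem no_five {m : G} (hm : m ∈ f.M) (hmy : m * (f.z * f.w) = f.z * f.w * m)
    (h5 : π.map m ^ 5 = 1) : π.map m = 1 := by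
  classical
  haveI : Fact (Nat.Prime 5) := ⟨by norm_num⟩
  haveI : Fact (Nat.Prime 3) := ⟨Nat.prime_three⟩
  have hm5 : m ^ 5 ∈ f.J := by rw [← π.ker_map _ (pow_mem hm 5), π.map_pow hm]; exact h5
  have hN := f.M_le_normJ hm
  let σ : Function.End f.J := fun a => ⟨m * a * m⁻¹, (mem_normalizer_iff.mp hN a).mp a.2⟩
  have hpow : ∀ (n : ℕ) (a : f.J), ((σ ^ n) a : G) = m ^ n * a * (m ^ n)⁻¹ := by
    intro n
    induction n with
    | zero => intro a; simp [Function.End.one_def]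
    | succ n ih =>
      intro a
      rw [pow_succ']
      show m * ((σ ^ n) a : G) * m⁻¹ = _
      rw [ih, pow_succ']
      group
  have hσ : σ ^ 5 ^ 1 = 1 := by
    funext a
    refine Subtype.ext ((hpow _ a).trans ?_)
    rw [pow_one, f.hJcomm _ hm5 _ a.2, mul_inv_cancel_right]
    rfl
  haveI := Fintype.ofFinite f.J
  have hmod := Equiv.Perm.card_fixedPoints_modEq hσ
  set F := f.J ⊓ centralizer ({m} : Set G) with hF
  have hFc : Nat.card (Function.fixedPoints σ) = Nat.card F :=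
    Nat.card_congr
      { toFun := fun a => ⟨(a : f.J), (a : f.J).2, mem_centralizer_singleton_iff.mpr
          (mul_inv_eq_iff_eq_mul.mp (congrArg Subtype.val a.2)).symm⟩
        invFun := fun a => ⟨⟨a, a.2.1⟩, Subtype.ext (mul_inv_eq_iff_eq_mul.mpr
          (mem_centralizer_singleton_iff.mp a.2.2).symm)⟩
        left_inv := fun a => rfl
        right_inv := fun a => rfl }
  rw [← Nat.card_eq_fintype_card, ← Nat.card_eq_fintype_card, f.hJcard, hFc] at hmod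
  obtain ⟨n, hn4, hn⟩ := (Nat.dvd_prime_pow Nat.prime_three).1
    (show Nat.card F ∣ 3 ^ 4 by
      rw [show (3 : ℕ) ^ 4 = 81 by norm_num, ← f.hJcard]
      exact Subgroup.card_dvd_of_le inf_le_left)
  have hn0 : n ≠ 0 := fun h0 => by
    have hbot : F = ⊥ := F.eq_bot_of_card_eq (by rw [hn, h0, pow_zero])
    have hy : f.z * f.w ∈ F := ⟨y_mem_J f, mem_centralizer_singleton_iff.mpr hmy.symm⟩
    rw [hbot, mem_bot] at hy
    exact CentY.y_ne_one f (Or.inl rfl) (y := f.z * f.w) hy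
  have hn81 : n = 4 := by
    rw [hn, Nat.ModEq] at hmod
    interval_cases n <;> simp_all
  have hFJ : F = f.J := eq_of_le_of_card_ge inf_le_left (by rw [hn, hn81, f.hJcard]; norm_num)
  have hmC : m ∈ centralizer (f.J : Set G) := mem_centralizer_iff.mpr fun a ha => by
    have ha' : a ∈ F := hFJ.symm ▸ ha
    exact mem_centralizer_singleton_iff.mp ha'.2
  rw [f.centJ] at hmC
  exact (π.ker_map _ hm).mpr hmC

include hπ in
/-- The image of `C_M(y)` is `A₄`. -/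
theorem cases_image {m : G} (hm : m ∈ f.M) (hmy : m * (f.z * f.w) = f.z * f.w * m) :
    π.map m = 1 ∨ π.map m = t1 ∨ π.map m = π.map f.j ∨ π.map m = t1 * π.map f.j ∨
      Good (π.map f.j) (π.map m) := by
  obtain ⟨hbt, hbb, hb1, hbt1⟩ := map_j_facts f π hπ
  have hC : ∀ a, a ∈ f.M → a * (f.z * f.w) = f.z * f.w * a →
      a ∈ f.M ⊓ centralizer ({f.z * f.w} : Set G) := fun a h1 h2 =>
    ⟨h1, mem_centralizer_singleton_iff.mpr h2⟩
  have hx := hC m hm hmy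
  have ht := hC f.t f.t_mem_M (y_t f)
  have hj := hC f.j f.j_mem_M (j_y f)
  have hbad : ∀ a, a ∈ f.M ⊓ centralizer ({f.z * f.w} : Set G) →
      ¬ Bad (π.map f.j) (π.map a) := by
    intro a ha
    have hay := mem_centralizer_singleton_iff.mp ha.2
    rintro (h | h | h | ⟨h, hne⟩)
    · exact no_root f π hπ f.t_mem_M (CentY.tt f) rfl (y_t f) (t_not_J f) ha.1 hay
        (h.trans hπ.symm)
    · exact no_root f π hπ f.j_mem_M f.j_sq f.jt (j_y f) (j_not_J f) ha.1 hay h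
    · refine no_root f π hπ (mul_mem f.t_mem_M f.j_mem_M) ?_ ?_ ?_ (tj_not_J f) ha.1 hay ?_
      · rw [show f.t * f.j * (f.t * f.j) = f.t * (f.j * f.t) * f.j by group, f.jt,
          show f.t * (f.t * f.j) * f.j = (f.t * f.t) * (f.j * f.j) by group, CentY.tt, f.j_sq,
          one_mul]
      · rw [mul_assoc, f.jt]
      · exact ((show Commute f.t _ from y_t f).mul_left (show Commute f.j _ from j_y f)).eq
      · rw [h, π.map_mul' _ f.t_mem_M _ f.j_mem_M, hπ]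
    · exact hne (no_five f π ha.1 hay h)
  have hM : ∀ {a}, a ∈ f.M ⊓ centralizer ({f.z * f.w} : Set G) → a ∈ f.M := fun h => h.1
  rcases six_cases _ hbt hbb (π.sign_map _) hb1 hbt1 _ (π.sign_map m) with
    h | h | h | h | h | h | h | h | h | h | h | h | h
  · exact Or.inl h
  · exact Or.inr (Or.inl h)
  · exact Or.inr (Or.inr (Or.inl h))
  · exact Or.inr (Or.inr (Or.inr (Or.inl h)))
  · exact Or.inr (Or.inr (Or.inr (Or.inr h)))
  · exact absurd h (hbad m hx)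
  all_goals exfalso
  · rw [← hπ, ← π.map_mul' _ hm _ f.t_mem_M] at h
    exact hbad _ (mul_mem hx ht) h
  · rw [← π.map_mul' _ hm _ f.j_mem_M] at h
    exact hbad _ (mul_mem hx hj) h
  · rw [← hπ, ← π.map_conj hm f.t_mem_M,
      ← π.map_mul' _ (hM (mul_mem (mul_mem hx ht) (inv_mem hx))) _ f.t_mem_M] at h
    exact hbad _ (mul_mem (mul_mem (mul_mem hx ht) (inv_mem hx)) ht) h
  · rw [← hπ, ← π.map_conj hm f.j_mem_M,
      ← π.map_mul' _ (hM (mul_mem (mul_mem hx hj) (inv_mem hx))) _ f.t_mem_M] at h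
    exact hbad _ (mul_mem (mul_mem (mul_mem hx hj) (inv_mem hx)) ht) h
  · rw [← π.map_mul' _ hm _ hm, ← π.map_mul' _ (mul_mem hm hm) _ f.j_mem_M] at h
    exact hbad _ (mul_mem (mul_mem hx hx) hj) h
  · rw [← hπ, ← π.map_inv hm, ← π.map_mul' _ (inv_mem hm) _ f.t_mem_M,
      ← π.map_mul' _ (mul_mem (inv_mem hm) f.t_mem_M) _ hm,
      ← π.map_mul' _ (mul_mem (mul_mem (inv_mem hm) f.t_mem_M) hm) _ f.j_mem_M] at h
    exact hbad _ (mul_mem (mul_mem (mul_mem (inv_mem hx) ht) hx) hj) h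
  · rw [← hπ, ← π.map_mul' _ hm _ f.t_mem_M, ← π.map_mul' _ (mul_mem hm f.t_mem_M) _ f.j_mem_M,
      ← π.map_inv hm, ← π.map_mul' _ (hM (mul_mem (mul_mem hx ht) hj)) _ (inv_mem hm),
      ← π.map_mul' _ (hM (mul_mem (mul_mem (mul_mem hx ht) hj) (inv_mem hx))) _ f.t_mem_M] at h
    exact hbad _ (mul_mem (mul_mem (mul_mem (mul_mem hx ht) hj) (inv_mem hx)) ht) h

include hπ in
/-- `C_M(y)` has an element whose image permutes `t1`, `π j`, `t1 π j` cyclically. -/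
theorem exists_cycle : ∃ m ∈ f.M, m * (f.z * f.w) = f.z * f.w * m ∧ π.map m ^ 3 = 1 ∧
    π.map m * t1 * (π.map m)⁻¹ = π.map f.j ∧
      π.map m * π.map f.j * (π.map m)⁻¹ = t1 * π.map f.j := by
  classical
  set C := f.M ⊓ centralizer ({f.z * f.w} : Set G) with hC
  by_cases hex : ∃ m ∈ C, Good (π.map f.j) (π.map m)
  · obtain ⟨m, hm, h3, h | h⟩ := hex
    · exact ⟨m, hm.1, mem_centralizer_singleton_iff.mp hm.2, h3, h⟩
    · refine ⟨m⁻¹, inv_mem hm.1, mem_centralizer_singleton_iff.mp (inv_mem hm).2, ?_, ?_⟩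
      · rw [π.map_inv hm.1, inv_pow, h3, inv_one]
      · rw [π.map_inv hm.1, inv_inv]; exact h
  · exfalso
    let φ : C → Fin 4 := fun a => if π.map a = 1 then 0 else if π.map a = t1 then 1 else
      if π.map a = π.map f.j then 2 else 3
    have hC4 : Nat.card C ≤ 4 * 81 := by
      rw [← Nat.card_fin 4, ← f.hJcard]
      refine card_le_mul C f.J φ fun a b e => ?_
      rw [← π.ker_map _ (mul_mem (inv_mem a.2.1) b.2.1), π.map_mul' _ (inv_mem a.2.1) _ b.2.1,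
        π.map_inv a.2.1, inv_mul_eq_one]
      have hcases : ∀ c : C, π.map c = 1 ∨ π.map c = t1 ∨ π.map c = π.map f.j ∨
          π.map c = t1 * π.map f.j := fun c => by
        rcases cases_image f π hπ c.2.1 (mem_centralizer_singleton_iff.mp c.2.2) with
          h | h | h | h | h
        · exact Or.inl h
        · exact Or.inr (Or.inl h)
        · exact Or.inr (Or.inr (Or.inl h))
        · exact Or.inr (Or.inr (Or.inr h))
        · exact absurd ⟨c, c.2, h⟩ hex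
      simp only [φ] at e
      split_ifs at e <;>
        first
        | (simp at e; done)
        | (simp only [*]; done)
        | (rcases hcases a with ha | ha | ha | ha <;> rcases hcases b with hb | hb | hb | hb <;>
            simp_all)
    have hM := card_le_mul f.M C (β := f.J) (fun a => ⟨(a : G) * (f.z * f.w) * (a : G)⁻¹,
      (mem_normalizer_iff.mp (f.M_le_normJ a.2) _).mp (y_mem_J f)⟩) fun a b e => by
        refine ⟨f.M.mul_mem (f.M.inv_mem a.2) b.2, mem_centralizer_singleton_iff.mpr ?_⟩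
        have e' : (a : G) * (f.z * f.w) * (a : G)⁻¹ = (b : G) * (f.z * f.w) * (b : G)⁻¹ :=
          congrArg Subtype.val e
        calc (a : G)⁻¹ * b * (f.z * f.w)
            = (a : G)⁻¹ * ((b : G) * (f.z * f.w) * (b : G)⁻¹) * b := by group
          _ = f.z * f.w * ((a : G)⁻¹ * b) := by rw [← e']; group
    rw [f.M_card, f.hJcard] at hM
    omega

end proj

/-- The Sylow subgroup is `Q ⟨w⟩`. -/
theorem S_eq {s : G} (hs : s ∈ (f.S : Subgroup G)) : ∃ a ∈ f.Q, ∃ i : ℕ, s = a * f.w ^ i := by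
  obtain ⟨a, ha, h, hK, hS, rfl⟩ := f.toLocalZ.S_split hs
  have hle : zpowers f.w ≤ (f.S : Subgroup G) ⊓ f.K :=
    zpowers_le.mpr ⟨f.hJS f.w_mem_J, f.w_mem_K⟩
  have heq := eq_of_le_of_card_ge hle
    (by rw [f.toLocalZ.card_W, Nat.card_zpowers, f.w_order])
  have hm : h ∈ zpowers f.w := heq ▸ (⟨hS, hK⟩ : h ∈ (f.S : Subgroup G) ⊓ f.K)
  obtain ⟨i, hi⟩ := mem_powers_iff_mem_zpowers.mpr hm
  change f.w ^ i = h at hi
  exact ⟨a, ha, i, by rw [hi]⟩

/-- Cubes of elements of `S` lie in `Z`. -/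
theorem cube_mem_Z {x : G} (hx : x ∈ (f.S : Subgroup G)) : x ^ 3 ∈ f.Z := by
  obtain ⟨q, hq, i, rfl⟩ := S_eq f hx
  set d := f.w ^ i with hd
  have hdJ : d ∈ f.J := pow_mem f.w_mem_J i
  have hdS := f.hJS hdJ
  have hdz : d * f.z = f.z * d := f.hJcomm _ hdJ _ (CentY.z_mem_J f)
  set c := q⁻¹ * d * q * d⁻¹ with hc
  have hdqd : d * q * d⁻¹ ∈ f.Q := f.toLocalZ.cent_z_normQ hdz hq
  have hcQ : c ∈ f.Q := by
    rw [hc, show q⁻¹ * d * q * d⁻¹ = q⁻¹ * (d * q * d⁻¹) by group]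
    exact mul_mem (inv_mem hq) hdqd
  have hcJ : c ∈ f.J := by
    refine mul_mem ?_ (inv_mem hdJ)
    have hn : q ∈ normalizer (f.J : Set G) := f.toHyp.sylow_le_normJ f.hJS (f.Q_le_S hq)
    have := (mem_normalizer_iff.mp (inv_mem hn) d).mp hdJ
    rwa [inv_inv] at this
  have hdc : d * c = c * d := f.hJcomm _ hdJ _ hcJ
  have h1 : d * q * d⁻¹ = q * c := by rw [hc]; group
  have h2 : d * d * q * (d * d)⁻¹ = q * c * c := by
    calc d * d * q * (d * d)⁻¹ = d * (d * q * d⁻¹) * d⁻¹ := by group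
      _ = d * q * d⁻¹ * (d * c * d⁻¹) := by
        conv_lhs => rw [h1]
        group
      _ = q * c * c := by rw [h1, hdc, mul_inv_cancel_right]
  have hd3 : d * d * d = 1 := by
    have := f.hJexp _ hdJ
    rwa [pow_succ, pow_two] at this
  have hq3 : q * q * q = 1 := by
    have := f.hQexp _ hq
    rwa [pow_succ, pow_two] at this
  have hc3 : c * c * c = 1 := by
    have := f.hJexp _ hcJ
    rwa [pow_succ, pow_two] at this
  set ζ := c * q * c⁻¹ * q⁻¹ with hζd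
  have hζ : ζ ∈ f.Z := f.Q_comm _ hcQ _ hq
  have hζq : q * ζ = ζ * q := f.toHyp.Z_central (f.Q_le_S hq) hζ |>.symm
  have hkey : (q * d) ^ 3 = q * (q * c) * (q * c * c) * (d * d * d) := by
    rw [← h2, ← h1, pow_succ, pow_two]; group
  rw [hkey, hd3, mul_one]
  have hcq : c * q = ζ * q * c := by rw [hζd]; group
  suffices hz : q * (q * c) * (q * c * c) = ζ by rw [hz]; exact hζ
  calc q * (q * c) * (q * c * c) = q * q * (c * q) * c * c := by group
    _ = q * (q * ζ) * q * (c * c * c) := by rw [hcq]; group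
    _ = q * ζ * (q * q) := by
      conv_lhs => rw [hc3, hζq]
      group
    _ = ζ * (q * q * q) := by rw [hζq]; group
    _ = ζ := by rw [hq3, mul_one]

/-- Elements of `Z` apart from one are conjugate to `z`. -/
theorem Z_conj {a : G} (ha : a ∈ f.Z) (h1 : a ≠ 1) : ∃ g : G, g * f.z * g⁻¹ = a := by
  rw [f.Z_eq] at ha
  obtain ⟨i, rfl⟩ := mem_powers_iff_mem_zpowers.mpr ha
  have hz3 : f.z ^ 3 = 1 := f.toLocalZ.z_cube
  show ∃ g : G, g * f.z * g⁻¹ = f.z ^ i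
  rw [pow_eq_pow_mod i hz3]
  rcases (show i % 3 = 0 ∨ i % 3 = 1 ∨ i % 3 = 2 by omega) with h | h | h <;> rw [h]
  · exact absurd (by
      show f.z ^ i = 1
      rw [pow_eq_pow_mod i hz3, h, pow_zero]) h1
  · exact ⟨1, by simp⟩
  · exact ⟨CentY.kTwo f, by rw [CentY.kTwo_z, CentY.zsq]⟩

theorem y_not_conj_Z {g : G} (hg : g * (f.z * f.w) * g⁻¹ ∈ f.Z) : False := by
  obtain ⟨h, hh⟩ := Z_conj f hg (by
    rw [Ne, conj_eq_one_iff]; exact CentY.y_ne_one f (Or.inl rfl))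
  apply CentY.y_not_Z f (Or.inl rfl) (g⁻¹ * h)
  calc g⁻¹ * h * f.z * (g⁻¹ * h)⁻¹ = g⁻¹ * (h * f.z * h⁻¹) * g := by group
    _ = f.z * f.w := by rw [hh]; group

/-- An element of `C_J(t) ∩ C_J(j)` is a power of `y`. -/
theorem mem_axis {e : G} (he : e ∈ f.J) (het : e * f.t = f.t * e) (hej : e * f.j = f.j * e) :
    ∃ i : ℕ, e = (f.z * f.w) ^ i := by
  obtain ⟨i, l, hi, hl, rfl⟩ := CentY.exists_exp f ((f.D_eq e).mpr ⟨he, het⟩)
  refine ⟨i, ?_⟩
  have hzw : Commute f.z f.w := CentY.zw f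
  have h : f.w ^ i * f.z ^ l = f.z ^ i * f.w ^ l := by
    calc f.w ^ i * f.z ^ l = f.j * (f.z ^ i * f.w ^ l) * f.j⁻¹ := by
          rw [← conj_mul, ← conj_pow, ← conj_pow, f.j_z, f.j_w]
      _ = f.z ^ i * f.w ^ l := by rw [← hej, mul_inv_cancel_right]
  suffices hil : i = l by rw [hzw.mul_pow, hil]
  by_contra hne
  have hz3 : f.z ^ 3 = 1 := f.toLocalZ.z_cube
  have hw3 : f.w ^ 3 = 1 := f.w_order ▸ pow_orderOf_eq_one f.w
  apply CentY.w_not_mem f
  have hzl : f.z ^ (l * 3) = 1 := by rw [mul_comm, pow_mul, hz3, one_pow]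
  have hwl : f.w ^ (l * 3) = 1 := by rw [mul_comm, pow_mul, hw3, one_pow]
  have this : f.w ^ (i + l * 2) = f.z ^ (i + l * 2) := by
    calc f.w ^ (i + l * 2) = f.w ^ i * f.z ^ (l * 3) * f.w ^ (l * 2) := by
          rw [hzl, mul_one, pow_add]
      _ = f.w ^ i * f.z ^ l * f.z ^ (l * 2) * f.w ^ (l * 2) := by
          rw [mul_assoc (f.w ^ i) (f.z ^ l), ← pow_add, show l + l * 2 = l * 3 by omega]
      _ = f.z ^ i * f.w ^ l * f.z ^ (l * 2) * f.w ^ (l * 2) := by rw [h]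
      _ = f.z ^ i * f.z ^ (l * 2) * f.w ^ (l * 3) := by
          rw [mul_assoc (f.z ^ i) (f.w ^ l), ← (hzw.pow_pow (l * 2) l).eq, ← mul_assoc,
            mul_assoc _ (f.w ^ l), ← pow_add f.w, show l + l * 2 = l * 3 by omega]
      _ = f.z ^ (i + l * 2) := by rw [hwl, mul_one, pow_add]
  have hm : f.w ^ (i + l * 2) ∈ zpowers f.z := this ▸ pow_mem (mem_zpowers _) _
  rw [pow_eq_pow_mod _ hw3] at hm
  rcases (show (i + l * 2) % 3 = 1 ∨ (i + l * 2) % 3 = 2 by omega) with q | q <;> rw [q] at hm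
  · rwa [pow_one] at hm
  · rw [CentY.wsq] at hm
    exact inv_mem_iff.mp hm

/-- `C_M(y)` contains `r` of order three permuting `t`, `j`, `t j` cyclically. -/
theorem exists_r : ∃ r ∈ f.M, r * (f.z * f.w) = f.z * f.w * r ∧ r ^ 3 = 1 ∧
    r * f.t * r⁻¹ = f.j ∧ r * f.j * r⁻¹ = f.t * f.j := by
  haveI : Fact (Nat.Prime 3) := ⟨Nat.prime_three⟩
  obtain ⟨-, π, hπ⟩ := f.toLocalZ.t_mem_and_proj
  obtain ⟨r₀, hr₀, hr₀y, hr₀3, hr₀t, hr₀j⟩ := exists_cycle f π hπ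
  have hcy : ∀ {a}, a ∈ f.J → Commute a (f.z * f.w) := fun ha => f.hJcomm _ ha _ (y_mem_J f)
  have hti : f.t⁻¹ = f.t := inv_eq_of_mul_eq_one_right (CentY.tt f)
  have hji : f.j⁻¹ = f.j := CentY.j_inv f
  -- first move `t` to `j`
  set a := f.j * (r₀ * f.t * r₀⁻¹) with ha
  have haJ : a ∈ f.J := by
    rw [← π.ker_map _ (mul_mem f.j_mem_M (mul_mem (mul_mem hr₀ f.t_mem_M) (inv_mem hr₀))),
      π.map_mul' _ f.j_mem_M _ (mul_mem (mul_mem hr₀ f.t_mem_M) (inv_mem hr₀)),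
      π.map_conj hr₀ f.t_mem_M, hπ, hr₀t, ← π.map_mul' _ f.j_mem_M _ f.j_mem_M, f.j_sq, π.map_one]
  have hsq : r₀ * f.t * r₀⁻¹ * (r₀ * f.t * r₀⁻¹) = 1 := by
    rw [show r₀ * f.t * r₀⁻¹ * (r₀ * f.t * r₀⁻¹) = r₀ * (f.t * f.t) * r₀⁻¹ by group, CentY.tt]
    group
  have hja : f.j * a * f.j = a⁻¹ := by
    refine eq_inv_of_mul_eq_one_left ?_
    calc f.j * a * f.j * a = (f.j * f.j) * (r₀ * f.t * r₀⁻¹) * (f.j * f.j) *
          (r₀ * f.t * r₀⁻¹) := by rw [ha]; group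
      _ = 1 := by rw [f.j_sq, one_mul, mul_one, hsq]
  set r₁ := a⁻¹ * r₀ with hr₁
  have hr₁M : r₁ ∈ f.M := mul_mem (inv_mem (f.hJM haJ)) hr₀
  have hr₁y : Commute r₁ (f.z * f.w) := (hcy (inv_mem haJ)).mul_left hr₀y
  have hr₁t : r₁ * f.t * r₁⁻¹ = f.j := by
    have e : r₀ * f.t * r₀⁻¹ = f.j * a := by rw [ha, ← mul_assoc, f.j_sq, one_mul]
    have hja' : f.j * a = a⁻¹ * f.j := by rw [← hja, mul_assoc (f.j * a), f.j_sq, mul_one]
    have ha3 : a * a * a = 1 := by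
      have := f.hJexp _ haJ
      rwa [pow_succ, pow_two] at this
    calc r₁ * f.t * r₁⁻¹ = a⁻¹ * (r₀ * f.t * r₀⁻¹) * a := by rw [hr₁]; group
      _ = (a * a * a) * (a⁻¹ * (a⁻¹ * f.j)) * a := by rw [e, hja', ha3, one_mul]
      _ = a * (f.j * a) := by group
      _ = f.j := by rw [hja', mul_inv_cancel_left]
  -- then move `j` to `t * j`
  have hπr₁ : π.map r₁ = π.map r₀ := by
    rw [hr₁, π.map_mul' _ (inv_mem (f.hJM haJ)) _ hr₀,
      (π.ker_map _ (inv_mem (f.hJM haJ))).mpr (inv_mem haJ), one_mul]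
  set X := r₁ * f.j * r₁⁻¹ with hX
  have hXM : X ∈ f.M := mul_mem (mul_mem hr₁M f.j_mem_M) (inv_mem hr₁M)
  set b := f.t * f.j * X with hb
  have htj2 : f.t * f.j * (f.t * f.j) = 1 := by
    rw [show f.t * f.j * (f.t * f.j) = f.t * (f.j * f.t) * f.j by group, f.jt,
      show f.t * (f.t * f.j) * f.j = (f.t * f.t) * (f.j * f.j) by group, CentY.tt, f.j_sq, one_mul]
  have hbJ : b ∈ f.J := by
    rw [← π.ker_map _ (mul_mem (mul_mem f.t_mem_M f.j_mem_M) hXM),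
      π.map_mul' _ (mul_mem f.t_mem_M f.j_mem_M) _ hXM, hX, π.map_conj hr₁M f.j_mem_M, hπr₁,
      hr₀j, π.map_mul' _ f.t_mem_M _ f.j_mem_M, hπ]
    rw [← hπ, ← π.map_mul' _ f.t_mem_M _ f.j_mem_M,
      ← π.map_mul' _ (mul_mem f.t_mem_M f.j_mem_M) _ (mul_mem f.t_mem_M f.j_mem_M), htj2,
      π.map_one]
  have htjj : Commute (f.t * f.j) f.j :=
    (show Commute f.t f.j from f.jt.symm).mul_left (Commute.refl f.j)
  have hXj : Commute X f.j := by
    have e : Commute (r₁ * f.j * r₁⁻¹) (r₁ * f.t * r₁⁻¹) := by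
      show _ = _
      rw [conj_mul, conj_mul, f.jt]
    rwa [hr₁t] at e
  have hbj : Commute b f.j := htjj.mul_left hXj
  have hXX : X * X = 1 := by rw [hX, conj_mul, f.j_sq]; group
  have hbinv : f.t * f.j * b * (f.t * f.j) = b⁻¹ := by
    refine eq_inv_of_mul_eq_one_left ?_
    calc f.t * f.j * b * (f.t * f.j) * b =
          (f.t * f.j * (f.t * f.j)) * X * ((f.t * f.j * (f.t * f.j)) * X) := by rw [hb]; group
      _ = 1 := by rw [htj2, one_mul, hXX]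
  set r := b⁻¹ * r₁ with hr
  have hrM : r ∈ f.M := mul_mem (inv_mem (f.hJM hbJ)) hr₁M
  have hry : Commute r (f.z * f.w) := (hcy (inv_mem hbJ)).mul_left hr₁y
  have hrt : r * f.t * r⁻¹ = f.j := by
    calc r * f.t * r⁻¹ = b⁻¹ * (r₁ * f.t * r₁⁻¹) * b := by rw [hr]; group
      _ = f.j := by rw [hr₁t, hbj.inv_left.eq, inv_mul_cancel_right]
  have hrj : r * f.j * r⁻¹ = f.t * f.j := by
    have e : X = f.t * f.j * b := by rw [hb, ← mul_assoc, htj2, one_mul]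
    have hb3 : b * b = b⁻¹ := (pow_cube_exp (f.hJexp _ hbJ)).symm
    have e2 : b⁻¹ * (f.t * f.j) = f.t * f.j * b := by
      rw [← hbinv, mul_assoc (f.t * f.j * b), htj2, mul_one]
    calc r * f.j * r⁻¹ = b⁻¹ * X * b := by rw [hr, hX]; group
      _ = (b⁻¹ * (f.t * f.j)) * (b * b) := by rw [e]; group
      _ = f.t * f.j := by rw [e2, hb3, mul_inv_cancel_right]
  refine ⟨r, hrM, hry.eq, ?_, hrt, hrj⟩
  have h3J : r ^ 3 ∈ f.J := by
    rw [← π.ker_map _ (pow_mem hrM 3), π.map_pow hrM, hr,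
      π.map_mul' _ (inv_mem (f.hJM hbJ)) _ hr₁M,
      (π.ker_map _ (inv_mem (f.hJM hbJ))).mpr (inv_mem hbJ), one_mul, hπr₁, hr₀3]
  have hrtj : r * (f.t * f.j) * r⁻¹ = f.t := by
    rw [← conj_mul, hrt, hrj, ← mul_assoc, f.jt, mul_assoc, f.j_sq, mul_one]
  have h3t : Commute (r ^ 3) f.t := by
    refine mul_inv_eq_iff_eq_mul.mp ?_
    calc r ^ 3 * f.t * (r ^ 3)⁻¹ = r * (r * (r * f.t * r⁻¹) * r⁻¹) * r⁻¹ := by
          simp [pow_succ, mul_assoc]
      _ = f.t := by rw [hrt, hrj, hrtj]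
  have h3j : Commute (r ^ 3) f.j := by
    rw [← hrt]
    exact (((Commute.refl r).pow_left 3).mul_right h3t).mul_right
      ((Commute.refl r).pow_left 3).inv_right
  obtain ⟨i, hi⟩ := mem_axis f h3J h3t.eq h3j.eq
  by_contra hne
  have h9 : r ^ 3 ^ 2 = 1 := by
    rw [show (3 : ℕ) ^ 2 = 3 * 3 by norm_num, pow_mul, f.hJexp _ h3J]
  have hp : IsPGroup 3 (zpowers r) := by
    obtain ⟨n, -, hn⟩ := (Nat.dvd_prime_pow Nat.prime_three).1 (orderOf_dvd_of_pow_eq_one h9)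
    exact IsPGroup.of_card (n := n) (by rw [Nat.card_zpowers, hn])
  obtain ⟨T, hT⟩ := hp.exists_le_sylow
  obtain ⟨g, hg⟩ := MulAction.exists_smul_eq G T f.S
  have hgr : g * r * g⁻¹ ∈ (f.S : Subgroup G) := by
    rw [← hg]; exact ⟨r, hT (mem_zpowers r), rfl⟩
  have hZ := cube_mem_Z f hgr
  rw [conj_pow, hi] at hZ
  have hy3 := y_cube f
  rw [pow_eq_pow_mod i hy3] at hZ hi
  rcases (show i % 3 = 0 ∨ i % 3 = 1 ∨ i % 3 = 2 by omega) with h | h | h <;> rw [h] at hZ hi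
  · exact hne (by rw [hi, pow_zero])
  · rw [pow_one] at hZ
    exact y_not_conj_Z f hZ
  · refine y_not_conj_Z f (g := g) ?_
    have e : f.z * f.w = ((f.z * f.w) ^ 2) ^ 2 := by
      rw [← pow_mul, pow_eq_pow_mod _ hy3, show 2 * 2 % 3 = 1 by norm_num, pow_one]
    rw [e, ← conj_pow]
    exact pow_mem hZ 2

section withR

variable {r : G} (hrM : r ∈ f.M) (hry : r * (f.z * f.w) = f.z * f.w * r) (hr3 : r ^ 3 = 1)
  (hrt : r * f.t * r⁻¹ = f.j) (hrj : r * f.j * r⁻¹ = f.t * f.j)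

include hrM hry hr3 hrt hrj

/-- `N(J) ∩ C(y)` permutes the axes. -/
theorem perm {g : G} (hg : g ∈ normalizer (f.J : Set G))
    (hgy : g * (f.z * f.w) = f.z * f.w * g) :
    ∃ k < 3, ∃ i : ℕ, g * f.z * g⁻¹ = r ^ k * f.z * (r ^ k)⁻¹ * (f.z * f.w) ^ i ∨
      g * f.z * g⁻¹ = r ^ k * f.z⁻¹ * (r ^ k)⁻¹ * (f.z * f.w) ^ i := by
  obtain ⟨-, π, hπ⟩ := f.toLocalZ.t_mem_and_proj
  set τ := g * f.t * g⁻¹ with hτ
  have hτM : τ ∈ f.M := f.toHyp.conj_mem_M hg f.t_mem_M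
  have hτy : τ * (f.z * f.w) = f.z * f.w * τ :=
    (((show Commute g _ from hgy).mul_left (y_t f)).mul_left
      (show Commute g _ from hgy).inv_left).eq
  have hτ2 : τ * τ = 1 := by
    rw [hτ, conj_mul, CentY.tt]; group
  have hτJ : τ ∉ f.J := fun h => t_not_J f ((mem_normalizer_iff.mp hg f.t).mpr h)
  have hrtj : r * (f.t * f.j) * r⁻¹ = f.t := by
    rw [← conj_mul, hrt, hrj, ← mul_assoc, f.jt, mul_assoc, f.j_sq, mul_one]
  -- the image of `τ` is one of the three involutions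
  obtain ⟨k, hk, hd⟩ : ∃ k < 3, r ^ k * f.t * (r ^ k)⁻¹ * τ ∈ f.J := by
    have key : ∀ ρ ∈ f.M, ρ * ρ = 1 → π.map τ = π.map ρ → ρ * τ ∈ f.J := fun ρ hρ h2 e => by
      rw [← π.ker_map _ (mul_mem hρ hτM), π.map_mul' _ hρ _ hτM, e, ← π.map_mul' _ hρ _ hρ, h2,
        π.map_one]
    rcases cases_image f π hπ hτM hτy with h | h | h | h | h
    · exact absurd ((π.ker_map _ hτM).mp h) hτJ
    · refine ⟨0, by norm_num, ?_⟩
      rw [pow_zero, one_mul, inv_one, mul_one]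
      exact key _ f.t_mem_M (CentY.tt f) (h.trans hπ.symm)
    · refine ⟨1, by norm_num, ?_⟩
      rw [pow_one, hrt]
      exact key _ f.j_mem_M f.j_sq h
    · refine ⟨2, by norm_num, ?_⟩
      rw [pow_two, show r * r * f.t * (r * r)⁻¹ = r * (r * f.t * r⁻¹) * r⁻¹ by group, hrt, hrj]
      refine key _ (mul_mem f.t_mem_M f.j_mem_M) ?_ ?_
      · rw [show f.t * f.j * (f.t * f.j) = f.t * (f.j * f.t) * f.j by group, f.jt,
          show f.t * (f.t * f.j) * f.j = (f.t * f.t) * (f.j * f.j) by group, CentY.tt, f.j_sq,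
          one_mul]
      · rw [h, π.map_mul' _ f.t_mem_M _ f.j_mem_M, hπ]
    · exfalso
      apply hτJ
      rw [← π.ker_map _ hτM]
      refine eq_one_of_mul_self h.1 ?_
      rw [← π.map_mul' _ hτM _ hτM, hτ2, π.map_one]
  refine ⟨k, hk, ?_⟩
  set p := r ^ k with hp
  have hpN : p ∈ normalizer (f.J : Set G) := f.M_le_normJ (pow_mem hrM k)
  have hpy : Commute p (f.z * f.w) := (show Commute r _ from hry).pow_left k
  set e := g * f.z * g⁻¹ with he
  have heJ : e ∈ f.J := (mem_normalizer_iff.mp hg _).mp (CentY.z_mem_J f)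
  have heτ : Commute e τ := by
    show _ = _
    rw [he, hτ, conj_mul, conj_mul, CentY.zt]
  have hep : Commute e (p * f.t * p⁻¹) := by
    have := (show Commute e (p * f.t * p⁻¹ * τ) from f.hJcomm _ heJ _ hd).mul_right heτ.inv_right
    rwa [mul_inv_cancel_right] at this
  set e' := p⁻¹ * e * p with he'
  have hee : p * e' * p⁻¹ = e := by rw [he']; group
  have he'J : e' ∈ f.J := by
    have := (mem_normalizer_iff.mp (inv_mem hpN) e).mp heJ
    rwa [inv_inv] at this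
  have he't : e' * f.t = f.t * e' := by
    calc e' * f.t = p⁻¹ * (e * (p * f.t * p⁻¹)) * p := by rw [he']; group
      _ = f.t * e' := by rw [hep.eq, he']; group
  have he'D : p⁻¹ * g * f.z * (p⁻¹ * g)⁻¹ ∈ closure ({f.z, f.w} : Set G) := by
    rw [show p⁻¹ * g * f.z * (p⁻¹ * g)⁻¹ = e' by rw [he', he]; group]
    exact (f.D_eq e').mpr ⟨he'J, he't⟩
  have hback : ∀ v, p⁻¹ * g * f.z * (p⁻¹ * g)⁻¹ = v → e = p * v * p⁻¹ := fun v h => by
    rw [← h, he]; group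
  have hzw : Commute f.z f.w := CentY.zw f
  have hpi : ∀ n : ℕ, ∀ v : G, p * (v * (f.z * f.w) ^ n) * p⁻¹ =
      p * v * p⁻¹ * (f.z * f.w) ^ n := fun n v => by
    rw [mul_assoc (p * v) p⁻¹, (hpy.inv_left.pow_right n).eq]; group
  rcases CentY.zclass f he'D with h | h | h | h
  · exact ⟨0, Or.inl (by rw [pow_zero, mul_one]; exact hback _ h)⟩
  · exact ⟨0, Or.inr (by rw [pow_zero, mul_one]; exact hback _ h)⟩
  · refine ⟨1, Or.inr ?_⟩
    rw [← hpi, hback _ h, pow_one, inv_mul_cancel_left]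
  · refine ⟨2, Or.inl ?_⟩
    rw [← hpi, hback _ h, pow_two]
    congr 2
    have hy3 := y_cube f
    rw [pow_succ, pow_two] at hy3
    calc f.w⁻¹ = (f.z * f.w)⁻¹ * f.z := by rw [mul_inv_rev, inv_mul_cancel_right]
      _ = f.z * (f.z * f.w)⁻¹ := ((Commute.refl f.z).mul_left hzw.symm).inv_left.eq
      _ = f.z * (f.z * f.w * (f.z * f.w)) := by rw [inv_eq_of_mul_eq_one_left hy3]

end withR

/-- Conjugates of `z` in `J ∩ Q` lie in `Z`. -/
theorem conj_mem_Z {h : G} (he : h * f.z * h⁻¹ ∈ f.J ⊓ f.Q) : h * f.z * h⁻¹ ∈ f.Z := by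
  classical
  haveI : Fact (Nat.Prime 3) := ⟨Nat.prime_three⟩
  set e := h * f.z * h⁻¹ with hedef
  obtain ⟨-, π, hπ⟩ := f.toLocalZ.t_mem_and_proj
  -- an element of `Q ∖ J` centralising `e`
  obtain ⟨x, hxQ, hxJ, hxe⟩ : ∃ x ∈ f.Q, x ∉ f.J ∧ x * e = e * x := by
    by_contra hcon
    push Not at hcon
    have hle : f.Q ⊓ centralizer ({e} : Set G) ≤ f.J ⊓ f.Q := fun a ha =>
      ⟨by_contra fun hJ => hcon a ha.1 hJ (mem_centralizer_singleton_iff.mp ha.2), ha.1⟩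
    have h1 := card_le_mul f.Q (f.Q ⊓ centralizer ({e} : Set G)) (β := f.Z)
      (fun a => ⟨(a : G) * e * (a : G)⁻¹ * e⁻¹, f.Q_comm _ a.2 _ he.2⟩) fun a b q => by
        refine ⟨f.Q.mul_mem (f.Q.inv_mem a.2) b.2, mem_centralizer_singleton_iff.mpr ?_⟩
        have q' : (a : G) * e * (a : G)⁻¹ = (b : G) * e * (b : G)⁻¹ :=
          mul_right_cancel (congrArg Subtype.val q)
        calc (a : G)⁻¹ * b * e = (a : G)⁻¹ * ((b : G) * e * (b : G)⁻¹) * b := by group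
          _ = e * ((a : G)⁻¹ * b) := by rw [← q']; group
    have h2 := Subgroup.card_le_of_le hle
    rw [f.toHyp.card_Z, f.hQcard] at h1
    rw [f.JQ_card] at h2
    omega
  set P := f.J ⊔ zpowers x with hP
  have hxS := f.Q_le_S hxQ
  have hPS : P ≤ (f.S : Subgroup G) := sup_le f.hJS (zpowers_le.mpr hxS)
  set C := centralizer ({e} : Set G) with hC
  have hPC : P ≤ C := sup_le (fun a ha => mem_centralizer_singleton_iff.mpr
      (f.hJcomm _ ha _ he.1)) (zpowers_le.mpr (mem_centralizer_singleton_iff.mpr hxe))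
  have hSC : ((h • f.S : Sylow 3 G) : Subgroup G) ≤ C := by
    rintro _ ⟨s, hs, rfl⟩
    refine mem_centralizer_singleton_iff.mpr ?_
    show h * s * h⁻¹ * e = e * (h * s * h⁻¹)
    rw [hedef, conj_mul, conj_mul, f.toLocalZ.z_comm_S hs]
  have hPp : IsPGroup 3 (P.subgroupOf C) :=
    (f.S.2.to_le hPS).of_equiv (subgroupOfEquivOfLe hPC).symm
  obtain ⟨R, hR⟩ := hPp.exists_le_sylow
  obtain ⟨c, hc⟩ := MulAction.exists_smul_eq C ((h • f.S : Sylow 3 G).subtype hSC) R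
  set g := (c : G) * h with hg
  have hgz : g * f.z * g⁻¹ = e := by
    rw [hg, show (c : G) * h * f.z * ((c : G) * h)⁻¹ = (c : G) * e * (c : G)⁻¹ by
      rw [hedef]; group, mem_centralizer_singleton_iff.mp c.2, mul_inv_cancel_right]
  have hin : ∀ q ∈ P, g⁻¹ * q * g ∈ (f.S : Subgroup G) := by
    intro q hq
    have hqR : (⟨q, hPC hq⟩ : C) ∈ R := hR hq
    rw [← hc] at hqR
    obtain ⟨s, hs, hsq⟩ := hqR
    obtain ⟨s', hs', hss⟩ := (show (s : G) ∈ ((h • f.S : Sylow 3 G) : Subgroup G) from hs)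
    have e1 : q = (c : G) * (s : G) * (c : G)⁻¹ := (congrArg Subtype.val hsq).symm
    have e2 : (s : G) = h * s' * h⁻¹ := hss.symm
    rw [e1, e2, show g⁻¹ * ((c : G) * (h * s' * h⁻¹) * (c : G)⁻¹) * g = s' by rw [hg]; group]
    exact hs'
  have hgN : g ∈ normalizer (f.J : Set G) := by
    have := f.toHyp.conj_J_of_le (g := g⁻¹) fun a ha => by
      rw [inv_inv]; exact hin a (mem_sup_left ha)
    exact inv_inv g ▸ inv_mem this
  have hSM : ∀ a ∈ (f.S : Subgroup G), a ∈ f.M := f.S_le_M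
  have hx' := hin x (mem_sup_right (mem_zpowers x))
  have hπx : π.map x ≠ 1 := fun q => hxJ ((π.ker_map _ (hSM _ hxS)).mp q)
  have hxP0 := (π.syl_map _ (hSM _ hxS)).mpr hxS
  -- `g S g⁻¹ = S`
  have hgS : ∀ a ∈ (f.S : Subgroup G), g * a * g⁻¹ ∈ (f.S : Subgroup G) := by
    intro a ha
    have hqM : g * a * g⁻¹ ∈ f.M := f.toHyp.conj_mem_M hgN (hSM _ ha)
    rw [← π.syl_map _ hqM]
    have haP0 := (π.syl_map _ (hSM _ ha)).mpr ha
    refine six_P0_cent _ hxP0 (π.sign_map _) hπx _ ?_ (π.sign_map _) ?_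
    · set x' := g⁻¹ * x * g with hx'd
      have hcomm : a * x' * (x' * a)⁻¹ ∈ f.J := by
        rw [← π.ker_map _ (mul_mem (mul_mem (hSM _ ha) (hSM _ hx'))
          (inv_mem (mul_mem (hSM _ hx') (hSM _ ha)))), π.map_mul' _ (mul_mem (hSM _ ha) (hSM _ hx'))
          _ (inv_mem (mul_mem (hSM _ hx') (hSM _ ha))), π.map_inv (mul_mem (hSM _ hx') (hSM _ ha)),
          π.map_mul' _ (hSM _ ha) _ (hSM _ hx'), π.map_mul' _ (hSM _ hx') _ (hSM _ ha),
          six_P0_comm _ haP0 (π.sign_map _) _ ((π.syl_map _ (hSM _ hx')).mpr hx') (π.sign_map _),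
          mul_inv_cancel]
      have h2 := (mem_normalizer_iff.mp hgN _).mp hcomm
      rw [show g * (a * x' * (x' * a)⁻¹) * g⁻¹ = g * a * g⁻¹ * x * (x * (g * a * g⁻¹))⁻¹ by
        rw [hx'd]; group] at h2
      rw [← π.ker_map _ (mul_mem (mul_mem hqM (hSM _ hxS))
        (inv_mem (mul_mem (hSM _ hxS) hqM))), π.map_mul' _ (mul_mem hqM (hSM _ hxS)) _
        (inv_mem (mul_mem (hSM _ hxS) hqM)), π.map_inv (mul_mem (hSM _ hxS) hqM),
        π.map_mul' _ hqM _ (hSM _ hxS), π.map_mul' _ (hSM _ hxS) _ hqM, mul_inv_eq_one] at h2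
      exact h2
    · rw [← π.map_pow hqM, conj_pow, π.ker_map _ (f.toHyp.conj_mem_M hgN (pow_mem (hSM _ ha) 3))]
      refine (mem_normalizer_iff.mp hgN _).mp ?_
      rw [← π.ker_map _ (pow_mem (hSM _ ha) 3), π.map_pow (hSM _ ha)]
      exact (P0_facts _ haP0 (π.sign_map _)).1
  have hmap : (f.S : Subgroup G).map (MulAut.conj g).toMonoidHom = (f.S : Subgroup G) :=
    Subgroup.eq_of_le_of_card_ge (by rintro _ ⟨a, ha, rfl⟩; exact hgS a ha)
      (by rw [card_map_of_injective (MulAut.conj g).injective])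
  rw [← hgz, f.hZ]
  refine ⟨hgS _ (f.hJS (CentY.z_mem_J f)), mem_centralizer_iff.mpr fun s hs => ?_⟩
  rw [← hmap] at hs
  obtain ⟨a, ha, rfl⟩ := hs
  show g * a * g⁻¹ * (g * f.z * g⁻¹) = g * f.z * g⁻¹ * (g * a * g⁻¹)
  rw [conj_mul, conj_mul, f.toLocalZ.z_comm_S ha]

/-- An element centralising `z` and `v ∈ (J ∩ Q) ∖ Z` normalises `J`. -/
theorem cent_pair {h v : G} (hz : h * f.z = f.z * h) (hv : v ∈ f.J ⊓ f.Q) (hvZ : v ∉ f.Z)
    (hhv : h * v = v * h) : h ∈ normalizer (f.J : Set G) := by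
  have hN : ∀ {a}, a * f.z = f.z * a → a ∈ normalizer (f.Z : Set G) := fun ha =>
    f.toLocalZ.cent_z_normZ ha
  obtain ⟨a, ha, n, hnN, hnt, hh⟩ := f.normZ_split h (hN hz)
  have haz : Commute a f.z := f.toLocalZ.Q_comm_z ha
  have hnz : Commute n f.z := by
    have := haz.inv_left.mul_left (show Commute h f.z from hz)
    rwa [hh, inv_mul_cancel_left] at this
  have hhfix : h * v * h⁻¹ * v⁻¹ ∈ f.Z := by
    rw [hhv, mul_inv_cancel_right, mul_inv_cancel]; exact one_mem _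
  have hhfix' : h⁻¹ * v * h⁻¹⁻¹ * v⁻¹ ∈ f.Z := by
    rw [(show Commute h v from hhv).inv_left.eq, mul_inv_cancel_right, mul_inv_cancel]
    exact one_mem _
  have hqfix : ∀ b ∈ f.Q, b * v * b⁻¹ * v⁻¹ ∈ f.Z := fun b hb => f.Q_comm _ hb _ hv.2
  have hnfix : n * v * n⁻¹ * v⁻¹ ∈ f.Z := by
    rw [show n = a⁻¹ * h by rw [hh, inv_mul_cancel_left]]
    exact f.toHyp.fix_mul (inv_mem (hN haz.eq)) (hqfix _ (inv_mem ha)) hhfix
  have hnfix' : n⁻¹ * v * n⁻¹⁻¹ * v⁻¹ ∈ f.Z := by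
    rw [show n⁻¹ = h⁻¹ * a by rw [hh]; group]
    exact f.toHyp.fix_mul (inv_mem (hN hz)) hhfix' (hqfix _ ha)
  have hwfix : f.w * v * f.w⁻¹ * v⁻¹ ∈ f.Z := by
    rw [f.hJcomm _ f.w_mem_J _ hv.1, mul_inv_cancel_right, mul_inv_cancel]; exact one_mem _
  have hgfix : n * f.w * n⁻¹ * v * (n * f.w * n⁻¹)⁻¹ * v⁻¹ ∈ f.Z :=
    f.toHyp.fix_mul (mul_mem hnN (hN (f.K_z _ f.w_mem_K)))
      (f.toHyp.fix_mul hnN hnfix hwfix) hnfix'
  have hgK : n * f.w * n⁻¹ ∈ f.K :=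
    (mem_normalizer_iff.mp (f.K_normal n hnN hnt) f.w).mp f.w_mem_K
  let A : Subgroup G :=
    { carrier := {g | g ∈ f.K ∧ g * v * g⁻¹ * v⁻¹ ∈ f.Z}
      one_mem' := ⟨one_mem _, by simp⟩
      mul_mem' := fun {p q} hp hq =>
        ⟨mul_mem hp.1 hq.1, f.toHyp.fix_mul (hN (f.K_z _ hp.1)) hp.2 hq.2⟩
      inv_mem' := fun {p} hp => ⟨inv_mem hp.1, by
        have h1 : p⁻¹ * v * p⁻¹⁻¹ * v⁻¹ = p⁻¹ * (p * v * p⁻¹ * v⁻¹)⁻¹ * p⁻¹⁻¹ := by group
        rw [h1]
        exact (mem_normalizer_iff.mp (inv_mem (hN (f.K_z _ hp.1))) _).mp (inv_mem hp.2)⟩ }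
  set B := (A.subgroupOf f.K).map f.eK.toMonoidHom with hB
  have hmemB : ∀ g (hg : g ∈ A), f.eK ⟨g, hg.1⟩ ∈ B := fun g hg => ⟨⟨g, hg.1⟩, hg, rfl⟩
  have hneg : (-1 : Matrix.SpecialLinearGroup (Fin 2) (ZMod 5)) ∉ B := by
    rintro ⟨q, hq, hq1⟩
    rw [show f.eK.toMonoidHom q = f.eK q from rfl, ← f.toLocalZ.eK_t] at hq1
    obtain rfl := f.eK.injective hq1
    have hqZ : f.t * v * f.t⁻¹ * v⁻¹ ∈ f.Z := (show f.t ∈ A from hq).2
    have h2 := mul_mem (inv_mem hqZ) (f.t_inv v hv.2)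
    rw [show (f.t * v * f.t⁻¹ * v⁻¹)⁻¹ * (f.t * v * f.t⁻¹ * v) = v * v by group] at h2
    apply hvZ
    have h3 := mul_mem h2 h2
    have hv3 := f.hJexp _ hv.1
    rw [pow_succ, pow_two] at hv3
    rwa [← mul_assoc (v * v) v v, hv3, one_mul] at h3
  have hw3 : f.eK ⟨f.w, f.w_mem_K⟩ ^ 3 = 1 := by
    rw [← map_pow, show (⟨f.w, f.w_mem_K⟩ : f.K) ^ 3 = 1 from
      Subtype.ext (f.hJexp _ f.w_mem_J), map_one]
  have hw1 : f.eK ⟨f.w, f.w_mem_K⟩ ≠ 1 := fun q => by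
    have h' := congrArg Subtype.val (f.eK.injective (q.trans (map_one f.eK).symm))
    have ho := f.w_order
    rw [show f.w = 1 from h', orderOf_one] at ho
    omega
  have hback : ∀ p : f.K, f.eK ⟨_, hgK⟩ = f.eK p → n * f.w * n⁻¹ = p := fun p q =>
    congrArg Subtype.val (f.eK.injective q)
  have hgw : n * f.w * n⁻¹ ∈ (f.S : Subgroup G) := by
    have hwS := f.hJS f.w_mem_J
    rcases sl_odd B hw3 hw1 (hmemB f.w ⟨f.w_mem_K, hwfix⟩) (hmemB _ ⟨hgK, hgfix⟩) hneg with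
      q | q | q
    · rw [hback 1 (q.trans (map_one f.eK).symm)]; exact one_mem _
    · rw [hback _ q]; exact hwS
    · rw [hback _ (q.trans (map_mul f.eK _ _).symm)]; exact mul_mem hwS hwS
  refine f.toLocalZ.normJ_of_conj_S fun s hs =>
    f.toLocalZ.K_conj_S hz (fun s hs => S_eq f hs) ?_ hs
  rw [hh, show a * n * f.w * (a * n)⁻¹ = a * (n * f.w * n⁻¹) * a⁻¹ by group]
  exact mul_mem (mul_mem (f.Q_le_S ha) hgw) (inv_mem (f.Q_le_S ha))

/-- An element of `Q` commuting with `v ∈ J ∖ Q` lies in `J`. -/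
theorem mem_J_of_cent {v a : G} (hv : v ∈ f.J) (hvQ : v ∉ f.Q) (ha : a ∈ f.Q)
    (hav : a * v = v * a) : a ∈ f.J := by
  set F := f.toHyp.fixQ v (f.toHyp.S_le_normZ (f.hJS hv))
  have hle : f.J ⊓ f.Q ≤ F := fun b hb => ⟨hb.2, by
    rw [f.hJcomm _ hv b hb.1, mul_inv_cancel_right, mul_inv_cancel]; exact one_mem _⟩
  have heq := eq_of_le_of_card_ge hle
    (by rw [f.JQ_card]; exact f.toHyp.card_fixQ_le (f.hJS hv) hvQ)
  have hmem : a ∈ F := ⟨ha, by
    rw [← hav, mul_inv_cancel_right, mul_inv_cancel]; exact one_mem _⟩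
  rw [← heq] at hmem
  exact hmem.1

section withR2

variable {r : G} (hrM : r ∈ f.M) (hry : r * (f.z * f.w) = f.z * f.w * r) (hr3 : r ^ 3 = 1)
  (hrt : r * f.t * r⁻¹ = f.j) (hrj : r * f.j * r⁻¹ = f.t * f.j)

include hrM hry hr3 hrt hrj

/-- `C_J(r)` lies in `⟨s, y⟩`. -/
theorem fixed_r {e : G} (he : e ∈ f.J) (her : r * e = e * r) :
    e ∈ closure ({f.z * (r * f.z * r⁻¹) * (r * r * f.z * (r * r)⁻¹), f.z * f.w} : Set G) := by
  have hNM := f.M_le_normJ
  have hmem : ∀ {m a}, m ∈ f.M → a ∈ f.J → m * a * m⁻¹ ∈ f.J := fun hm ha =>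
    (mem_normalizer_iff.mp (hNM hm) _).mp ha
  have hti : f.t⁻¹ = f.t := inv_eq_of_mul_eq_one_right (CentY.tt f)
  have hre : r * e * r⁻¹ = e := by rw [her, mul_inv_cancel_right]
  set A := f.t * e * f.t⁻¹ with hA
  set B := f.j * e * f.j⁻¹ with hB
  set C := f.t * f.j * e * (f.t * f.j)⁻¹ with hC
  have hAJ : A ∈ f.J := hmem f.t_mem_M he
  have hBJ : B ∈ f.J := hmem f.j_mem_M he
  have hCJ : C ∈ f.J := hmem (mul_mem f.t_mem_M f.j_mem_M) he
  have hc : ∀ {a b}, a ∈ f.J → b ∈ f.J → a * b = b * a := fun ha hb => f.hJcomm _ ha _ hb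
  have htA : f.t * A * f.t⁻¹ = e := by
    rw [hA, show f.t * (f.t * e * f.t⁻¹) * f.t⁻¹ = (f.t * f.t) * e * (f.t * f.t)⁻¹ by group,
      CentY.tt]; group
  have htB : f.t * B * f.t⁻¹ = C := by rw [hB, hC]; group
  have htC : f.t * C * f.t⁻¹ = B := by
    rw [hC, show f.t * (f.t * f.j * e * (f.t * f.j)⁻¹) * f.t⁻¹ =
      (f.t * f.t) * (f.j * e * f.j⁻¹) * (f.t * f.t)⁻¹ by group, CentY.tt, hB]; group
  have hjA : f.j * A * f.j⁻¹ = C := by
    rw [hA, hC, ← f.jt]; group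
  have hjB : f.j * B * f.j⁻¹ = e := by
    rw [hB, show f.j * (f.j * e * f.j⁻¹) * f.j⁻¹ = (f.j * f.j) * e * (f.j * f.j)⁻¹ by group,
      f.j_sq]; group
  have hjC : f.j * C * f.j⁻¹ = A := by
    rw [hC, ← f.jt, show f.j * (f.j * f.t * e * (f.j * f.t)⁻¹) * f.j⁻¹ =
      (f.j * f.j) * (f.t * e * f.t⁻¹) * (f.j * f.j)⁻¹ by group, f.j_sq, hA]; group
  set d := e * A with hd
  have hdJ : d ∈ f.J := mul_mem he hAJ
  have hdt : d * f.t = f.t * d := by
    refine (mul_inv_eq_iff_eq_mul.mp ?_).symm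
    rw [hd, ← conj_mul, htA, ← hA]; exact hc hAJ he
  set N := e * A * (B * C) with hN
  have hNJ : N ∈ f.J := mul_mem hdJ (mul_mem hBJ hCJ)
  have hNt : N * f.t = f.t * N := by
    refine (mul_inv_eq_iff_eq_mul.mp ?_).symm
    rw [hN, show f.t * (e * A * (B * C)) * f.t⁻¹ = f.t * e * f.t⁻¹ * (f.t * A * f.t⁻¹) *
      ((f.t * B * f.t⁻¹) * (f.t * C * f.t⁻¹)) by group, htA, htB, htC, ← hA, hc hAJ he, hc hCJ hBJ]
  have hNj : N * f.j = f.j * N := by
    refine (mul_inv_eq_iff_eq_mul.mp ?_).symm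
    rw [hN, show f.j * (e * A * (B * C)) * f.j⁻¹ = f.j * e * f.j⁻¹ * (f.j * A * f.j⁻¹) *
      ((f.j * B * f.j⁻¹) * (f.j * C * f.j⁻¹)) by group, hjA, hjB, hjC, ← hB,
      hc (mul_mem hBJ hCJ) (mul_mem he hAJ)]
  obtain ⟨n, hn⟩ := mem_axis f hNJ hNt hNj
  obtain ⟨i, l, -, hl, hil⟩ := CentY.exists_exp f ((f.D_eq d).mpr ⟨hdJ, hdt⟩)
  set y := f.z * f.w with hy
  set z1 := r * f.z * r⁻¹ with hz1
  set z2 := r * r * f.z * (r * r)⁻¹ with hz2
  set s := f.z * z1 * z2 with hs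
  set P := closure ({s, y} : Set G) with hP
  have hyP : y ∈ P := subset_closure (by simp)
  have hsP : s ∈ P := subset_closure (by simp)
  -- `d = z ^ c * y ^ l`
  obtain ⟨c, hdc⟩ : ∃ c : ℕ, d = f.z ^ c * y ^ l := by
    refine ⟨i + (3 - l), ?_⟩
    rw [hil, hy, (show Commute f.z f.w from CentY.zw f).mul_pow, ← mul_assoc, ← pow_add,
      show i + (3 - l) + l = i + 3 by omega, pow_add, f.toLocalZ.z_cube, mul_one]
  have hrd : r * d * r⁻¹ = e * B := by
    rw [hd, ← conj_mul, hre, hA, hB, ← conj_mul, ← conj_mul, ← conj_inv, hre, hrt]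
  have hrrd : r * r * d * (r * r)⁻¹ = e * C := by
    rw [show r * r * d * (r * r)⁻¹ = r * (r * d * r⁻¹) * r⁻¹ by group, hrd, ← conj_mul, hre, hB,
      hC, ← conj_mul, ← conj_mul, ← conj_inv, hre, hrj]
  have hprod : d * (r * d * r⁻¹) * (r * r * d * (r * r)⁻¹) = e * e * N := by
    rw [hrd, hrrd, hd, hN]
    calc e * A * (e * B) * (e * C) = e * (A * e) * (B * e) * C := by group
      _ = e * (A * (e * e)) * B * C := by rw [hc hBJ he]; group
      _ = e * e * (e * A * (B * C)) := by rw [hc hAJ (mul_mem he he)]; group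
  have hzJ := CentY.z_mem_J f
  have hz1J : z1 ∈ f.J := hmem hrM hzJ
  have hz2J : z2 ∈ f.J := hmem (mul_mem hrM hrM) hzJ
  have hyJ : y ∈ f.J := y_mem_J f
  have hry2 : r * r * y * (r * r)⁻¹ = y := by
    rw [((show Commute r y from hry).mul_left (show Commute r y from hry)).eq,
      mul_inv_cancel_right]
  have hry1 : r * y * r⁻¹ = y := by rw [hry, mul_inv_cancel_right]
  have hprod2 : d * (r * d * r⁻¹) * (r * r * d * (r * r)⁻¹) = s ^ c * (y ^ l * y ^ l * y ^ l) := by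
    rw [hdc, ← conj_mul, ← conj_mul, ← conj_pow, ← conj_pow, ← conj_pow, ← conj_pow, hry1, hry2,
      ← hz1, ← hz2, hs, (show Commute (f.z * z1) z2 from hc (mul_mem hzJ hz1J) hz2J).mul_pow,
      (show Commute f.z z1 from hc hzJ hz1J).mul_pow]
    have hyl : ∀ {a}, a ∈ f.J → y ^ l * a = a * y ^ l := fun ha => hc (pow_mem hyJ l) ha
    calc f.z ^ c * y ^ l * (z1 ^ c * y ^ l) * (z2 ^ c * y ^ l)
        = f.z ^ c * (y ^ l * z1 ^ c) * (y ^ l * z2 ^ c) * y ^ l := by group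
      _ = f.z ^ c * z1 ^ c * (y ^ l * y ^ l * z2 ^ c) * y ^ l := by
          rw [hyl (pow_mem hz1J c)]; group
      _ = f.z ^ c * z1 ^ c * z2 ^ c * (y ^ l * y ^ l * y ^ l) := by
          rw [hc (mul_mem (pow_mem hyJ l) (pow_mem hyJ l)) (pow_mem hz2J c)]; group
  have hee : e * e ∈ P := by
    rw [show e * e = s ^ c * (y ^ l * y ^ l * y ^ l) * (y ^ n)⁻¹ by
      rw [← hprod2, hprod, hn, mul_inv_cancel_right]]
    exact mul_mem (mul_mem (pow_mem hsP c)
      (mul_mem (mul_mem (pow_mem hyP l) (pow_mem hyP l)) (pow_mem hyP l))) (inv_mem (pow_mem hyP n))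
  have he4 : e = e * e * (e * e) := by
    have := f.hJexp _ he
    rw [pow_succ, pow_two] at this
    rw [← mul_assoc, this, one_mul]
  rw [he4]
  exact mul_mem hee hee

/-- The centraliser of `s` modulo `⟨y⟩` normalises `J`. -/
theorem centS {g : G} (hgy : g * (f.z * f.w) = f.z * f.w * g)
    (hgs : ∃ i : ℕ, g * (f.z * (r * f.z * r⁻¹) * (r * r * f.z * (r * r)⁻¹)) * g⁻¹ =
      f.z * (r * f.z * r⁻¹) * (r * r * f.z * (r * r)⁻¹) * (f.z * f.w) ^ i) :
    g ∈ normalizer (f.J : Set G) := by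
  haveI : Fact (Nat.Prime 3) := ⟨Nat.prime_three⟩
  obtain ⟨i, hi⟩ := hgs
  set s := f.z * (r * f.z * r⁻¹) * (r * r * f.z * (r * r)⁻¹) with hs
  have hrN := f.M_le_normJ hrM
  have hrJ : r ∉ f.J := fun h => by
    apply tj_not_J f
    have h1 : r * f.t * r⁻¹ * f.t⁻¹ ∈ f.J := by
      rw [show r * f.t * r⁻¹ * f.t⁻¹ = r * (f.t * r⁻¹ * f.t⁻¹) by group]
      exact mul_mem h ((mem_normalizer_iff.mp (f.M_le_normJ f.t_mem_M) _).mp (inv_mem h))
    rwa [hrt, inv_eq_of_mul_eq_one_right (CentY.tt f), f.jt] at h1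
  -- a Sylow subgroup containing `J` and `r`
  have hJp : IsPGroup 3 f.J := IsPGroup.of_card (n := 4) (by rw [f.hJcard]; norm_num)
  have hrp : IsPGroup 3 (zpowers r) := by
    obtain ⟨k, -, hk⟩ := (Nat.dvd_prime_pow Nat.prime_three).1
      (orderOf_dvd_of_pow_eq_one (show r ^ 3 ^ 1 = 1 by rw [pow_one, hr3]))
    exact IsPGroup.of_card (n := k) (by rw [Nat.card_zpowers, hk])
  obtain ⟨T, hT⟩ := (hrp.to_sup_of_normal_right' hJp (zpowers_le.mpr hrN)).exists_le_sylow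
  obtain ⟨m, hm⟩ := MulAction.exists_smul_eq G f.S T
  have hin : ∀ q ∈ (T : Subgroup G), m⁻¹ * q * m ∈ (f.S : Subgroup G) := by
    intro q hq
    rw [← hm] at hq
    obtain ⟨q', hq', rfl⟩ := hq
    show m⁻¹ * (m * q' * m⁻¹) * m ∈ _
    rw [show m⁻¹ * (m * q' * m⁻¹) * m = q' by group]
    exact hq'
  have hmN : m ∈ normalizer (f.J : Set G) := by
    have := f.toHyp.conj_J_of_le (g := m⁻¹) fun a ha => by
      rw [inv_inv]; exact hin a (hT (mem_sup_right ha))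
    exact inv_inv m ▸ inv_mem this
  set r' := m⁻¹ * r * m with hr'
  have hr'S : r' ∈ (f.S : Subgroup G) := hin r (hT (mem_sup_left (mem_zpowers r)))
  have hr'J : r' ∉ f.J := fun h => by
    apply hrJ
    have := (mem_normalizer_iff.mp hmN _).mp h
    rwa [hr', show m * (m⁻¹ * r * m) * m⁻¹ = r by group] at this
  set v := m⁻¹ * (f.z * f.w) * m with hv
  have hvJ : v ∈ f.J := by
    have := (mem_normalizer_iff.mp (inv_mem hmN) _).mp (y_mem_J f)
    rwa [inv_inv] at this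
  have hvZ : v ∉ f.Z := fun h => y_not_conj_Z f (g := m⁻¹) (by rw [inv_inv]; exact h)
  have hvr : r' * v = v * r' := by
    calc r' * v = m⁻¹ * (r * (f.z * f.w)) * m := by rw [hr', hv]; group
      _ = v * r' := by rw [hry, hr', hv]; group
  have hvQ : v ∈ f.Q := by
    by_contra hvQ
    apply hr'J
    obtain ⟨a, ha, k, hak⟩ := S_eq f hr'S
    rw [hak] at hvr ⊢
    refine mul_mem (mem_J_of_cent f hvJ hvQ ha ?_) (pow_mem f.w_mem_J k)
    have := (show Commute (a * f.w ^ k) v from hvr).mul_left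
      (show Commute (f.w ^ k)⁻¹ v from f.hJcomm _ (inv_mem (pow_mem f.w_mem_J k)) _ hvJ)
    rw [mul_inv_cancel_right] at this
    exact this.eq
  set u := m * f.z * m⁻¹ with hu
  have huJ : u ∈ f.J := (mem_normalizer_iff.mp hmN _).mp (CentY.z_mem_J f)
  have hru : r * u = u * r := by
    have hzr := f.toLocalZ.z_comm_S hr'S
    calc r * u = m * (r' * f.z) * m⁻¹ := by rw [hr', hu]; group
      _ = u * r := by rw [hzr, hr', hu]; group
  have huP := fixed_r f hrM hry hr3 hrt hrj huJ hru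
  rw [← hs] at huP
  have hsJ : s ∈ f.J :=
    mul_mem (mul_mem (CentY.z_mem_J f) ((mem_normalizer_iff.mp hrN _).mp (CentY.z_mem_J f)))
      ((mem_normalizer_iff.mp (mul_mem hrN hrN) _).mp (CentY.z_mem_J f))
  obtain ⟨a, -, b, -, hab⟩ := (mem_closure_pair_cube (f.hJcomm _ hsJ _ (y_mem_J f))
    (f.hJexp _ hsJ) (y_cube f)).mp huP
  set y := f.z * f.w with hy
  have hgyb : g * y ^ b * g⁻¹ = y ^ b := by
    rw [((show Commute g y from hgy).pow_right b).eq, mul_inv_cancel_right]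
  have hgu : g * u * g⁻¹ = u * y ^ (i * a) := by
    rw [hab, ← conj_mul, ← conj_pow, hi, hgyb,
      (show Commute s (y ^ i) from f.hJcomm _ hsJ _ (pow_mem (y_mem_J f) i)).mul_pow, pow_mul,
      mul_assoc, mul_assoc, f.hJcomm _ (pow_mem (pow_mem (y_mem_J f) i) a) _
        (pow_mem (y_mem_J f) b)]
  set h := m⁻¹ * g * m with hh
  have hhz : h * f.z * h⁻¹ = f.z * v ^ (i * a) := by
    have hvp : v ^ (i * a) = m⁻¹ * y ^ (i * a) * m := by
      have h' := conj_pow (i := i * a) (a := m⁻¹) (b := y)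
      rwa [inv_inv] at h'
    calc h * f.z * h⁻¹ = m⁻¹ * (g * u * g⁻¹) * m := by rw [hh, hu]; group
      _ = f.z * v ^ (i * a) := by rw [hgu, hvp, hu]; group
  have hzQ : f.z ∈ f.J ⊓ f.Q := ⟨CentY.z_mem_J f, f.Z_le_Q (CentY.z_mem_Z f)⟩
  have hmem := conj_mem_Z f (h := h) (by
    rw [hhz]; exact mul_mem hzQ (pow_mem (⟨hvJ, hvQ⟩ : v ∈ f.J ⊓ f.Q) _))
  rw [hhz] at hmem
  have hvl : v ^ (i * a) ∈ f.Z := by
    have := mul_mem (inv_mem (CentY.z_mem_Z f)) hmem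
    rwa [inv_mul_cancel_left] at this
  have hv1 : v ^ (i * a) = 1 := by
    have hv3 := f.hJexp _ hvJ
    rw [pow_eq_pow_mod _ hv3] at hvl ⊢
    rcases (show i * a % 3 = 0 ∨ i * a % 3 = 1 ∨ i * a % 3 = 2 by omega) with q | q | q <;>
      rw [q] at hvl ⊢
    · rw [pow_zero]
    · rw [pow_one] at hvl; exact absurd hvl hvZ
    · have := pow_mem hvl 2
      rw [← pow_mul, pow_eq_pow_mod _ hv3, show 2 * 2 % 3 = 1 by norm_num, pow_one] at this
      exact absurd this hvZ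
  have hz : h * f.z = f.z * h := by
    rw [hv1, mul_one] at hhz
    exact mul_inv_eq_iff_eq_mul.mp hhz
  have hhv : h * v = v * h := by
    calc h * v = m⁻¹ * (g * y) * m := by rw [hh, hv]; group
      _ = v * h := by rw [hgy, hh, hv]; group
  have hhN := cent_pair f hz ⟨hvJ, hvQ⟩ hvZ hhv
  have := mul_mem (mul_mem hmN hhN) (inv_mem hmN)
  rwa [hh, show m * (m⁻¹ * g * m) * m⁻¹ = g by group] at this

end withR2

end CfsgLib.McLWeak.Frame
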