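import Cfsg.Agent.Lib.McLWeak.Defs
import Cfsg.Agent.Lib.CoprimeAction.Abelian
import Cfsg.Agent.Lib.OrderDegrees.BlockThree.Main

/-!
# The case `N(J) = 3³ : A₄` of the configuration: `J` is normal
-/

set_option autoImplicit false
set_option linter.unusedSectionVars false
set_option linter.style.haveILetI false
set_option linter.unusedDecidableInType false

namespace CfsgLib.McLWeak

open Subgroup

universe u

namespace Small

/-- Exponent vectors. -/
abbrev V3 : Type := ZMod 3 × ZMod 3 × ZMod 3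

/-- A coordinate. -/
def coord (v : V3) : Fin 3 → ZMod 3
  | 0 => v.1
  | 1 => v.2.1
  | 2 => v.2.2

/-- A basis vector. -/
def unit : Fin 3 → V3
  | 0 => (1, 0, 0)
  | 1 => (0, 1, 0)
  | 2 => (0, 0, 1)

/-- The cyclic shift, `k` times. -/
def shift (k : Fin 3) (v : V3) : V3 :=
  match k with
  | 0 => v
  | 1 => (v.2.2, v.1, v.2.1)
  | 2 => (v.2.1, v.2.2, v.1)

/-- The sign pattern of `a i`. -/
def sflip (i : Fin 3) (v : V3) : V3 :=
  match i with
  | 0 => (v.1, -v.2.1, -v.2.2)
  | 1 => (-v.1, v.2.1, -v.2.2)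
  | 2 => (-v.1, -v.2.1, v.2.2)

/-- The action of `r ^ k * a 1 ^ s * a 0 ^ t`. -/
def act (k : Fin 3) (s t : Bool) (v : V3) : V3 :=
  let v₀ := if t then sflip 0 v else v
  shift k (if s then sflip 1 v₀ else v₀)

/-- The points on an axis and the points off all coordinate planes. -/
def Easy (v : V3) : Prop :=
  v ≠ 0 ∧ ((v.1 = 0 ∧ v.2.1 = 0) ∨ (v.1 = 0 ∧ v.2.2 = 0) ∨ (v.2.1 = 0 ∧ v.2.2 = 0) ∨
    (v.1 ≠ 0 ∧ v.2.1 ≠ 0 ∧ v.2.2 ≠ 0))

instance : DecidablePred Easy := fun v => by unfold Easy; infer_instance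

theorem easy_cases : ∀ v : V3, Easy v → ∃ k : Fin 3, ∃ s t : Bool,
    v = act k s t (1, 0, 0) ∨ v = act k s t (1, 1, 1) ∨ -v = act k s t (1, 1, 1) ∨
      -v = act k s t (1, 0, 0) := by decide +kernel

theorem act_external : ∀ v : V3, v ≠ 0 → ¬ Easy v → ∀ (k : Fin 3) (s t : Bool),
    act k s t v = v → k = 0 ∧ s = false ∧ t = false := by decide +kernel

theorem two_planes : ∀ a b c d : ZMod 3, (a, b, (0 : ZMod 3)) ≠ (0 : V3) → ((0 : ZMod 3), c, d) ≠ (0 : V3) →
    ¬ Easy (a, b, 0) → ¬ Easy (0, c, d) →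
      Easy ((a, b, 0) + (0, c, d)) ∨ Easy ((a, b, 0) + -(0, c, d)) := by decide +kernel

theorem plane_low : ∀ i j : ZMod 3,
    i.val • ((1, 0, 0) : V3) + j.val • ((0, 1, 0) : V3) = 0 → i = 0 ∧ j = 0 := by decide +kernel

theorem plane_high : ∀ i j : ZMod 3,
    i.val • ((0, 1, 0) : V3) + j.val • ((0, 0, 1) : V3) = 0 → i = 0 ∧ j = 0 := by decide +kernel

theorem plane_shape : ∀ a b : ZMod 3,
    a.val • ((1, 0, 0) : V3) + b.val • ((0, 1, 0) : V3) = (a, b, 0) ∧
      a.val • ((0, 1, 0) : V3) + b.val • ((0, 0, 1) : V3) = (0, a, b) := by decide +kernel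

end Small

namespace Core

open CfsgLib.McLWeak.Small

variable {X : Type u} [Group X] (c : Core X)

/-- The element with given exponents. -/
def el (v : V3) : X := c.f 0 ^ v.1.val * c.f 1 ^ v.2.1.val * c.f 2 ^ v.2.2.val

theorem f_mem (k : Fin 3) : c.f k ∈ c.J := c.gen ▸ subset_closure (Set.mem_range_self k)

theorem el_mem (v : V3) : c.el v ∈ c.J :=
  mul_mem (mul_mem (pow_mem (c.f_mem 0) _) (pow_mem (c.f_mem 1) _)) (pow_mem (c.f_mem 2) _)

theorem el_zero : c.el 0 = 1 := by simp [el]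

theorem el_add (v w : V3) : c.el (v + w) = c.el v * c.el w := by
  have hp : ∀ (x : X), x ^ 3 = 1 → ∀ i j : ZMod 3, x ^ (i + j).val = x ^ i.val * x ^ j.val := by
    intro x hx i j
    rw [ZMod.val_add, ← pow_add, ← pow_eq_pow_mod _ hx]
  have hc : ∀ (i j : Fin 3) (m n : ℕ), Commute (c.f i ^ m) (c.f j ^ n) := fun i j m n =>
    Commute.pow_pow (c.J_comm _ (c.f_mem i) _ (c.f_mem j)) m n
  simp only [el, Prod.fst_add, Prod.snd_add, hp _ (c.f_cube _)]
  rw [((hc 2 0 v.2.2.val w.1.val).mul_right (hc 2 1 v.2.2.val w.2.1.val)).mul_mul_mul_comm,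
    (hc 1 0 v.2.1.val w.1.val).mul_mul_mul_comm]

theorem el_neg (v : V3) : c.el (-v) = (c.el v)⁻¹ :=
  eq_inv_of_mul_eq_one_left (by rw [← c.el_add, neg_add_cancel, c.el_zero])

theorem el_single : c.el (1, 0, 0) = c.f 0 ∧ c.el (0, 1, 0) = c.f 1 ∧ c.el (0, 0, 1) = c.f 2 := by
  have h0 : (0 : ZMod 3).val = 0 := rfl
  have h1 : (1 : ZMod 3).val = 1 := rfl
  refine ⟨?_, ?_, ?_⟩ <;> simp [el, h0, h1]

theorem el_surj {x : X} (hx : x ∈ c.J) : ∃ v, c.el v = x := by
  rw [← c.gen] at hx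
  induction hx using closure_induction with
  | mem x hx =>
    obtain ⟨k, rfl⟩ := hx
    fin_cases k
    exacts [⟨_, c.el_single.1⟩, ⟨_, c.el_single.2.1⟩, ⟨_, c.el_single.2.2⟩]
  | one => exact ⟨0, c.el_zero⟩
  | mul x y _ _ hx hy =>
    obtain ⟨v, rfl⟩ := hx
    obtain ⟨w, rfl⟩ := hy
    exact ⟨v + w, c.el_add v w⟩
  | inv x _ hx =>
    obtain ⟨v, rfl⟩ := hx
    exact ⟨-v, c.el_neg v⟩

theorem el_inj : Function.Injective c.el := by
  haveI : Finite c.J := Nat.finite_of_card_ne_zero (by rw [c.card_J]; norm_num)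
  have hb : Function.Surjective (fun v => (⟨c.el v, c.el_mem v⟩ : c.J)) := fun x =>
    (c.el_surj x.2).imp fun v hv => Subtype.ext hv
  have hb' := hb.bijective_of_nat_card_le (by
    rw [c.card_J, Nat.card_eq_fintype_card, Fintype.card_prod, Fintype.card_prod, ZMod.card])
  intro v w h
  exact hb'.1 (Subtype.ext h)

theorem el_ne_one {v : V3} (hv : v ≠ 0) : c.el v ≠ 1 := fun h =>
  hv (c.el_inj (h.trans c.el_zero.symm))

/-- Conjugation is determined by the images of the generators. -/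
theorem conj_el (g : X) (v₀ v₁ v₂ : V3) (h₀ : g * c.f 0 * g⁻¹ = c.el v₀)
    (h₁ : g * c.f 1 * g⁻¹ = c.el v₁) (h₂ : g * c.f 2 * g⁻¹ = c.el v₂) (v : V3) :
    g * c.el v * g⁻¹ = c.el (v.1.val • v₀ + v.2.1.val • v₁ + v.2.2.val • v₂) := by
  have hs : ∀ (n : ℕ) (w : V3), c.el w ^ n = c.el (n • w) := by
    intro n w
    induction n with
    | zero => rw [pow_zero, zero_smul, c.el_zero]
    | succ n ih => rw [pow_succ, ih, succ_nsmul, c.el_add]
  rw [c.el_add, c.el_add, ← hs, ← hs, ← hs, ← h₀, ← h₁, ← h₂, conj_pow, conj_pow, conj_pow, el]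
  group

theorem el_unit (j : Fin 3) : c.el (unit j) = c.f j := by
  obtain ⟨e0, e1, e2⟩ := c.el_single
  fin_cases j
  exacts [e0, e1, e2]

theorem r_el (v : V3) : c.r * c.el v * c.r⁻¹ = c.el (shift 1 v) := by
  rw [c.conj_el c.r (0, 1, 0) (0, 0, 1) (1, 0, 0) (by rw [c.r_f]; exact c.el_single.2.1.symm)
    (by rw [c.r_f]; exact c.el_single.2.2.symm) (by rw [c.r_f]; exact c.el_single.1.symm)]
  congr 1
  revert v
  decide +kernel

theorem a_el (i : Fin 3) (v : V3) : c.a i * c.el v * (c.a i)⁻¹ = c.el (sflip i v) := by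
  have h1 : ∀ i : Fin 3, sflip i (unit i) = unit i := by decide +kernel
  have h2 : ∀ i j : Fin 3, j ≠ i → sflip i (unit j) = -unit j := by decide +kernel
  have key : ∀ j : Fin 3, c.a i * c.f j * (c.a i)⁻¹ = c.el (sflip i (unit j)) := by
    intro j
    by_cases hij : j = i
    · subst hij
      rw [c.a_fix, h1, c.el_unit]
    · rw [c.a_inv i j hij, h2 i j hij, c.el_neg, c.el_unit]
  rw [c.conj_el (c.a i) _ _ _ (key 0) (key 1) (key 2)]
  congr 1
  clear key
  revert i v
  decide +kernel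

theorem shift_el : ∀ (k : Fin 3) (v : V3),
    c.r ^ k.val * c.el v * (c.r ^ k.val)⁻¹ = c.el (shift k v) := by
  intro k v
  fin_cases k
  · simp [shift]
  · simpa using c.r_el v
  · show c.r ^ 2 * c.el v * (c.r ^ 2)⁻¹ = _
    rw [show c.r ^ 2 * c.el v * (c.r ^ 2)⁻¹ = c.r * (c.r * c.el v * c.r⁻¹) * c.r⁻¹ by
      simp [pow_two, mul_assoc], c.r_el,
      c.r_el]
    rfl

/-- The element `r ^ k * a 1 ^ s * a 0 ^ t`. -/
def word (k : Fin 3) (s t : Bool) : X :=
  c.r ^ k.val * (if s then c.a 1 else 1) * (if t then c.a 0 else 1)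

theorem word_el (k : Fin 3) (s t : Bool) (v : V3) :
    c.word k s t * c.el v * (c.word k s t)⁻¹ = c.el (act k s t v) := by
  have h0 : (if t then c.a 0 else 1) * c.el v * (if t then c.a 0 else 1)⁻¹ =
      c.el (if t then sflip 0 v else v) := by
    cases t
    · simp
    · simpa using c.a_el 0 v
  set v₀ := if t then sflip 0 v else v with hv₀
  have h1 : (if s then c.a 1 else 1) * c.el v₀ * (if s then c.a 1 else 1)⁻¹ =
      c.el (if s then sflip 1 v₀ else v₀) := by
    cases s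
    · simp
    · simpa using c.a_el 1 v₀
  rw [word, act, ← hv₀, ← c.shift_el, ← h1, ← h0]
  group

variable [Finite X]

theorem mem_norm_of_el {g : X} (h : ∀ v, ∃ w, g * c.el v * g⁻¹ = c.el w) :
    g ∈ normalizer (c.J : Set X) := by
  have hle : c.J.map (MulAut.conj g).toMonoidHom ≤ c.J := by
    rintro _ ⟨x, hx, rfl⟩
    obtain ⟨v, rfl⟩ := c.el_surj hx
    obtain ⟨w, hw⟩ := h v
    show g * c.el v * g⁻¹ ∈ c.J
    rw [hw]; exact c.el_mem w
  have he : c.J.map (MulAut.conj g).toMonoidHom = c.J := Subgroup.eq_of_le_of_card_ge hle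
    (by rw [Subgroup.card_map_of_injective (MulAut.conj g).injective])
  rw [mem_normalizer_iff]
  intro x
  conv_rhs => rw [← he]
  exact ⟨fun hx => ⟨x, hx, rfl⟩, fun ⟨y, hy, e⟩ => by
    rwa [← (MulAut.conj g).injective e]⟩

theorem word_mem (k : Fin 3) (s t : Bool) : c.word k s t ∈ normalizer (c.J : Set X) :=
  c.mem_norm_of_el fun v => ⟨_, c.word_el k s t v⟩

/-- The centralisers of the points on axes and off the planes lie in `N(J)`. -/
theorem cent_easy {v : V3} (hv : Easy v) :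
    centralizer ({c.el v} : Set X) ≤ normalizer (c.J : Set X) := by
  have hinv : ∀ w, centralizer ({c.el (-w)} : Set X) = centralizer ({c.el w} : Set X) := fun w => by
    ext g
    rw [mem_centralizer_singleton_iff, mem_centralizer_singleton_iff, c.el_neg]
    exact Commute.inv_right_iff (a := g) (b := c.el w)
  have hbase : ∀ w : V3, w = (1, 0, 0) ∨ w = (1, 1, 1) →
      centralizer ({c.el w} : Set X) ≤ normalizer (c.J : Set X) := by
    rintro w (rfl | rfl)
    · rw [c.el_single.1]; exact c.centF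
    · have h1 : (1 : ZMod 3).val = 1 := rfl
      have : c.el (1, 1, 1) = c.f 0 * c.f 1 * c.f 2 := by simp [el, h1]
      rw [this]; exact c.centS
  have hconj : ∀ (k : Fin 3) (s t : Bool) (w : V3), w = (1, 0, 0) ∨ w = (1, 1, 1) →
      centralizer ({c.el (act k s t w)} : Set X) ≤ normalizer (c.J : Set X) := by
    intro k s t w hw g hg
    rw [mem_centralizer_singleton_iff, ← c.word_el] at hg
    set a := c.word k s t
    have h1 : a⁻¹ * g * a ∈ normalizer (c.J : Set X) := by
      refine hbase w hw (mem_centralizer_singleton_iff.2 ?_)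
      calc a⁻¹ * g * a * c.el w = a⁻¹ * (g * (a * c.el w * a⁻¹)) * a := by group
        _ = a⁻¹ * ((a * c.el w * a⁻¹) * g) * a := by rw [hg]
        _ = _ := by group
    have := mul_mem (mul_mem (c.word_mem k s t) h1) (inv_mem (c.word_mem k s t))
    simpa [a, mul_assoc] using this
  obtain ⟨k, s, t, h | h | h | h⟩ := easy_cases v hv
  · rw [h]; exact hconj k s t _ (Or.inl rfl)
  · rw [h]; exact hconj k s t _ (Or.inr rfl)
  · rw [← hinv, h]; exact hconj k s t _ (Or.inr rfl)
  · rw [← hinv, h]; exact hconj k s t _ (Or.inl rfl)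

/-- The elements of `N(J)` act as the signed cyclic permutations. -/
theorem norm_act (hs : c.IsSmall) {g : X} (hg : g ∈ normalizer (c.J : Set X)) :
    ∃ k s t, g * (c.word k s t)⁻¹ ∈ c.J := by
  obtain ⟨k, hk⟩ := c.perm g hg
  have hrk : ∀ v, c.r ^ k.val * c.el v * (c.r ^ k.val)⁻¹ = c.el (shift k v) := c.shift_el k
  have hfk : c.el (shift k (1, 0, 0)) = c.f k := by
    obtain ⟨e0, e1, e2⟩ := c.el_single
    fin_cases k
    exacts [e0, e1, e2]
  set R := c.r ^ k.val with hR
  have hR0 : R * c.f 0 * R⁻¹ = c.f k := by rw [← c.el_single.1, hrk, hfk]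
  have hRN : R ∈ normalizer (c.J : Set X) := c.mem_norm_of_el fun v => ⟨_, hrk v⟩
  have haN : ∀ i, c.a i ∈ normalizer (c.J : Set X) := fun i =>
    c.mem_norm_of_el fun v => ⟨_, c.a_el i v⟩
  obtain ⟨s, hs'⟩ : ∃ s : Bool,
      ((if s then c.a 1 else 1)⁻¹ * R⁻¹ * g) * c.f 0 * ((if s then c.a 1 else 1)⁻¹ * R⁻¹ * g)⁻¹ =
        c.f 0 := by
    rcases hk with hk | hk
    · refine ⟨false, ?_⟩
      calc _ = R⁻¹ * (g * c.f 0 * g⁻¹) * R := by simp [mul_assoc]
        _ = c.f 0 := by rw [hk, ← hR0]; group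
    · refine ⟨true, ?_⟩
      have ha : (c.a 1)⁻¹ = c.a 1 := inv_eq_of_mul_eq_one_right (c.a_sq 1)
      calc _ = (c.a 1)⁻¹ * (R⁻¹ * (g * c.f 0 * g⁻¹) * R) * c.a 1 := by simp [mul_assoc]
        _ = c.a 1 * (c.f 0)⁻¹ * (c.a 1)⁻¹ := by rw [hk, ← hR0, ha]; group
        _ = (c.a 1 * c.f 0 * (c.a 1)⁻¹)⁻¹ := by group
        _ = c.f 0 := by rw [c.a_inv 1 0 (by decide), inv_inv]
  set h := (if s then c.a 1 else 1)⁻¹ * R⁻¹ * g with hh
  have hS : (if s then c.a 1 else 1) ∈ normalizer (c.J : Set X) := by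
    cases s
    · exact one_mem _
    · exact haN 1
  have hhN : h ∈ normalizer (c.J : Set X) := mul_mem (mul_mem (inv_mem hS) (inv_mem hRN)) hg
  obtain ⟨t, ht⟩ : ∃ t : Bool, h * (if t then c.a 0 else 1) ∈ c.J := by
    rcases hs h hhN hs' with h' | h'
    · exact ⟨false, by simpa using h'⟩
    · exact ⟨true, by simpa using h'⟩
  refine ⟨k, s, t, ?_⟩
  have ht' : (if t then c.a 0 else 1)⁻¹ = (if t then c.a 0 else 1) := by
    cases t
    · simp
    · simpa using inv_eq_of_mul_eq_one_right (c.a_sq 0)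
  have e : g * (c.word k s t)⁻¹ =
      (R * (if s then c.a 1 else 1)) * (h * (if t then c.a 0 else 1)) *
        (R * (if s then c.a 1 else 1))⁻¹ := by
    rw [word, ← hR, hh, mul_inv_rev, ht']
    group
  rw [e]
  exact (mem_normalizer_iff.1 (mul_mem hRN hS) _).1 ht

/-- A `3'`-subgroup invariant under `J` is generated by the centralisers of the elements of a plane. -/
theorem le_of_plane (p q : V3)
    (hpq : ∀ i j : ZMod 3, i.val • p + j.val • q = 0 → i = 0 ∧ j = 0) {K H : Subgroup X}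
    (hcop : (Nat.card K).Coprime 3) (hKn : c.J ≤ normalizer (K : Set X))
    (hH : ∀ i j : ZMod 3, i.val • p + j.val • q ≠ 0 →
      K ⊓ centralizer ({c.el (i.val • p + j.val • q)} : Set X) ≤ H) : K ≤ H := by
  set A : Subgroup X := closure {c.el p, c.el q} with hA
  have hAJ : A ≤ c.J := (closure_le _).2 (by
    rintro y (rfl | rfl) <;> exact c.el_mem _)
  haveI : IsMulCommutative A := ⟨⟨fun a b => Subtype.ext (c.J_comm _ (hAJ a.2) _ (hAJ b.2))⟩⟩
  have hform : ∀ y ∈ A, ∃ i j : ZMod 3, y = c.el (i.val • p + j.val • q) := by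
    intro y hy
    have hsm : ∀ (w : V3) (m n : ZMod 3), (m + n).val • w = m.val • w + n.val • w := by
      decide +kernel
    have hsn : ∀ (w : V3) (m : ZMod 3), (-m).val • w = -(m.val • w) := by decide +kernel
    induction hy using closure_induction with
    | mem z hz =>
      rcases hz with rfl | rfl
      · exact ⟨1, 0, by simp [show (1 : ZMod 3).val = 1 from rfl]⟩
      · exact ⟨0, 1, by simp [show (1 : ZMod 3).val = 1 from rfl]⟩
    | one => exact ⟨0, 0, by simp [c.el_zero]⟩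
    | mul z z' _ _ hz hz' =>
      obtain ⟨i, j, rfl⟩ := hz
      obtain ⟨i', j', rfl⟩ := hz'
      exact ⟨i + i', j + j', by rw [← c.el_add, hsm, hsm]; congr 1; abel⟩
    | inv z _ hz =>
      obtain ⟨i, j, rfl⟩ := hz
      exact ⟨-i, -j, by rw [← c.el_neg, hsn, hsn, neg_add]⟩
  have hncyc : ¬ IsCyclic A := by
    intro hcyc
    obtain ⟨g, hg⟩ := IsCyclic.exists_zpow_surjective (G := A)
    have hg3 : (g : X) ^ 3 = 1 := by
      obtain ⟨w, hw⟩ := c.el_surj (hAJ g.2)
      rw [← hw, pow_succ, pow_two, ← c.el_add, ← c.el_add]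
      have : ∀ w : V3, w + w + w = 0 := by decide +kernel
      rw [this, c.el_zero]
    have hcard : Nat.card A ≤ 3 := by
      rw [← Nat.card_congr (Equiv.subtypeUnivEquiv (p := fun y : A => y ∈ (⊤ : Subgroup A)) fun _ => trivial)]
      have htop : (⊤ : Subgroup A) = zpowers g := by
        ext y; simpa [mem_zpowers_iff] using hg y
      show Nat.card (⊤ : Subgroup A) ≤ 3
      rw [htop, Nat.card_zpowers]
      exact orderOf_le_of_pow_eq_one (by norm_num) (Subtype.ext (by simpa using hg3))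
    have hinj : Function.Injective (fun ij : ZMod 3 × ZMod 3 =>
        (⟨c.el (ij.1.val • p + ij.2.val • q), by
          rw [c.el_add]
          refine mul_mem ?_ ?_
          · induction ij.1.val with
            | zero => rw [zero_smul, c.el_zero]; exact one_mem _
            | succ n ih => rw [succ_nsmul, c.el_add]; exact mul_mem ih (subset_closure (by simp))
          · induction ij.2.val with
            | zero => rw [zero_smul, c.el_zero]; exact one_mem _
            | succ n ih => rw [succ_nsmul, c.el_add]; exact mul_mem ih (subset_closure (by simp))⟩ : A)) := by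
      intro a b e
      have e' := c.el_inj (congrArg Subtype.val e)
      have hsub : ∀ (w : V3) (m n : ZMod 3), (m - n).val • w = m.val • w - n.val • w := by
        decide +kernel
      obtain ⟨h1, h2⟩ := hpq (a.1 - b.1) (a.2 - b.2) (by
        rw [hsub, hsub, sub_add_sub_comm, e', sub_self])
      exact Prod.ext (sub_eq_zero.1 h1) (sub_eq_zero.1 h2)
    have := Nat.card_le_card_of_injective _ hinj
    rw [Nat.card_eq_fintype_card, Fintype.card_prod, ZMod.card] at this
    omega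
  refine CfsgLib.CoprimeAction.le_of_centralizers hncyc (fun y hy => hKn (hAJ hy)) ?_ ?_
  · refine Nat.Coprime.coprime_dvd_left (card_dvd_of_le hAJ) ?_
    rw [c.card_J, show 27 = 3 ^ 3 from rfl]
    exact (Nat.Coprime.pow_left 3 hcop.symm)
  · intro y hy hy1
    obtain ⟨i, j, rfl⟩ := hform y hy
    exact hH i j fun h => hy1 (by rw [h, c.el_zero])

/-- All centralisers of nontrivial elements of `J` lie in `N(J)`. -/
theorem cent_le_of_small (hs : c.IsSmall) {x : X} (hx : x ∈ c.J) (hx1 : x ≠ 1) :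
    centralizer ({x} : Set X) ≤ normalizer (c.J : Set X) := by
  obtain ⟨v, rfl⟩ := c.el_surj hx
  have hv : v ≠ 0 := fun h => hx1 (h ▸ c.el_zero)
  by_cases he : Easy v
  · exact c.cent_easy he
  haveI : Fact (Nat.Prime 3) := ⟨Nat.prime_three⟩
  set C := centralizer ({c.el v} : Set X) with hC
  have hJC : c.J ≤ C := fun y hy => mem_centralizer_singleton_iff.2 (c.J_comm y hy _ hx)
  have hNC : normalizer (c.J : Set X) ⊓ C ≤ c.J := by
    rintro g ⟨hgN, hgC⟩
    obtain ⟨k, s, t, hj⟩ := c.norm_act hs hgN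
    set j := g * (c.word k s t)⁻¹ with hjdef
    have hg : g = j * c.word k s t := by rw [hjdef, inv_mul_cancel_right]
    have hgv : g * c.el v * g⁻¹ = c.el v := mul_inv_eq_iff_eq_mul.2 (mem_centralizer_singleton_iff.1 hgC)
    have : c.el (act k s t v) = c.el v := by
      calc c.el (act k s t v) = j * c.el (act k s t v) * j⁻¹ := by
            rw [c.J_comm j hj _ (c.el_mem _), mul_inv_cancel_right]
        _ = g * c.el v * g⁻¹ := by rw [← c.word_el, hg]; group
        _ = c.el v := hgv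
    obtain ⟨rfl, rfl, rfl⟩ := act_external v hv he k s t (c.el_inj this)
    rw [hg]
    simpa [word] using hj
  have hp : IsPGroup 3 (c.J.subgroupOf C) :=
    (IsPGroup.of_card (n := 3) (by rw [c.card_J]; norm_num) : IsPGroup 3 c.J).of_equiv
      (subgroupOfEquivOfLe hJC).symm
  obtain ⟨P, hP⟩ := hp.exists_le_sylow
  have hcomm : c.J.subgroupOf C = (P : Subgroup C) := by
    by_contra hne
    have hlt : (c.J.subgroupOf C).subgroupOf (P : Subgroup C) < ⊤ := lt_top_iff_ne_top.2 fun h =>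
      hne (le_antisymm hP (subgroupOf_eq_top.1 h))
    haveI := P.2.isNilpotent
    obtain ⟨y, hyn, hy⟩ := SetLike.exists_of_lt (Group.normalizerCondition_of_isNilpotent _ hlt)
    apply hy
    show ((y : C) : X) ∈ c.J
    refine hNC ⟨c.mem_norm_of_el fun w => ?_, (y : C).2⟩
    have hw : c.el w ∈ C := hJC (c.el_mem w)
    have h1 := (mem_normalizer_iff.1 hyn ⟨⟨c.el w, hw⟩, hP (c.el_mem w)⟩).1 (c.el_mem w)
    exact (c.el_surj (x := ((y : C) : X) * c.el w * ((y : C) : X)⁻¹) h1).imp fun _ e => e.symm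
  have hN : normalizer ((P : Subgroup C) : Set C) ≤ centralizer ((P : Subgroup C) : Set C) := by
    intro g hg
    have hgJ : (g : X) ∈ c.J := by
      refine hNC ⟨c.mem_norm_of_el fun w => ?_, g.2⟩
      have hw : (⟨c.el w, hJC (c.el_mem w)⟩ : C) ∈ (P : Subgroup C) := hP (c.el_mem w)
      have h1 := (mem_normalizer_iff.1 hg _).1 hw
      rw [← hcomm] at h1
      exact (c.el_surj (x := (g : X) * c.el w * (g : X)⁻¹) h1).imp fun _ e => e.symm
    rw [mem_centralizer_iff]
    intro y hy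
    rw [SetLike.mem_coe, ← hcomm] at hy
    exact Subtype.ext (c.J_comm _ hy _ hgJ)
  obtain ⟨W, hWn, hcompl, h3⟩ : ∃ W : Subgroup C, W.Normal ∧
      IsComplement' W (P : Subgroup C) ∧ ¬ 3 ∣ Nat.card W :=
    ⟨_, MonoidHom.normal_ker _, MonoidHom.ker_transferSylow_isComplement' P hN,
      MonoidHom.not_dvd_card_ker_transferSylow P hN⟩
  set WX := W.map C.subtype with hWX
  have hWC : WX ≤ C := map_subtype_le _
  have hWJ : WX ⊓ c.J = ⊥ := by
    rw [eq_bot_iff]
    rintro x ⟨⟨y, hy, rfl⟩, hyJ⟩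
    have : y ∈ W ⊓ (P : Subgroup C) := ⟨hy, hcomm.le hyJ⟩
    rw [hcompl.disjoint.eq_bot, mem_bot] at this
    simp [this]
  have hnorm : c.J ≤ normalizer (WX : Set X) := fun y hy => by
    have hn : ∀ z ∈ C, ∀ w ∈ WX, z * w * z⁻¹ ∈ WX := by
      rintro z hz _ ⟨w, hw, rfl⟩
      exact ⟨⟨z, hz⟩ * w * ⟨z, hz⟩⁻¹, hWn.conj_mem w hw _, rfl⟩
    rw [mem_normalizer_iff]
    refine fun w => ⟨hn y (hJC hy) w, fun h => ?_⟩
    have := hn y⁻¹ (inv_mem (hJC hy)) _ h
    simpa [mul_assoc] using this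
  have hfix : ∀ K : Subgroup X, K ≤ WX → K ≤ normalizer (c.J : Set X) → K = ⊥ := by
    intro K hK hKN
    rw [eq_bot_iff, ← hWJ]
    exact fun x hx => ⟨hK hx, hNC ⟨hKN hx, hWC (hK hx)⟩⟩
  have hWbot : WX = ⊥ := by
    have hcop : (Nat.card WX).Coprime 3 := by
      rw [hWX, Subgroup.card_map_of_injective C.subtype_injective]
      exact ((Nat.Prime.coprime_iff_not_dvd Nat.prime_three).2 h3).symm
    refine le_bot_iff.1 (c.le_of_plane (1, 0, 0) (0, 1, 0) plane_low hcop (K := WX) hnorm ?_)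
    intro i j hij
    set e1 := i.val • ((1, 0, 0) : V3) + j.val • (0, 1, 0) with he1
    by_cases hE : Easy e1
    · exact (hfix _ inf_le_left (inf_le_right.trans (c.cent_easy hE))).le
    have hK1 : c.J ≤ normalizer ((WX ⊓ centralizer ({c.el e1} : Set X) : Subgroup X) : Set X) := by
      intro y hy
      have hyC : y ∈ centralizer ({c.el e1} : Set X) :=
        mem_centralizer_singleton_iff.2 (c.J_comm y hy _ (c.el_mem _))
      rw [mem_normalizer_iff]
      intro w
      simp only [mem_inf]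
      refine and_congr (mem_normalizer_iff.1 (hnorm hy) w) ⟨fun hw => mul_mem (mul_mem hyC hw) (inv_mem hyC),
        fun hw => ?_⟩
      have := mul_mem (mul_mem (inv_mem hyC) hw) hyC
      simpa [mul_assoc] using this
    refine c.le_of_plane (0, 1, 0) (0, 0, 1) plane_high (hcop.coprime_dvd_left (card_dvd_of_le inf_le_left)) hK1 ?_
    intro i' j' hij'
    set e2 := i'.val • ((0, 1, 0) : V3) + j'.val • (0, 0, 1) with he2
    refine (hfix _ (inf_le_left.trans inf_le_left) ?_).le
    by_cases hE2 : Easy e2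
    · exact inf_le_right.trans (c.cent_easy hE2)
    have hshape := plane_shape
    have hboth : ∀ w, w ∈ WX ⊓ centralizer ({c.el e1} : Set X) ⊓ centralizer ({c.el e2} : Set X) →
        w ∈ centralizer ({c.el (e1 + e2)} : Set X) ∧ w ∈ centralizer ({c.el (e1 + -e2)} : Set X) := by
      rintro w ⟨⟨-, h1⟩, h2⟩
      replace h1 : w * c.el e1 = c.el e1 * w := mem_centralizer_singleton_iff.1 h1
      replace h2 : w * c.el e2 = c.el e2 * w := mem_centralizer_singleton_iff.1 h2
      rw [mem_centralizer_singleton_iff, mem_centralizer_singleton_iff, c.el_add e1 e2, c.el_add e1 (-e2),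
        c.el_neg e2]
      exact ⟨(Commute.mul_right h1 h2).eq, (Commute.mul_right h1 (Commute.inv_right h2)).eq⟩
    rw [he1, (hshape i j).1] at hE hij
    rw [he2, (hshape i' j').2] at hE2 hij'
    intro w hw
    obtain ⟨hw1, hw2⟩ := hboth w hw
    rw [he1, (hshape i j).1, he2, (hshape i' j').2] at hw1 hw2
    rcases two_planes i j i' j' hij hij' hE hE2 with h | h
    · exact c.cent_easy h hw1
    · exact c.cent_easy h hw2
  have hWb : W = ⊥ := (Subgroup.map_eq_bot_iff_of_injective W C.subtype_injective).1 hWbot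
  intro y hy
  have htop : (P : Subgroup C) = ⊤ := by
    have := hcompl.sup_eq_top
    rwa [hWb, bot_sup_eq] at this
  have hyP : (⟨y, hy⟩ : C) ∈ (P : Subgroup C) := htop ▸ mem_top _
  rw [← hcomm] at hyP
  exact le_normalizer hyP

end Core

end CfsgLib.McLWeak
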